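import Cfsg.Agent.CharDeep.Expand

/-!
# Small character-theoretic tools for involution counting
-/

set_option autoImplicit false

namespace Cfsg.Agent.InvChar68

open Subgroup CharDeep BlocksCore
open scoped ComplexConjugate

variable {G : Type*} [Group G] [Finite G]

/-- The class of `x` has `[G : C(x)]` elements. -/
theorem card_isConj_mul_card_centralizer (x : G) :
    Nat.card {y : G // IsConj x y} * Nat.card (centralizer ({x} : Set G)) = Nat.card G := by
  have h1 := Subgroup.index_mul_card (centralizer ({x} : Set G))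
  have h2 : (centralizer ({x} : Set G)).index = Nat.card {y : G // IsConj x y} := by
    rw [Subgroup.centralizer_eq_comap_stabilizer]
    refine (Subgroup.index_comap_of_surjective _ (ConjAct.toConjAct (G := G)).surjective).trans ?_
    rw [MulAction.index_stabilizer, ← Nat.card_coe_set_eq]
    refine Nat.card_congr (Equiv.subtypeEquivRight fun y => ?_)
    rw [ConjAct.mem_orbit_conjAct, isConj_comm]
  rw [← h2]; exact h1

theorem card_isConj_eq (x : G) :
    Nat.card {y : G // IsConj x y} = (centralizer ({x} : Set G)).index := by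
  have h1 := card_isConj_mul_card_centralizer x
  rw [← Subgroup.index_mul_card (centralizer ({x} : Set G))] at h1
  exact Nat.eq_of_mul_eq_mul_right Nat.card_pos h1

/-- The values of a character at an involution are integers congruent to the degree mod 2. -/
theorem exists_int_value_involution {x : G} (hx : orderOf x = 2) (χ : Cfsg.IrrCharacter G) {d : ℕ}
    (hd : (χ : G → ℂ) 1 = d) : ∃ a : ℤ, (χ : G → ℂ) x = a ∧ 2 ∣ a + d := by
  obtain ⟨n, ρ, -, hρ⟩ := χ.2
  obtain ⟨b, ω, hω, -, -, hk⟩ := CharCore.exists_eigenvalues ρ x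
  rw [hx] at hω
  have hcase : ∀ i, ∃ u : ℤ, ω i = u ∧ 2 ∣ u + 1 := by
    intro i
    rcases sq_eq_one_iff.mp (hω i) with h | h
    · exact ⟨1, by simp [h], by norm_num⟩
    · exact ⟨-1, by simp [h], by norm_num⟩
  choose u hu hp using hcase
  have h1 : (χ : G → ℂ) x = ((∑ i, u i : ℤ) : ℂ) := by
    rw [← hρ, show x = x ^ 1 from (pow_one x).symm, hk]; simp [hu]
  have h0 : (d : ℤ) = ∑ _i : Fin (Module.finrank ℂ (Fin n → ℂ)), (1 : ℤ) := by
    have h2 : (χ : G → ℂ) 1 = ∑ i, ω i ^ 0 := by
      rw [← hρ, show (1 : G) = x ^ 0 from (pow_zero x).symm, hk]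
    rw [hd] at h2
    simp only [pow_zero, Finset.sum_const, Finset.card_univ, nsmul_eq_mul, mul_one] at h2 ⊢
    exact_mod_cast h2
  refine ⟨_, h1, ?_⟩
  rw [h0, ← Finset.sum_add_distrib]
  exact Finset.dvd_sum fun i _ => hp i

variable [Fintype G]

/-- Orthogonality of the first column with any other column. -/
theorem sum_degree_mul_eq_zero (d : Cfsg.IrrCharacter G → ℕ)
    (hd : ∀ χ : Cfsg.IrrCharacter G, (χ : G → ℂ) 1 = d χ) {x : G} (hx : x ≠ 1) :
    ∑ χ : Cfsg.IrrCharacter G, (d χ : ℂ) * (χ : G → ℂ) x = 0 := by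
  have h := sum_irr_mul_conj (1 : G) x
  rw [classInd_apply_of_not_isConj (fun hh => hx (isConj_one_right.mp hh)), mul_zero,
    mul_eq_zero, or_iff_right (class_card_ne_zero _)] at h
  have h' := congrArg conj h
  simp only [map_sum, map_mul, Complex.conj_conj, map_zero, hd, map_natCast] at h'
  exact h'

/-- Column orthogonality, in the diagonal. -/
theorem sum_mul_conj_self (x : G) :
    ∑ χ : Cfsg.IrrCharacter G, (χ : G → ℂ) x * conj ((χ : G → ℂ) x) =
      (Nat.card (centralizer ({x} : Set G)) : ℂ) := by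
  have h := sum_irr_mul_conj x x
  rw [classInd_apply_of_isConj (IsConj.refl x), mul_one, ← card_isConj_mul_card_centralizer x,
    Nat.cast_mul] at h
  exact mul_left_cancel₀ (class_card_ne_zero x) h

/-- Column orthogonality, off the diagonal. -/
theorem sum_mul_conj_eq_zero {x y : G} (h : ¬ IsConj x y) :
    ∑ χ : Cfsg.IrrCharacter G, (χ : G → ℂ) x * conj ((χ : G → ℂ) y) = 0 := by
  have h1 := sum_irr_mul_conj x y
  rw [classInd_apply_of_not_isConj h, mul_zero, mul_eq_zero, or_iff_right (class_card_ne_zero _)] at h1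
  exact h1

/-- The class multiplication coefficient of a class with itself. -/
theorem card_pairs_mul_card (a g : G) :
    (Nat.card {p : G × G // IsConj a p.1 ∧ IsConj a p.2 ∧ p.1 * p.2 = g} : ℂ) * Nat.card G =
      (Nat.card {y : G // IsConj a y} : ℂ) ^ 2 *
        ∑ χ : Cfsg.IrrCharacter G, (χ : G → ℂ) a ^ 2 * conj ((χ : G → ℂ) g) / (χ : G → ℂ) 1 := by
  have hcf : Cfsg.IsClassFunction G (conv (classInd a) (classInd a)) := by
    intro y h
    rw [conv_classInd_apply, conv_classInd_apply]
    norm_cast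
    refine Nat.card_congr (Equiv.subtypeEquiv
      (Equiv.prodCongr (MulAut.conj h).symm.toEquiv (MulAut.conj h).symm.toEquiv) fun x => ?_)
    simp only [Equiv.prodCongr_apply, Prod.map, MulEquiv.toEquiv_eq_coe, EquivLike.coe_coe,
      MulAut.conj_symm_apply]
    refine and_congr ?_ (and_congr ?_ ?_)
    · exact ⟨fun hh => hh.trans (isConj_iff.mpr ⟨h⁻¹, by simp⟩),
        fun hh => hh.trans (isConj_iff.mpr ⟨h, by group⟩)⟩
    · exact ⟨fun hh => hh.trans (isConj_iff.mpr ⟨h⁻¹, by simp⟩),
        fun hh => hh.trans (isConj_iff.mpr ⟨h, by group⟩)⟩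
    · constructor <;> intro hh
      · rw [show h⁻¹ * x.1 * h * (h⁻¹ * x.2 * h) = h⁻¹ * (x.1 * x.2) * h by group, hh]; group
      · rw [show x.1 * x.2 = h * (h⁻¹ * x.1 * h * (h⁻¹ * x.2 * h)) * h⁻¹ by group, hh]
  have h := classFun_eq_sum hcf g
  rw [conv_classInd_apply] at h
  simp only [sum_conv_mul] at h
  have hne : (Nat.card G : ℂ) ≠ 0 := Nat.cast_ne_zero.mpr Nat.card_pos.ne'
  rw [h, Finset.sum_mul, Finset.mul_sum]
  refine Finset.sum_congr rfl fun χ _ => ?_
  have hdne := CharCore.irr_apply_one_ne_zero χ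
  field_simp

end Cfsg.Agent.InvChar68
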