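import Cfsg.Agent.Lib.Involution.Dihedral
import Mathlib.GroupTheory.PGroup
import Mathlib.GroupTheory.QuotientGroup.Basic
import Cfsg.Prelude.Def_CaseTheorems

/-!
# 2-groups with an involution whose centralizer has order 4
-/

set_option autoImplicit false

namespace Cfsg.Agent.InvChar68

open Subgroup

/-- The centralizer of a noncentral involution of order four is `{1, x, z, xz}`. -/
theorem centralizer_four_cases {S : Type*} [Group S] [Finite S] {x z c : S} (hx : orderOf x = 2)
    (hz : orderOf z = 2) (hzx : Commute z x) (hne : z ≠ x)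
    (hC : Nat.card (centralizer ({x} : Set S)) = 4) (hc : Commute c x) :
    c = 1 ∨ c = x ∨ c = z ∨ c = x * z := by
  classical
  have hsub : ({1, x, z, x * z} : Set S) ⊆ (centralizer ({x} : Set S) : Set S) := by
    intro w hw
    rw [SetLike.mem_coe, mem_centralizer_singleton_iff]
    rcases hw with rfl | rfl | rfl | rfl
    · simp
    · rfl
    · exact hzx.eq
    · exact ((Commute.refl x).mul_left hzx).eq
  have h1 : x ≠ 1 := Involution.ne_one_of_orderOf hx
  have h2 : z ≠ 1 := Involution.ne_one_of_orderOf hz
  have hzz : z * z = 1 := Involution.mul_self_of_orderOf hz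
  have h3 : x * z ≠ 1 := fun h => hne (mul_right_cancel (h.trans hzz.symm)).symm
  have hcard : ({1, x, z, x * z} : Set S).ncard = 4 := by
    rw [Set.ncard_insert_of_notMem, Set.ncard_insert_of_notMem, Set.ncard_pair]
    · simp [h1]
    · simp [Ne.symm hne, h2]
    · simp [Ne.symm h1, Ne.symm h2, Ne.symm h3]
  have heq : ({1, x, z, x * z} : Set S) = (centralizer ({x} : Set S) : Set S) :=
    Set.eq_of_subset_of_ncard_le hsub
      (by rw [hcard, ← Nat.card_coe_set_eq]; exact hC.le)
  have : c ∈ (centralizer ({x} : Set S) : Set S) := mem_centralizer_singleton_iff.mpr hc.eq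
  rw [← heq] at this
  simpa using this

/-- A noncentral such involution comes with a central involution. -/
theorem exists_central_involution {S : Type*} [Group S] [Finite S] (hS : IsPGroup 2 S) {x : S}
    (hC : Nat.card (centralizer ({x} : Set S)) = 4) (h8 : 4 < Nat.card S) :
    x ∉ center S ∧ ∃ z : S, orderOf z = 2 ∧ z ∈ center S := by
  have : Fact (Nat.Prime 2) := ⟨Nat.prime_two⟩
  have hxc : x ∉ center S := by
    intro h
    rw [Subgroup.centralizer_eq_top_iff_subset.mpr (Set.singleton_subset_iff.mpr h),
      Subgroup.card_top] at hC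
    omega
  have : Nontrivial S := Finite.one_lt_card_iff_nontrivial.mp (by omega)
  have := hS.center_nontrivial
  obtain ⟨n, hn⟩ := IsPGroup.iff_card.mp (hS.to_subgroup (center S))
  have hpos : 1 < Nat.card (center S) := Finite.one_lt_card
  have h2 : 2 ∣ Nat.card (center S) := by
    rw [hn] at hpos ⊢
    rcases Nat.eq_zero_or_pos n with rfl | h
    · simp at hpos
    · exact dvd_pow_self 2 h.ne'
  obtain ⟨z, hz⟩ := exists_prime_orderOf_dvd_card' 2 h2
  exact ⟨hxc, z, by rw [Subgroup.orderOf_coe]; exact hz, z.2⟩

/-- A 2-group of order at least 8 with an involution `x` whose centralizer has order 4 has a cyclic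
subgroup of index 2 avoiding `x`. -/
theorem exists_cyclic_index_two : ∀ (n : ℕ) {S : Type*} [Group S] [Finite S], Nat.card S ≤ n →
    IsPGroup 2 S → ∀ {x : S}, orderOf x = 2 → Nat.card (centralizer ({x} : Set S)) = 4 →
    4 < Nat.card S → ∃ r : S, (zpowers r).index = 2 ∧ x ∉ zpowers r := by
  intro n
  induction n with
  | zero => intro S _ _ hn; have := Nat.card_pos (α := S); omega
  | succ n ih =>
    intro S _ _ hn hS x hx hC h8
    obtain ⟨hxc, z, hz, hzc⟩ := exists_central_involution hS hC h8
    have : Fact (Nat.Prime 2) := ⟨Nat.prime_two⟩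
    have hzx : Commute z x := (mem_center_iff.mp hzc x).symm
    have hne : z ≠ x := fun h => hxc (h ▸ hzc)
    have hxx : x * x = 1 := Involution.mul_self_of_orderOf hx
    have hcases := fun c => @centralizer_four_cases S _ _ x z c hx hz hzx hne hC
    let Z := zpowers z
    have : Z.Normal := ⟨fun a ha g => by
      have : a ∈ center S := zpowers_le.mpr hzc ha
      rwa [show g * a * g⁻¹ = a by rw [mem_center_iff.mp this g]; group]⟩
    have hZ : ∀ a ∈ Z, a = 1 ∨ a = z := by
      intro a ha
      obtain ⟨k, rfl⟩ := mem_zpowers_iff.mp ha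
      rw [← zpow_mod_orderOf, hz]
      rcases Int.emod_two_eq_zero_or_one k with h | h <;> simp [h]
    let q := QuotientGroup.mk' Z
    have hqx : q x ≠ 1 := by
      intro h
      rcases hZ x ((QuotientGroup.eq_one_iff x).mp h) with h | h
      · exact Involution.ne_one_of_orderOf hx h
      · exact hne h.symm
    have hqxo : orderOf (q x) = 2 := Involution.orderOf_eq_two_iff'.mpr
      ⟨by rw [← map_mul, hxx, map_one], hqx⟩
    set P := (centralizer ({q x} : Set (S ⧸ Z))).comap q with hPdef
    have hcomm : ∀ s ∈ P, s * x * s⁻¹ = x ∨ s * x * s⁻¹ = x * z := by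
      intro s hs
      rw [hPdef, mem_comap, mem_centralizer_singleton_iff] at hs
      have h1 : q (x⁻¹ * (s * x * s⁻¹)) = 1 := by simp [map_mul, map_inv, hs]
      rcases hZ _ ((QuotientGroup.eq_one_iff _).mp h1) with h | h
      · exact Or.inl (inv_mul_eq_one.mp h).symm
      · exact Or.inr (inv_mul_eq_iff_eq_mul.mp h)
    have hP8 : Nat.card P ≤ 8 := by
      classical
      let o : P → S ⧸ centralizer ({x} : Set S) := fun s => QuotientGroup.mk (s : S)
      by_cases hall : ∀ s ∈ P, s * x * s⁻¹ = x
      · refine le_trans (Subgroup.card_le_of_le (K := centralizer ({x} : Set S)) ?_) (by omega)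
        intro s hs
        exact mem_centralizer_singleton_iff.mpr (mul_inv_eq_iff_eq_mul.mp (hall s hs))
      · push_neg at hall
        obtain ⟨s0, hs0, hs0'⟩ := hall
        have hs1 := (hcomm s0 hs0).resolve_left hs0'
        let C := centralizer ({x} : Set S)
        have hmap : ∀ s ∈ P, s ∈ (C : Set S) ∪ (fun c => s0 * c) '' (C : Set S) := by
          intro s hs
          rcases hcomm s hs with h | h
          · exact Or.inl (mem_centralizer_singleton_iff.mpr (mul_inv_eq_iff_eq_mul.mp h))
          · refine Or.inr ⟨s0⁻¹ * s, mem_centralizer_singleton_iff.mpr ?_, by simp⟩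
            have e : s * x = x * z * s := mul_inv_eq_iff_eq_mul.mp h
            have e0 : s0 * x = x * z * s0 := mul_inv_eq_iff_eq_mul.mp hs1
            apply mul_left_cancel (a := s0)
            rw [← mul_assoc, ← mul_assoc, mul_inv_cancel, one_mul, e, ← mul_assoc, e0]
            simp [mul_assoc]
        have := Set.ncard_le_ncard (s := (P : Set S)) hmap (Set.toFinite _)
        rw [← Nat.card_coe_set_eq] at this
        refine le_trans this ((Set.ncard_union_le _ _).trans ?_)
        refine le_trans (Nat.add_le_add_left (Set.ncard_image_le (Set.toFinite _)) _) ?_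
        rw [← Nat.card_coe_set_eq]
        exact le_of_eq (by rw [show Nat.card ↥(C : Set S) = 4 from hC])
    have hZc : Nat.card Z = 2 := by rw [Nat.card_zpowers, hz]
    have hquot : Nat.card (S ⧸ Z) * 2 = Nat.card S := by
      rw [← hZc]; exact (Subgroup.card_eq_card_quotient_mul_card_subgroup Z).symm
    have hnotA : ∀ r : S, r * x = x * r → orderOf r ≤ 2 := by
      intro r hr
      rcases hcases r hr with rfl | rfl | rfl | rfl
      · simp
      · omega
      · omega
      · have h : (x * z) ^ 2 = 1 := by
          rw [hzx.symm.mul_pow, pow_two, hxx, pow_two, Involution.mul_self_of_orderOf hz, one_mul]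
        exact Nat.le_of_dvd (by norm_num) (orderOf_dvd_of_pow_eq_one h)
    by_cases hxq : q x ∈ center (S ⧸ Z)
    · have hPtop : P = ⊤ := by
        rw [hPdef, Subgroup.centralizer_eq_top_iff_subset.mpr (Set.singleton_subset_iff.mpr hxq),
          comap_top]
      have hS8 : Nat.card S = 8 := by
        rw [hPtop, card_top] at hP8
        obtain ⟨k, hk⟩ := IsPGroup.iff_card.mp hS
        rw [hk] at hP8 h8 ⊢
        have : k = 3 := by
          rcases Nat.lt_or_ge k 3 with h | h
          · interval_cases k <;> simp_all
          · rcases Nat.eq_or_lt_of_le h with h | h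
            · exact h.symm
            · exact absurd (Nat.pow_le_pow_right (by norm_num : 2 > 0) h) (by norm_num; omega)
        rw [this]; norm_num
      obtain ⟨r, hr⟩ : ∃ r : S, r * r ≠ 1 := by
        by_contra! hexp
        apply hxc
        rw [mem_center_iff]
        intro g
        calc g * x = (g * x)⁻¹ := eq_inv_of_mul_eq_one_left (hexp _)
          _ = x⁻¹ * g⁻¹ := mul_inv_rev _ _
          _ = x * g := by
            rw [inv_eq_of_mul_eq_one_right hxx, inv_eq_of_mul_eq_one_right (hexp g)]
      have hdvd : orderOf r ∣ 2 ^ 3 := by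
        rw [show (2 : ℕ) ^ 3 = Nat.card S by rw [hS8]; norm_num]; exact orderOf_dvd_natCard r
      obtain ⟨k, hk, hko⟩ := (Nat.dvd_prime_pow Nat.prime_two).mp hdvd
      have hr2 : 2 < orderOf r := by
        rcases Nat.lt_or_ge 2 (orderOf r) with h | h
        · exact h
        · exfalso
          have hpos := orderOf_pos r
          rcases (show orderOf r = 1 ∨ orderOf r = 2 by omega) with h | h
          · exact hr (by rw [orderOf_eq_one_iff.mp h, one_mul])
          · exact hr (Involution.mul_self_of_orderOf h)
      have hr8 : orderOf r ≠ 8 := by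
        intro h
        have htop : zpowers r = ⊤ :=
          Subgroup.eq_top_of_card_eq _ (by rw [Nat.card_zpowers, h, hS8])
        have hxr : x ∈ zpowers r := htop ▸ mem_top x
        obtain ⟨i, rfl⟩ := mem_zpowers_iff.mp hxr
        have := hnotA r (Commute.self_zpow r i).eq
        omega
      have hr4 : orderOf r = 4 := by interval_cases k <;> simp_all
      refine ⟨r, ?_, ?_⟩
      · have := (zpowers r).index_mul_card
        rw [Nat.card_zpowers, hr4, hS8] at this
        omega
      · intro hxr
        obtain ⟨i, rfl⟩ := mem_zpowers_iff.mp hxr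
        have := hnotA r (Commute.self_zpow r i).eq
        omega
    · have hCq : Nat.card (centralizer ({q x} : Set (S ⧸ Z))) = 4 := by
        have h2 : Nat.card P = Nat.card (centralizer ({q x} : Set (S ⧸ Z))) * 2 := by
          have hi : P.index = (centralizer ({q x} : Set (S ⧸ Z))).index :=
            index_comap_of_surjective _ (QuotientGroup.mk'_surjective Z)
          have e1 := P.index_mul_card
          have e2 := (centralizer ({q x} : Set (S ⧸ Z))).index_mul_card
          rw [hi, ← hquot, ← e2, mul_assoc] at e1
          exact Nat.eq_of_mul_eq_mul_left (Nat.pos_of_ne_zero index_ne_zero_of_finite) e1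
        have hpq : IsPGroup 2 (S ⧸ Z) := hS.to_quotient Z
        obtain ⟨k, hk⟩ := IsPGroup.iff_card.mp
          (hpq.to_subgroup (centralizer ({q x} : Set (S ⧸ Z))))
        have : Nontrivial (S ⧸ Z) := ⟨⟨q x, 1, hqx⟩⟩
        have := hpq.center_nontrivial
        obtain ⟨w, hw, hw1⟩ := (center (S ⧸ Z)).nontrivial_iff_exists_ne_one.mp this
        have h3 : 2 < Nat.card (centralizer ({q x} : Set (S ⧸ Z))) := by
          have hs : ({1, q x, w} : Set (S ⧸ Z)) ⊆ centralizer ({q x} : Set (S ⧸ Z)) := by
            intro a ha
            rw [SetLike.mem_coe, mem_centralizer_singleton_iff]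
            rcases ha with rfl | rfl | rfl
            · simp
            · rfl
            · exact (mem_center_iff.mp hw (q x)).symm
          have hc := Set.ncard_le_ncard hs (Set.toFinite _)
          have h3 : ({1, q x, w} : Set (S ⧸ Z)).ncard = 3 := by
            rw [Set.ncard_insert_of_notMem, Set.ncard_pair]
            · exact fun h => hxq (h ▸ hw)
            · simp [Ne.symm hqx, Ne.symm hw1]
          rw [h3, ← Nat.card_coe_set_eq] at hc
          exact hc
        rw [hk] at h2 h3 ⊢
        rcases Nat.lt_or_ge k 2 with h | h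
        · interval_cases k <;> omega
        · rcases Nat.eq_or_lt_of_le h with h | h
          · rw [← h]; norm_num
          · exact absurd (Nat.pow_le_pow_right (by norm_num : 2 > 0) h) (by norm_num; omega)
      have hlarge : 4 < Nat.card (S ⧸ Z) := by
        by_contra hle
        apply hxq
        have htop : centralizer ({q x} : Set (S ⧸ Z)) = ⊤ := by
          apply Subgroup.eq_top_of_le_card
          omega
        exact (Subgroup.centralizer_eq_top_iff_subset.mp htop) rfl
      obtain ⟨rq, hrq, hxrq⟩ := ih (S := S ⧸ Z) (by omega) (hS.to_quotient Z) hqxo hCq hlarge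
      obtain ⟨r, rfl⟩ := QuotientGroup.mk'_surjective Z rq
      change (zpowers (q r)).index = 2 at hrq
      change q x ∉ zpowers (q r) at hxrq
      have hordq : orderOf (q r) * 2 = Nat.card (S ⧸ Z) := by
        rw [← Nat.card_zpowers, ← hrq, mul_comm]; exact (zpowers (q r)).index_mul_card
      set m := orderOf (q r) with hm
      have hrm : r ^ m ∈ Z := by
        rw [← QuotientGroup.eq_one_iff]
        show q (r ^ m) = 1
        rw [map_pow, hm, pow_orderOf_eq_one]
      rcases hZ _ hrm with h1 | h1
      · exfalso
        have hord : orderOf r = m :=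
          Nat.dvd_antisymm (orderOf_dvd_of_pow_eq_one h1) (orderOf_map_dvd q r)
        obtain ⟨k, hk⟩ := IsPGroup.iff_orderOf.mp hS r
        have heven : Even (orderOf r) := by
          rw [hord]; rw [hord] at hk
          rcases Nat.eq_zero_or_pos k with rfl | h
          · simp at hk; omega
          · rw [hk]; exact Nat.even_pow.mpr ⟨by decide, h.ne'⟩
        have h4 : 4 ∣ m := by
          rw [hord] at hk
          have hm3 : 2 < m := by omega
          rcases Nat.lt_or_ge k 2 with h | h
          · interval_cases k <;> norm_num at hk <;> omega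
          · rw [hk]; exact dvd_trans (by norm_num) (pow_dvd_pow 2 h)
        set a0 := r ^ (m / 2) with ha0
        have ha0o : orderOf a0 = 2 := by
          have := Involution.orderOf_pow_half heven (orderOf_pos r).ne'
          rwa [hord] at this
        have hA : q (x * r * x⁻¹) ∈ zpowers (q r) := by
          rw [map_mul, map_mul, map_inv]
          exact (normal_of_index_eq_two hrq).conj_mem _ (mem_zpowers _) _
        obtain ⟨i, hi⟩ := mem_zpowers_iff.mp hA
        have hmem : (r ^ i)⁻¹ * (x * r * x⁻¹) ∈ Z := by
          rw [← QuotientGroup.eq_one_iff]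
          show q ((r ^ i)⁻¹ * (x * r * x⁻¹)) = 1
          rw [map_mul, map_inv, map_zpow, hi, inv_mul_cancel]
        obtain ⟨j, hj⟩ := h4
        have hfix : x * a0 * x⁻¹ = a0 := by
          have hcj : x * a0 * x⁻¹ = (x * r * x⁻¹) ^ (m / 2) := by rw [ha0, conj_pow]
          have hpow : (x * r * x⁻¹) ^ (m / 2) = a0 ^ i := by
            rw [show x * r * x⁻¹ = r ^ i * ((r ^ i)⁻¹ * (x * r * x⁻¹)) by group]
            have hcz : Commute (r ^ i) ((r ^ i)⁻¹ * (x * r * x⁻¹)) :=
              mem_center_iff.mp (zpowers_le.mpr hzc hmem) (r ^ i)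
            have h2 : ((r ^ i)⁻¹ * (x * r * x⁻¹)) ^ (m / 2) = 1 := by
              have hsq : ((r ^ i)⁻¹ * (x * r * x⁻¹)) ^ 2 = 1 := by
                rcases hZ _ hmem with h | h <;> rw [h]
                · simp
                · rw [pow_two, Involution.mul_self_of_orderOf hz]
              rw [show m / 2 = 2 * j by omega, pow_mul, hsq, one_pow]
            rw [hcz.mul_pow, h2, mul_one, ha0]
            rw [← zpow_natCast, ← zpow_mul, ← zpow_natCast, ← zpow_mul, mul_comm]
          rw [hcj, hpow]
          have hne1 : a0 ^ i ≠ 1 := by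
            rw [← hpow, ← hcj]
            intro h
            exact Involution.ne_one_of_orderOf ha0o (conj_eq_one_iff.mp h)
          rw [← zpow_mod_orderOf, ha0o] at hne1 ⊢
          rcases Int.emod_two_eq_zero_or_one i with h | h
          · exact absurd (by simp [h]) hne1
          · simp [h]
        have hqa : q a0 = q r ^ (m / 2) := by rw [ha0, map_pow]
        rcases hcases a0 (mul_inv_eq_iff_eq_mul.mp hfix).symm with h | h | h | h
        · exact Involution.ne_one_of_orderOf ha0o h
        · exact hxrq (by rw [← h, hqa]; exact npow_mem_zpowers _ _)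
        · have : q r ^ (m / 2) = 1 := by
            rw [← hqa, h]; exact (QuotientGroup.eq_one_iff z).mpr (mem_zpowers z)
          have := Nat.le_of_dvd (by omega) (orderOf_dvd_of_pow_eq_one this)
          omega
        · apply hxrq
          have : q (x * z) = q x := by
            rw [map_mul, show q z = 1 from (QuotientGroup.eq_one_iff z).mpr (mem_zpowers z), mul_one]
          rw [← this, ← h, hqa]; exact npow_mem_zpowers _ _
      · refine ⟨r, ?_, ?_⟩
        · have hle : (zpowers (q r)).comap q ≤ zpowers r := by
            intro s hs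
            obtain ⟨i, hi⟩ := mem_zpowers_iff.mp (mem_comap.mp hs)
            have hsz : (r ^ i)⁻¹ * s ∈ Z := by
              rw [← QuotientGroup.eq_one_iff]
              show q ((r ^ i)⁻¹ * s) = 1
              rw [map_mul, map_inv, map_zpow, hi, inv_mul_cancel]
            have hzr : Z ≤ zpowers r := zpowers_le.mpr (h1 ▸ npow_mem_zpowers r m)
            simpa using mul_mem (zpow_mem (mem_zpowers r) i) (hzr hsz)
          have hge : zpowers r ≤ (zpowers (q r)).comap q :=
            zpowers_le.mpr (mem_zpowers _)
          rw [le_antisymm hge hle, index_comap_of_surjective _ (QuotientGroup.mk'_surjective Z), hrq]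
        · intro hxr
          obtain ⟨i, hi⟩ := mem_zpowers_iff.mp hxr
          exact hxrq (hi ▸ by rw [map_zpow]; exact zpow_mem (mem_zpowers _) i)

/-- A 2-group with an involution whose centralizer has order 4 is dihedral, semidihedral or of
order 4. -/
theorem classification_centralizer_four {S : Type*} [Group S] [Finite S] (hS : IsPGroup 2 S)
    (x : S) (hx : orderOf x = 2) (hC : Nat.card (centralizer ({x} : Set S)) = 4) :
    (∃ n : ℕ, Nonempty (S ≃* DihedralGroup n)) ∨ Cfsg.IsQuasiDihedral S ∨ Nat.card S = 4 := by
  by_cases h8 : 4 < Nat.card S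
  swap
  · refine Or.inr (Or.inr ?_)
    have := Subgroup.card_le_card_group (centralizer ({x} : Set S))
    omega
  obtain ⟨hxc, z, hz, hzc⟩ := exists_central_involution hS hC h8
  obtain ⟨r, hri, hxr⟩ := exists_cyclic_index_two (Nat.card S) le_rfl hS hx hC h8
  have hzx : Commute z x := (mem_center_iff.mp hzc x).symm
  have hne : z ≠ x := fun h => hxc (h ▸ hzc)
  have hcases := fun c => @centralizer_four_cases S _ _ x z c hx hz hzx hne hC
  have hxx : x * x = 1 := Involution.mul_self_of_orderOf hx
  have hxi : x⁻¹ = x := Involution.inv_of_orderOf hx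
  set n := orderOf r with hn
  have hcard : n * 2 = Nat.card S := by
    rw [hn, ← Nat.card_zpowers, ← hri, mul_comm]; exact (zpowers r).index_mul_card
  obtain ⟨k, hk⟩ := IsPGroup.iff_orderOf.mp hS r
  rw [← hn] at hk
  have hk2 : 2 ≤ k := by
    by_contra! h
    interval_cases k <;> omega
  have heven : Even n := by rw [hk]; exact Nat.even_pow.mpr ⟨by decide, by omega⟩
  set a0 := r ^ (n / 2) with ha0
  have ha0o : orderOf a0 = 2 := Involution.orderOf_pow_half heven (orderOf_pos r).ne'
  have hu : x * r * x⁻¹ ∈ zpowers r :=
    (normal_of_index_eq_two hri).conj_mem _ (mem_zpowers r) _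
  obtain ⟨i, hi⟩ := mem_zpowers_iff.mp hu
  have ha0fix : Commute a0 x := by
    have hcj : x * a0 * x⁻¹ = a0 ^ i := by
      rw [ha0, ← conj_pow, ← hi, ← zpow_natCast, ← zpow_mul, ← zpow_natCast, ← zpow_mul, mul_comm]
    have hne1 : a0 ^ i ≠ 1 := by
      rw [← hcj]; exact fun h => Involution.ne_one_of_orderOf ha0o (conj_eq_one_iff.mp h)
    have hai : a0 ^ i = a0 := by
      rw [← zpow_mod_orderOf, ha0o] at hne1 ⊢
      rcases Int.emod_two_eq_zero_or_one i with h | h
      · exact absurd (by simp [h]) hne1
      · simp [h]
    rw [hai] at hcj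
    exact (mul_inv_eq_iff_eq_mul.mp hcj).symm
  have ha0z : a0 = z := by
    rcases hcases a0 ha0fix with h | h | h | h
    · exact absurd h (Involution.ne_one_of_orderOf ha0o)
    · exact absurd (h ▸ npow_mem_zpowers r (n / 2)) hxr
    · exact h
    · exfalso
      have h2 : z * x = a0 := by rw [h]; exact hzx.eq
      have hcomm : Commute r x := by
        have hx' : x = z⁻¹ * a0 := by rw [← h2]; group
        rw [hx']
        exact (Commute.inv_right (mem_center_iff.mp hzc r)).mul_right (Commute.self_pow r _)
      rcases hcases r hcomm with e | e | e | e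
      · have : n = 1 := by rw [hn, e, orderOf_one]
        omega
      · exact hxr (e ▸ mem_zpowers r)
      · have : n = 2 := by rw [hn, e, hz]
        omega
      · have : n ∣ 2 := by
          rw [hn, e]
          exact orderOf_dvd_of_pow_eq_one (by
            rw [hzx.symm.mul_pow, pow_two, hxx, pow_two, Involution.mul_self_of_orderOf hz,
              one_mul])
        have := Nat.le_of_dvd (by norm_num) this
        omega
  have hufix : Commute (r * (x * r * x⁻¹)) x := by
    have hcr : Commute (x * r * x⁻¹) r := hi ▸ Commute.zpow_self r i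
    show r * (x * r * x⁻¹) * x = x * (r * (x * r * x⁻¹))
    rw [← hcr.eq]
    calc x * r * x⁻¹ * r * x = x * r * (x⁻¹ * r * x⁻¹) := by rw [hxi]; simp [mul_assoc]
      _ = x * (r * (x * r * x⁻¹)) := by rw [hxi]; simp [mul_assoc]
      _ = x * (x * r * x⁻¹ * r) := by rw [hcr.eq]
  have humem : r * (x * r * x⁻¹) ∈ zpowers r := mul_mem (mem_zpowers r) hu
  rcases hcases _ hufix with h | h | h | h
  · refine Or.inl ⟨n, ?_⟩
    have hinv : x * r * x⁻¹ = r⁻¹ := eq_inv_of_mul_eq_one_right h
    let f := Involution.dihedralHom (n := n) x r hxx (pow_orderOf_eq_one r) hinv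
    have hinj : Function.Injective f := by
      rw [injective_iff_map_eq_one]
      rintro (j | j) hj
      · rw [Involution.dihedralHom_r, ← orderOf_dvd_iff_zpow_eq_one, ← hn] at hj
        have : ((ZMod.cast j : ℤ) : ZMod n) = 0 := (ZMod.intCast_zmod_eq_zero_iff_dvd _ _).mpr hj
        rw [ZMod.intCast_zmod_cast] at this
        rw [this, DihedralGroup.r_zero]
      · rw [Involution.dihedralHom_sr, mul_eq_one_iff_eq_inv] at hj
        exact absurd (hj ▸ inv_mem (zpow_mem (mem_zpowers r) _)) hxr
    have : NeZero n := ⟨by omega⟩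
    have hbij : Function.Bijective f :=
      (Nat.bijective_iff_injective_and_card f).mpr ⟨hinj, by rw [DihedralGroup.nat_card]; omega⟩
    exact ⟨(MulEquiv.ofBijective f hbij).symm⟩
  · exact absurd (h ▸ humem) hxr
  · refine Or.inr (Or.inl ⟨k, ?_, ?_, r, x, hk, hx, ?_⟩)
    · by_contra! hlt
      have hk' : k = 2 := by omega
      have h2 : x * r * x⁻¹ = r := by
        apply mul_left_cancel (a := r)
        rw [h, ← ha0z, ha0, hk, hk', show (2:ℕ) ^ 2 / 2 = 2 by norm_num, pow_two]
      rcases hcases r (mul_inv_eq_iff_eq_mul.mp h2).symm with e | e | e | e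
      · have : n = 1 := by rw [hn, e, orderOf_one]
        omega
      · exact hxr (e ▸ mem_zpowers r)
      · have : n = 2 := by rw [hn, e, hz]
        omega
      · have : n ∣ 2 := by
          rw [hn, e]
          exact orderOf_dvd_of_pow_eq_one (by
            rw [hzx.symm.mul_pow, pow_two, hxx, pow_two, Involution.mul_self_of_orderOf hz,
              one_mul])
        have := Nat.le_of_dvd (by norm_num) this
        omega
    · rw [← hcard, hk, pow_succ]
    · apply mul_left_cancel (a := r)
      have h1 : 1 ≤ 2 ^ (k - 1) := Nat.one_le_two_pow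
      have hp : r * r ^ (2 ^ (k - 1) - 1) = r ^ (2 ^ (k - 1)) := by
        rw [← pow_succ', Nat.sub_add_cancel h1]
      rw [h, hp, ← ha0z, ha0, hk]
      congr 1
      rw [show k = k - 1 + 1 by omega, pow_succ, Nat.mul_div_cancel _ (by norm_num)]
      simp
  · exfalso
    apply hxr
    have hzr : z ∈ zpowers r := ha0z ▸ npow_mem_zpowers r _
    have := mul_mem (h ▸ humem) (inv_mem hzr)
    simpa using this

end Cfsg.Agent.InvChar68
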