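import Mathlib.GroupTheory.Transfer
import Mathlib.GroupTheory.Sylow
import Mathlib.GroupTheory.PGroup

/-!
# Thompson transfer for elements of 2-power order
-/

set_option autoImplicit false

namespace Cfsg.Agent.InvChar68

variable {G : Type*} [Group G] [Finite G]

/-- Thompson transfer: if the elements of `S` outside `M` have order above `2 ^ (n - 1)` and `u` of
order `2 ^ n` has no conjugate in `M`, there is a subgroup of index 2. -/
theorem transfer_pow (S : Sylow 2 G) (M : Subgroup G)
    (hM : M.relIndex (S : Subgroup G) = 2) (n : ℕ) (hn : 1 ≤ n)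
    (hord : ∀ y ∈ (S : Subgroup G), y ∉ M → 2 ^ (n - 1) < orderOf y)
    {u : G} (hu : orderOf u = 2 ^ n) (hno : ∀ g : G, g * u * g⁻¹ ∈ (S : Subgroup G) → g * u * g⁻¹ ∉ M) :
    ∃ N : Subgroup G, N.Normal ∧ N.index = 2 ∧ u ∉ N := by
  classical
  have : Fact (Nat.Prime 2) := ⟨Nat.prime_two⟩
  set H : Subgroup G := (S : Subgroup G) with hH
  have hM' : (M.subgroupOf H).index = 2 := hM
  let φ : H →* ℤˣ := MonoidHom.mk' (fun s => if s ∈ M.subgroupOf H then 1 else -1) (by
    intro a b
    rw [Subgroup.mul_mem_iff_of_index_two hM']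
    by_cases ha : a ∈ M.subgroupOf H <;> by_cases hb : b ∈ M.subgroupOf H <;> simp [ha, hb])
  have hφ : ∀ s : H, (s : G) ∉ M → φ s = -1 := fun s hs => by
    show (if s ∈ M.subgroupOf H then (1 : ℤˣ) else -1) = -1
    rw [if_neg]; exact fun h => hs h
  have hu2 : u ^ (2 ^ n) = 1 := by rw [← hu]; exact pow_orderOf_eq_one u
  let _ := H.fintypeQuotientOfFiniteIndex
  have hfix : ∀ q : G ⧸ H, u • q = q ↔ q.out⁻¹ * u * q.out ∈ H := by
    intro q
    conv_lhs => rw [← QuotientGroup.out_eq' q]
    rw [MulAction.Quotient.smul_mk, eq_comm, QuotientGroup.eq, smul_eq_mul, mul_assoc]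
  have hval : ∀ (q : G ⧸ H) (h : q.out⁻¹ * u * q.out ∈ H), φ ⟨_, h⟩ = -1 := by
    intro q h
    apply hφ
    have := hno q.out⁻¹ (by simpa using h)
    simpa using this
  let f : G ⧸ H → ℤˣ := fun q => if u • q = q then -1 else 1
  have hprod : MonoidHom.transfer φ u = ∏ q : G ⧸ H, f q := by
    rw [MonoidHom.transfer_eq_prod_quotient_orbitRel_zpowers_quot φ u,
      ← Finset.prod_fiberwise Finset.univ
        (Quotient.mk (MulAction.orbitRel (Subgroup.zpowers u) (G ⧸ H))) f]
    refine Finset.prod_congr rfl (fun o _ => ?_)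
    have horb : ∀ x : G ⧸ H, Quotient.mk (MulAction.orbitRel (Subgroup.zpowers u) (G ⧸ H)) x = o →
        ∃ k : ℤ, u ^ k • o.out = x := by
      intro x hx
      have hrel : (MulAction.orbitRel (Subgroup.zpowers u) (G ⧸ H)) x o.out :=
        Quotient.exact (hx.trans (Quotient.out_eq o).symm)
      obtain ⟨⟨_, k, rfl⟩, hw⟩ := hrel
      exact ⟨k, hw⟩
    by_cases hfx : u • o.out = o.out
    · have hper : Function.minimalPeriod (u • ·) o.out = 1 :=
        Function.minimalPeriod_eq_one_iff_isFixedPt.mpr hfx
      rw [Finset.prod_eq_single o.out]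
      · simp only [f, if_pos hfx]
        rw [← hval o.out ((hfix _).mp hfx)]
        congr 1
        apply Subtype.ext
        simp only
        rw [hper, pow_one]
      · intro x hx hne
        obtain ⟨k, hk⟩ := horb x (by simpa using hx)
        exfalso; apply hne
        rw [← hk]
        have : ∀ m : ℤ, u ^ m ∈ MulAction.stabilizer G o.out := fun m => Subgroup.zpow_mem _ hfx m
        exact this k
      · intro h; simp at h
    · have hper : 2 ∣ Function.minimalPeriod (u • ·) o.out := by
        have hd : Function.minimalPeriod (u • ·) o.out ∣ 2 ^ n := by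
          apply Function.IsPeriodicPt.minimalPeriod_dvd
          show (u • ·)^[2 ^ n] o.out = o.out
          simp [smul_iterate, hu2]
        obtain ⟨i, -, hi⟩ := (Nat.dvd_prime_pow Nat.prime_two).mp hd
        rw [hi]
        rcases Nat.eq_zero_or_pos i with rfl | h
        · exact absurd (Function.minimalPeriod_eq_one_iff_isFixedPt.mp (by simpa using hi)) hfx
        · exact dvd_pow_self 2 h.ne'
      rw [Finset.prod_eq_one]
      · set w : H := ⟨o.out.out⁻¹ * u ^ Function.minimalPeriod (u • ·) o.out * o.out.out,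
            QuotientGroup.out_conj_pow_minimalPeriod_mem H u o.out⟩
        show (if w ∈ M.subgroupOf H then (1 : ℤˣ) else -1) = 1
        rw [if_pos]
        by_contra hcon
        refine absurd (hord w w.2 hcon) (not_lt.mpr (Nat.le_of_dvd (by positivity) ?_))
        apply orderOf_dvd_of_pow_eq_one
        obtain ⟨j, hj⟩ := hper
        have hp : (u ^ Function.minimalPeriod (u • ·) o.out) ^ (2 ^ (n - 1)) = 1 := by
          rw [← pow_mul, hj, mul_comm 2 j, mul_assoc, ← pow_succ', show n - 1 + 1 = n by omega,
            mul_comm, pow_mul, hu2, one_pow]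
        show (o.out.out⁻¹ * u ^ Function.minimalPeriod (u • ·) o.out * o.out.out) ^ (2 ^ (n - 1)) = 1
        rw [show o.out.out⁻¹ * u ^ Function.minimalPeriod (u • ·) o.out * o.out.out =
          MulAut.conj o.out.out⁻¹ (u ^ Function.minimalPeriod (u • ·) o.out) by simp, ← map_pow, hp,
          map_one]
      · intro x hx
        obtain ⟨k, hk⟩ := horb x (by simpa using hx)
        have hnx : ¬ u • x = x := by
          intro h; apply hfx
          rw [← hk, ← mul_smul, (Commute.self_zpow u k).eq, mul_smul] at h
          exact smul_left_cancel _ h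
        simp only [f, if_neg hnx]
  have hodd : Odd (Finset.univ.filter (fun q : G ⧸ H => u • q = q)).card := by
    have hp : IsPGroup 2 (Subgroup.zpowers u) :=
      IsPGroup.of_card (n := n) (by rw [Nat.card_zpowers, hu])
    have hm := hp.card_modEq_card_fixedPoints (G ⧸ H)
    have hset : Nat.card (MulAction.fixedPoints (Subgroup.zpowers u) (G ⧸ H)) =
        (Finset.univ.filter (fun q : G ⧸ H => u • q = q)).card := by
      rw [← Nat.card_eq_finsetCard]
      refine Nat.card_congr (Equiv.subtypeEquivRight fun q => ?_)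
      simp only [MulAction.mem_fixedPoints, Finset.mem_filter, Finset.mem_univ, true_and]
      refine ⟨fun h => h ⟨u, Subgroup.mem_zpowers u⟩, fun h w => ?_⟩
      have : (w : G) ∈ MulAction.stabilizer G q := (Subgroup.zpowers_le.mpr h) w.2
      exact this
    rw [hset] at hm
    have hi : ¬ 2 ∣ Nat.card (G ⧸ H) := S.not_dvd_index
    rw [Nat.odd_iff, ← hm]
    omega
  have hmin : MonoidHom.transfer φ u = -1 := by
    rw [hprod]
    simp only [f, Finset.prod_ite, Finset.prod_const, Finset.prod_const_one, mul_one]
    simpa using hodd.neg_one_pow (α := ℤˣ)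
  refine ⟨(MonoidHom.transfer φ).ker, inferInstance, ?_, ?_⟩
  · have hs : Function.Surjective (MonoidHom.transfer φ) := by
      intro y
      rcases Int.units_eq_one_or y with rfl | rfl
      · exact ⟨1, map_one _⟩
      · exact ⟨u, hmin⟩
    rw [Subgroup.index_ker, MonoidHom.range_eq_top.mpr hs, Subgroup.card_top,
      Nat.card_eq_fintype_card]
    rfl
  · rw [MonoidHom.mem_ker, hmin]; decide

end Cfsg.Agent.InvChar68
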