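import Cfsg.Agent.InvChar68.CharTools
import Cfsg.Agent.Lib.CharCore.Complete
import Cfsg.Agent.Lib.Involution.Dihedral
import Mathlib.GroupTheory.Sylow
import Mathlib.GroupTheory.Nilpotent

/-!
# One class of involutions and an involution centralizer of order four

If all involutions of `G` are conjugate to `x` and `C(x)` is a four-group, then `|G|` is 12 or 60,
and in the second case `G` is simple.
-/

set_option autoImplicit false

namespace Cfsg.Agent.InvChar68.V4

open Subgroup
open scoped ComplexConjugate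

/-- Three signed degrees. -/
theorem solve_sorted {m : ℕ} (hm : Odd m) {D E F : ℤ} (hD : Odd D) (hE : Odd E) (hF : Odd F)
    (hDE : D ≤ E) (hEF : E ≤ F) (hsum : 1 + D + E + F = 0)
    (hstr : (m : ℤ) * (D * E * F + E * F + D * F + D * E) = 8 * (D * E * F))
    (hbd : 1 + D ^ 2 + E ^ 2 + F ^ 2 ≤ 4 * (m : ℤ)) : m = 3 ∨ m = 15 := by
  obtain ⟨j, hj⟩ := hm
  have hm0 : (0 : ℤ) < m := by omega
  have hD' := Int.odd_iff.mp hD
  have hE' := Int.odd_iff.mp hE
  have hF' := Int.odd_iff.mp hF
  have hD0 : D ≠ 0 := by omega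
  have hE0 : E ≠ 0 := by omega
  have hF0 : F ≠ 0 := by omega
  have hFpos : 0 < F := by omega
  have hDneg : D < 0 := by omega
  rcases lt_trichotomy E 0 with hEn | hE00 | hEp
  · rcases (show E = -1 ∨ E ≤ -3 by omega) with rfl | hE3
    · exfalso
      obtain rfl : F = -D := by omega
      have : 8 * (D * -1 * -D) = 0 := by rw [← hstr]; ring
      simp [hD0] at this
    · have hD3 : D ≤ -3 := by omega
      have hpos : 0 < D * E * F := mul_pos (mul_pos_of_neg_of_neg hDneg hEn) hFpos
      have hDE' : 0 < D * E := mul_pos_of_neg_of_neg hDneg hEn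
      have h1 : -(D * E * F) ≤ 3 * (E * F) := by
        nlinarith [mul_nonneg (mul_nonneg (show (0:ℤ) ≤ -E by omega) hFpos.le) (show (0:ℤ) ≤ -D - 3 by omega)]
      have h2 : -(D * E * F) ≤ 3 * (D * F) := by
        nlinarith [mul_nonneg (mul_nonneg (show (0:ℤ) ≤ -D by omega) hFpos.le) (show (0:ℤ) ≤ -E - 3 by omega)]
      have h3 : (m : ℤ) * (D * E * F) < 24 * (D * E * F) := by nlinarith
      have hm24 : (m : ℤ) < 24 := lt_of_mul_lt_mul_right h3 hpos.le
      have hDb : -9 ≤ D := by nlinarith
      have hEb : -9 ≤ E := by omega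
      obtain rfl : F = -1 - D - E := by omega
      interval_cases D <;> interval_cases E <;> first | omega | (ring_nf at hstr; omega)
  · exact absurd hE00 hE0
  · rcases (show E = 1 ∨ 3 ≤ E by omega) with rfl | hE3
    · obtain rfl : F = -2 - D := by omega
      have hkey : (m : ℤ) * (D + 1) ^ 2 = 4 * ((D + 1) ^ 2 - 1) := by
        have h2 : 2 * ((m : ℤ) * (D + 1) ^ 2) = 2 * (4 * ((D + 1) ^ 2 - 1)) := by
          linear_combination -hstr
        linarith
      have hs : (D + 1) ^ 2 ∣ 4 := ⟨4 - m, by linear_combination hkey⟩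
      have hle : (D + 1) ^ 2 ≤ 4 := Int.le_of_dvd (by norm_num) hs
      have hDb : -3 ≤ D := by nlinarith
      interval_cases D <;> first | omega | (ring_nf at hkey; omega)
    · exfalso
      have hD7 : D ≤ -7 := by omega
      have hneg : D * E * F < 0 := mul_neg_of_neg_of_pos (mul_neg_of_neg_of_pos hDneg hEp) hFpos
      have h1 : 7 * (E * F) ≤ -(D * E * F) := by
        nlinarith [mul_nonneg (mul_nonneg hEp.le hFpos.le) (show (0:ℤ) ≤ -D - 7 by omega)]
      have h2 : D * F ≤ 0 := mul_nonpos_of_nonpos_of_nonneg hDneg.le hFpos.le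
      have h3 : D * E ≤ 0 := mul_nonpos_of_nonpos_of_nonneg hDneg.le hEp.le
      have h4 : (m : ℤ) * (6 * (-(D * E * F))) ≤ 56 * (-(D * E * F)) := by nlinarith
      have h5 : (m : ℤ) * 6 ≤ 56 := by
        refine le_of_mul_le_mul_right ?_ (show 0 < -(D * E * F) by omega)
        linarith
      nlinarith

theorem solve {m : ℕ} (hm : Odd m) {D E F : ℤ} (hD : Odd D) (hE : Odd E) (hF : Odd F)
    (hsum : 1 + D + E + F = 0)
    (hstr : (m : ℤ) * (D * E * F + E * F + D * F + D * E) = 8 * (D * E * F))
    (hbd : 1 + D ^ 2 + E ^ 2 + F ^ 2 ≤ 4 * (m : ℤ)) : m = 3 ∨ m = 15 := by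
  rcases le_total D E with h1 | h1 <;> rcases le_total E F with h2 | h2 <;>
    rcases le_total D F with h3 | h3
  · exact solve_sorted hm hD hE hF h1 h2 hsum hstr hbd
  · exact solve_sorted hm hD hE hF h1 h2 hsum hstr hbd
  · exact solve_sorted hm hD hF hE h3 h2 (by linarith) (by linear_combination hstr) (by linarith)
  · exact solve_sorted hm hF hD hE h3 h1 (by linarith) (by linear_combination hstr) (by linarith)
  · exact solve_sorted hm hE hD hF h1 h3 (by linarith) (by linear_combination hstr) (by linarith)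
  · exact solve_sorted hm hE hF hD h2 h3 (by linarith) (by linear_combination hstr) (by linarith)
  · exact solve_sorted hm hF hE hD h2 h1 (by linarith) (by linear_combination hstr) (by linarith)
  · exact solve_sorted hm hF hE hD h2 h1 (by linarith) (by linear_combination hstr) (by linarith)

variable {G : Type*} [Group G] [Finite G] {x : G}

theorem exists_three {ι : Type*} [Fintype ι] [DecidableEq ι] (a : ι → ℤ) (i0 : ι) (ha0 : a i0 = 1)
    (haa : ∑ i, a i ^ 2 = 4) :
    ∃ p q r : ι, a p ^ 2 = 1 ∧ a q ^ 2 = 1 ∧ a r ^ 2 = 1 ∧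
      p ≠ q ∧ p ≠ r ∧ q ≠ r ∧ p ≠ i0 ∧ q ≠ i0 ∧ r ≠ i0 ∧
      ∀ F : ι → ℂ, (∀ i, a i = 0 → F i = 0) → ∑ i, F i = F i0 + F p + F q + F r := by
  set U := Finset.univ.erase i0 with hU
  rw [← Finset.add_sum_erase _ _ (Finset.mem_univ i0), ← hU, ha0] at haa
  have ha1 : ∀ i ∈ U, a i ≠ 0 → a i ^ 2 = 1 := by
    intro i hi hne
    have h := Finset.single_le_sum (f := fun i => a i ^ 2) (fun j _ => sq_nonneg _) hi
    have : -1 ≤ a i ∧ a i ≤ 1 := by constructor <;> nlinarith
    have : a i = -1 ∨ a i = 1 := by omega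
    rcases this with h | h <;> simp [h]
  set S := U.filter (fun i => a i ≠ 0) with hS
  have hcard : S.card = 3 := by
    have h1 : ∑ i ∈ U, a i ^ 2 = ∑ i ∈ S, a i ^ 2 := by
      rw [hS, Finset.sum_filter_of_ne]
      intro i _ h h0; exact h (by rw [h0]; ring)
    rw [h1, Finset.sum_congr rfl fun i hi =>
      ha1 i (Finset.mem_filter.mp hi).1 (Finset.mem_filter.mp hi).2] at haa
    rw [one_pow, Finset.sum_const, nsmul_eq_mul, mul_one] at haa
    have h3 : (S.card : ℤ) = 3 := by linarith
    exact_mod_cast h3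
  obtain ⟨p, q, r, hpq, hpr, hqr, hSe⟩ := Finset.card_eq_three.mp hcard
  have hmem : ∀ i, i ∈ ({p, q, r} : Finset ι) → a i ^ 2 = 1 ∧ i ≠ i0 := by
    intro i hi
    rw [← hSe] at hi
    obtain ⟨hiU, hne⟩ := Finset.mem_filter.mp hi
    exact ⟨ha1 i hiU hne, (Finset.mem_erase.mp hiU).1⟩
  obtain ⟨hp, hp'⟩ := hmem p (by simp)
  obtain ⟨hq, hq'⟩ := hmem q (by simp)
  obtain ⟨hr, hr'⟩ := hmem r (by simp)
  refine ⟨p, q, r, hp, hq, hr, hpq, hpr, hqr, hp', hq', hr', fun F hF => ?_⟩
  rw [← Finset.add_sum_erase _ F (Finset.mem_univ i0), ← hU]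
  have hFS : ∑ i ∈ U, F i = ∑ i ∈ S, F i := by
    rw [hS, Finset.sum_filter_of_ne]
    intro i _ h h0; exact h (hF i h0)
  rw [hFS, hSe, Finset.sum_insert (by simp [hpq, hpr]), Finset.sum_pair hqr]
  ring

variable (hx : orderOf x = 2) (hC : Nat.card (centralizer ({x} : Set G)) = 4)
  (hexp : ∀ c ∈ centralizer ({x} : Set G), c ^ 2 = 1)
  (hconj : ∀ u : G, orderOf u = 2 → IsConj x u)

include hx hC hexp hconj in
theorem exists_sylow : ∃ S : Sylow 2 G, (S : Subgroup G) = centralizer ({x} : Set G) := by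
  have : Fact (Nat.Prime 2) := ⟨Nat.prime_two⟩
  set V := centralizer ({x} : Set G) with hV
  have hV2 : IsPGroup 2 V := IsPGroup.of_card (n := 2) (by rw [hC]; norm_num)
  obtain ⟨S, hS⟩ := hV2.exists_le_sylow
  refine ⟨S, (Subgroup.eq_of_le_of_card_ge hS ?_).symm⟩
  have : Nontrivial (S : Subgroup G) := by
    refine ⟨⟨⟨x, hS (mem_centralizer_singleton_iff.mpr rfl)⟩, 1, fun h => ?_⟩⟩
    have h' : x = 1 := congrArg Subtype.val h
    rw [h', orderOf_one] at hx; omega
  have hnt := S.2.center_nontrivial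
  obtain ⟨k, hk⟩ := IsPGroup.iff_card.mp (S.2.to_subgroup (center (S : Subgroup G)))
  have h2 : 2 ∣ Nat.card (center (S : Subgroup G)) := by
    have h1 : 1 < Nat.card (center (S : Subgroup G)) := Finite.one_lt_card
    rw [hk] at h1 ⊢
    rcases Nat.eq_zero_or_pos k with rfl | h
    · simp at h1
    · exact dvd_pow_self 2 h.ne'
  obtain ⟨z, hz⟩ := exists_prime_orderOf_dvd_card' 2 h2
  have hzo : orderOf ((z : (S : Subgroup G)) : G) = 2 := by
    rw [Subgroup.orderOf_coe, Subgroup.orderOf_coe, hz]
  obtain ⟨g, hg⟩ := isConj_iff.mp (hconj _ hzo)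
  have hle : (S : Subgroup G) ≤ V.map (MulAut.conj g).toMonoidHom := by
    intro s hs
    refine ⟨g⁻¹ * s * g, ?_, by simp [mul_assoc]⟩
    rw [hV, SetLike.mem_coe, mem_centralizer_singleton_iff]
    have hc : s * ((z : (S : Subgroup G)) : G) = ((z : (S : Subgroup G)) : G) * s :=
      congrArg Subtype.val (mem_center_iff.mp z.2 ⟨s, hs⟩)
    rw [← hg] at hc
    have := congrArg (fun w => g⁻¹ * w * g) hc
    simpa [mul_assoc] using this
  calc Nat.card (S : Subgroup G) ≤ Nat.card (V.map (MulAut.conj g).toMonoidHom) := card_le_of_le hle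
    _ = Nat.card V := card_map_of_injective (MulAut.conj g).injective

include hx hC hexp hconj in
theorem card_eq : Nat.card G = 12 ∨ Nat.card G = 60 := by
  classical
  have : Fact (Nat.Prime 2) := ⟨Nat.prime_two⟩
  have := Fintype.ofFinite G
  obtain ⟨S, hS⟩ := exists_sylow hx hC hexp hconj
  set m := Nat.card {y : G // IsConj x y} with hm
  have hG : Nat.card G = m * 4 := by rw [← card_isConj_mul_card_centralizer x, hC]
  have hmodd : Odd m := by
    have h := S.not_dvd_index
    rw [hS, ← card_isConj_eq, ← hm] at h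
    rw [Nat.odd_iff]; omega
  choose d hd0 hd using fun χ : Cfsg.IrrCharacter G => CharCore.IsIrrCharacter.exists_degree χ.2
  choose a ha hpar using fun χ : Cfsg.IrrCharacter G => exists_int_value_involution hx χ (hd χ)
  let χ0 : Cfsg.IrrCharacter G := ⟨1, CharCore.isIrrCharacter_one⟩
  have ha0 : a χ0 = 1 := by
    have := ha χ0; simp only [χ0, Pi.one_apply] at this; exact_mod_cast this.symm
  have hd00 : d χ0 = 1 := by
    have := hd χ0; simp only [χ0, Pi.one_apply] at this; exact_mod_cast this.symm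
  have haa : ∑ χ, a χ ^ 2 = 4 := by
    have h := sum_mul_conj_self x
    rw [hC] at h
    simp only [ha, map_intCast] at h
    have : ((∑ χ, a χ ^ 2 : ℤ) : ℂ) = 4 := by
      simp only [pow_two]; push_cast at h ⊢; exact h
    exact_mod_cast this
  obtain ⟨p, q, r, hp, hq, hr, hpq, hpr, hqr, hp0, hq0, hr0, hsum⟩ := exists_three a χ0 ha0 haa
  have hx1 : x ≠ 1 := Involution.ne_one_of_orderOf hx
  have ea : (1 : ℤ) + a p * d p + a q * d q + a r * d r = 0 := by
    have h := sum_degree_mul_eq_zero d hd hx1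
    simp only [ha] at h
    rw [hsum _ (fun i h1 => by simp [h1]), ha0, hd00] at h
    have h' : (((1 : ℤ) + a p * d p + a q * d q + a r * d r : ℤ) : ℂ) = 0 := by
      push_cast at h ⊢; linear_combination h
    exact_mod_cast h'
  have hpairs : Nat.card {w : G × G // IsConj x w.1 ∧ IsConj x w.2 ∧ w.1 * w.2 = x} = 2 := by
    have hxx := Involution.mul_self_of_orderOf hx
    let V := centralizer ({x} : Set G)
    have hsq : ∀ {u : G}, IsConj x u → u * u = 1 ∧ u ≠ 1 := by
      intro u hu
      obtain ⟨k, hk⟩ := isConj_iff.mp hu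
      subst hk
      exact ⟨by rw [show k * x * k⁻¹ * (k * x * k⁻¹) = k * (x * x) * k⁻¹ by group, hxx]; group,
        fun h => hx1 (conj_eq_one_iff.mp h)⟩
    have hmemV : ∀ {u v : G}, IsConj x u → IsConj x v → u * v = x → u ∈ V := by
      intro u v hu hv huv
      have hvu : v * u = x := by
        have h := congrArg Inv.inv huv
        rwa [mul_inv_rev, inv_eq_of_mul_eq_one_right (hsq hv).1,
          inv_eq_of_mul_eq_one_right (hsq hu).1, inv_eq_of_mul_eq_one_right hxx] at h
      refine mem_centralizer_singleton_iff.mpr ?_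
      calc u * x = v := by rw [← huv, ← mul_assoc, (hsq hu).1, one_mul]
        _ = x * u := by rw [← hvu, mul_assoc, (hsq hu).1, mul_one]
    let xV : V := ⟨x, mem_centralizer_singleton_iff.mpr rfl⟩
    have : Fintype V := Fintype.ofFinite _
    rw [show (2 : ℕ) = (Finset.univ \ ({1, xV} : Finset V)).card by
      rw [Finset.card_univ_diff, Finset.card_pair, Fintype.card_eq_nat_card, hC]
      exact fun h => hx1 (congrArg Subtype.val h).symm]
    rw [← Nat.card_eq_finsetCard]
    refine Nat.card_congr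
      { toFun := fun w => ⟨⟨w.1.1, hmemV w.2.1 w.2.2.1 w.2.2.2⟩, ?_⟩
        invFun := fun u => ⟨((u.1 : G), (u.1 : G) * x), ?_⟩
        left_inv := ?_
        right_inv := fun u => Subtype.ext rfl }
    · simp only [Finset.mem_sdiff, Finset.mem_univ, Finset.mem_insert, Finset.mem_singleton,
        true_and]
      rintro (h | h)
      · exact (hsq w.2.1).2 (congrArg Subtype.val h)
      · have h1 : w.1.1 = x := congrArg Subtype.val h
        have h2 := w.2.2.2
        rw [h1] at h2
        exact (hsq w.2.2.1).2 (mul_eq_left.mp h2)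
    · obtain ⟨u, hu⟩ := u
      simp only [Finset.mem_sdiff, Finset.mem_univ, Finset.mem_insert, Finset.mem_singleton,
        true_and, not_or] at hu
      have hu2 : (u : G) * u = 1 := by rw [← pow_two]; exact hexp _ u.2
      have hux : ((u : G) * x) * (u * x) = 1 := by rw [← pow_two]; exact hexp _ (mul_mem u.2 xV.2)
      refine ⟨hconj _ (orderOf_eq_prime (by rw [pow_two, hu2]) fun h => hu.1 (Subtype.ext h)),
        hconj _ (orderOf_eq_prime (by rw [pow_two, hux]) fun h => hu.2 (Subtype.ext ?_)), ?_⟩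
      · show (u : G) = x
        rw [eq_inv_of_mul_eq_one_left h, inv_eq_of_mul_eq_one_right hxx]
      · rw [← mul_assoc, hu2, one_mul]
    · rintro ⟨⟨u, v⟩, hu, hv, huv⟩
      apply Subtype.ext
      refine Prod.ext rfl ?_
      show u * x = v
      rw [← huv, ← mul_assoc, (hsq hu).1, one_mul]
  have hstr := card_pairs_mul_card x x
  rw [hpairs, ← hm, hG] at hstr
  simp only [ha, hd, map_intCast] at hstr
  rw [hsum _ (fun i h1 => by simp [h1]), ha0, hd00] at hstr
  have hD : ∀ χ, (d χ : ℤ) ≠ 0 := fun χ => by exact_mod_cast (hd0 χ).ne'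
  have hodd : ∀ i, a i ^ 2 = 1 → Odd (a i * d i : ℤ) := by
    intro i h
    have := hpar i
    have : a i = 1 ∨ a i = -1 := sq_eq_one_iff.mp h
    rw [Int.odd_iff]
    rcases this with h | h <;> rw [h] <;> omega
  have hsq : ∑ χ, (d χ : ℤ) ^ 2 = Nat.card G := by
    have h := CharCore.sum_degree_sq (G := G)
    simp only [hd] at h
    exact_mod_cast h
  have hbd : 1 + (a p * d p : ℤ) ^ 2 + (a q * d q) ^ 2 + (a r * d r) ^ 2 ≤ 4 * (m : ℤ) := by
    simp only [mul_pow, hp, hq, hr, one_mul]
    rw [hG] at hsq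
    push_cast at hsq
    calc (1 : ℤ) + (d p : ℤ) ^ 2 + (d q : ℤ) ^ 2 + (d r : ℤ) ^ 2
        = ∑ i ∈ ({χ0, p, q, r} : Finset _), (d i : ℤ) ^ 2 := by
          rw [Finset.sum_insert (by simp [hp0.symm, hq0.symm, hr0.symm]),
            Finset.sum_insert (by simp [hpq, hpr]), Finset.sum_pair hqr, hd00]
          push_cast; ring
      _ ≤ ∑ i, (d i : ℤ) ^ 2 :=
          Finset.sum_le_sum_of_subset_of_nonneg (Finset.subset_univ _) fun i _ _ => sq_nonneg _
      _ = 4 * (m : ℤ) := by rw [hsq]; ring
  have hm0 : (m : ℂ) ≠ 0 := Nat.cast_ne_zero.mpr (by rintro h; simp [h] at hmodd)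
  have hstr' : (m : ℤ) * ((a p * d p) * (a q * d q) * (a r * d r) + (a q * d q) * (a r * d r) +
      (a p * d p) * (a r * d r) + (a p * d p) * (a q * d q)) =
      8 * ((a p * d p) * (a q * d q) * (a r * d r)) := by
    have c1 : (a p : ℂ) ^ 2 = 1 := by exact_mod_cast hp
    have c2 : (a q : ℂ) ^ 2 = 1 := by exact_mod_cast hq
    have c3 : (a r : ℂ) ^ 2 = 1 := by exact_mod_cast hr
    have n1 : (d p : ℂ) ≠ 0 := Nat.cast_ne_zero.mpr (hd0 p).ne'
    have n2 : (d q : ℂ) ≠ 0 := Nat.cast_ne_zero.mpr (hd0 q).ne'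
    have n3 : (d r : ℂ) ≠ 0 := Nat.cast_ne_zero.mpr (hd0 r).ne'
    simp only [c1, c2, c3] at hstr
    push_cast at hstr
    field_simp at hstr
    have key : ((((m : ℤ) * ((a p * d p) * (a q * d q) * (a r * d r) + (a q * d q) * (a r * d r) +
      (a p * d p) * (a r * d r) + (a p * d p) * (a q * d q)) : ℤ)) : ℂ) =
      ((8 * ((a p * d p) * (a q * d q) * (a r * d r)) : ℤ) : ℂ) := by
      push_cast
      apply mul_left_cancel₀ hm0
      rcases sq_eq_one_iff.mp hp with e1 | e1 <;> rcases sq_eq_one_iff.mp hq with e2 | e2 <;>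
        rcases sq_eq_one_iff.mp hr with e3 | e3 <;> simp only [e1, e2, e3] at hstr ⊢ <;>
        push_cast at hstr ⊢ <;> first | linear_combination hstr | linear_combination -hstr |
          linear_combination (m : ℂ) * hstr | linear_combination -(m : ℂ) * hstr
    exact_mod_cast key
  rcases solve hmodd (hodd p hp) (hodd q hq) (hodd r hr) ea hstr' hbd with h | h
  · left; omega
  · right; omega

include hx hC hexp hconj in
theorem odd_normal_eq_bot (N : Subgroup G) [hN : N.Normal] (hodd : Odd (Nat.card N)) : N = ⊥ := by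
  set V := centralizer ({x} : Set G) with hV
  have hxV : x ∈ V := mem_centralizer_singleton_iff.mpr rfl
  have hno : ∀ a ∈ N, a ^ 2 = 1 → a = 1 := by
    intro a ha h2
    have h := orderOf_dvd_of_pow_eq_one h2
    rcases (Nat.dvd_prime Nat.prime_two).mp h with h | h
    · exact orderOf_eq_one_iff.mp h
    · exfalso
      have : orderOf (⟨a, ha⟩ : N) ∣ Nat.card N := orderOf_dvd_natCard _
      rw [← Subgroup.orderOf_coe] at this
      rw [Subtype.coe_mk, h] at this
      rw [Nat.odd_iff] at hodd; omega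
  -- every involution of `V` inverts `N`
  have hinv : ∀ v ∈ V, v ≠ 1 → ∀ a ∈ N, v * a * v⁻¹ = a⁻¹ := by
    intro v hv hv1
    have hvo : orderOf v = 2 := orderOf_eq_prime (hexp v hv) hv1
    obtain ⟨g, hg⟩ := isConj_iff.mp (hconj v hvo)
    have hvv : v * v = 1 := Involution.mul_self_of_orderOf hvo
    have hfix : ∀ a ∈ N, v * a * v⁻¹ = a → a = 1 := by
      intro a ha hc
      have hmem : g⁻¹ * a * g ∈ V := by
        rw [hV, mem_centralizer_singleton_iff]
        subst hg
        have := congrArg (fun w => g⁻¹ * w * g) (mul_inv_eq_iff_eq_mul.mp hc)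
        simpa [mul_assoc] using this.symm
      have hNmem : g⁻¹ * a * g ∈ N := by simpa using hN.conj_mem a ha g⁻¹
      have := hno _ hNmem (hexp _ hmem)
      calc a = g * (g⁻¹ * a * g) * g⁻¹ := by group
        _ = 1 := by rw [this]; group
    let f : N → N := fun a => ⟨(a : G)⁻¹ * (v * a * v⁻¹), mul_mem (inv_mem a.2) (hN.conj_mem _ a.2 v)⟩
    have hfinj : Function.Injective f := by
      intro a b h
      have h1 : (a : G)⁻¹ * (v * a * v⁻¹) = (b : G)⁻¹ * (v * b * v⁻¹) := congrArg Subtype.val h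
      have h2 : v * ((b : G) * (a : G)⁻¹) * v⁻¹ = (b : G) * (a : G)⁻¹ := by
        calc v * ((b : G) * (a : G)⁻¹) * v⁻¹
            = (v * b * v⁻¹) * (v * a * v⁻¹)⁻¹ := by group
          _ = (b : G) * ((b : G)⁻¹ * (v * b * v⁻¹)) * (v * a * v⁻¹)⁻¹ := by group
          _ = (b : G) * ((a : G)⁻¹ * (v * a * v⁻¹)) * (v * a * v⁻¹)⁻¹ := by rw [h1]
          _ = (b : G) * (a : G)⁻¹ := by group
      have := hfix _ (mul_mem b.2 (inv_mem a.2)) h2
      exact Subtype.ext (mul_inv_eq_one.mp this).symm
    intro a ha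
    obtain ⟨b, hb⟩ := (Finite.injective_iff_surjective.mp hfinj) ⟨a, ha⟩
    have hb' : a = (b : G)⁻¹ * (v * b * v⁻¹) := (congrArg Subtype.val hb).symm
    have hvi : v⁻¹ = v := inv_eq_of_mul_eq_one_right hvv
    rw [hb', hvi]
    calc v * ((b : G)⁻¹ * (v * b * v)) * v = v * (b : G)⁻¹ * v * b * (v * v) := by group
      _ = ((b : G)⁻¹ * (v * b * v))⁻¹ := by
        rw [hvv, mul_one, mul_inv_rev, mul_inv_rev, mul_inv_rev, hvi, inv_inv]; group
  rw [eq_bot_iff]
  intro a ha
  rw [mem_bot]
  -- pick `u` in `V` different from `1` and `x`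
  obtain ⟨u, hu, hu1, hux⟩ : ∃ u ∈ V, u ≠ 1 ∧ u ≠ x := by
    by_contra hcon
    push_neg at hcon
    have : V ≤ zpowers x := fun w hw => by
      by_cases h : w = 1
      · subst h; exact one_mem _
      · rw [hcon w hw h]; exact mem_zpowers x
    have := card_le_of_le this
    rw [Nat.card_zpowers, hx, hC] at this
    omega
  have hux' : u * x ≠ 1 := fun h => hux (by
    rw [eq_inv_of_mul_eq_one_left h, inv_eq_of_mul_eq_one_right (Involution.mul_self_of_orderOf hx)])
  have e1 := hinv u hu hu1
  have e2 := hinv x hxV (Involution.ne_one_of_orderOf hx)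
  have e3 := hinv _ (mul_mem hu hxV) hux' a ha
  have e4 : u * x * a * (u * x)⁻¹ = a := by
    rw [show u * x * a * (u * x)⁻¹ = u * (x * a * x⁻¹) * u⁻¹ by group, e2 a ha,
      e1 _ (inv_mem ha), inv_inv]
  apply hno a ha
  rw [e4] at e3
  rw [pow_two]
  exact mul_eq_one_iff_eq_inv.mpr e3

include hx hC hexp hconj in
theorem card_normalizer_dvd :
    Nat.card (normalizer ((centralizer ({x} : Set G) : Subgroup G) : Set G)) ∣ 24 := by
  set V := centralizer ({x} : Set G) with hV
  have hVc : Nat.card V = 4 := hC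
  have hxV : x ∈ V := mem_centralizer_singleton_iff.mpr rfl
  have hker : (V.subgroupOf (normalizer (V : Set G))).index ∣ 6 := by
    classical
    let T : Finset G := (Set.toFinite {u : G | u ∈ V ∧ u ≠ 1}).toFinset
    have hT : ∀ u, u ∈ T ↔ u ∈ V ∧ u ≠ 1 := fun u => by simp [T]
    have hT3 : Nat.card T = 3 := by
      have e : T ≃ {u : V // u ≠ 1} :=
        { toFun := fun u => ⟨⟨u.1, ((hT _).mp u.2).1⟩, fun h => ((hT _).mp u.2).2 (congrArg Subtype.val h)⟩
          invFun := fun u => ⟨(u.1 : G), (hT _).mpr ⟨u.1.2, fun h => u.2 (Subtype.ext h)⟩⟩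
          left_inv := fun u => rfl
          right_inv := fun u => rfl }
      have : Fintype V := Fintype.ofFinite _
      rw [Nat.card_congr e, Nat.card_eq_fintype_card, Fintype.card_subtype_compl,
        Fintype.card_subtype_eq, Fintype.card_eq_nat_card, hVc]
    let a : normalizer (V : Set G) →* Equiv.Perm T :=
      { toFun := fun g =>
          { toFun := fun u => ⟨(g : G) * u * (g : G)⁻¹, (hT _).mpr
              ⟨(mem_normalizer_iff.mp g.2 _).mp ((hT _).mp u.2).1,
                fun h => ((hT _).mp u.2).2 (conj_eq_one_iff.mp h)⟩⟩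
            invFun := fun u => ⟨(g : G)⁻¹ * u * (g : G), (hT _).mpr
              ⟨(mem_normalizer_iff.mp g.2 _).mpr (by simpa [mul_assoc] using ((hT _).mp u.2).1),
                fun h => ((hT _).mp u.2).2 (by
                  have := congrArg (fun w => (g : G) * w * (g : G)⁻¹) h
                  simpa [mul_assoc] using this)⟩⟩
            left_inv := fun u => Subtype.ext (by simp [mul_assoc])
            right_inv := fun u => Subtype.ext (by simp [mul_assoc]) }
        map_one' := Equiv.ext fun u => Subtype.ext (by simp)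
        map_mul' := fun g h => Equiv.ext fun u => Subtype.ext (by simp [mul_assoc]) }
    have hk : a.ker = V.subgroupOf (normalizer (V : Set G)) := by
      ext g
      rw [MonoidHom.mem_ker, mem_subgroupOf]
      constructor
      · intro h
        have hxT : x ∈ T := (hT _).mpr ⟨hxV, Involution.ne_one_of_orderOf hx⟩
        have h1 := congrArg Subtype.val (DFunLike.congr_fun h ⟨x, hxT⟩)
        exact mem_centralizer_singleton_iff.mpr (mul_inv_eq_iff_eq_mul.mp h1)
      · intro h
        refine Equiv.ext fun u => Subtype.ext ?_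
        show (g : G) * u * (g : G)⁻¹ = u
        have h2 : ((g : G) * u) ^ 2 = 1 := hexp _ (mul_mem h ((hT _).mp u.2).1)
        have hg2 : (g : G) ^ 2 = 1 := hexp _ h
        have hu2 : (u : G) ^ 2 = 1 := hexp _ ((hT _).mp u.2).1
        rw [pow_two] at h2 hg2 hu2
        rw [mul_inv_eq_iff_eq_mul, ← inv_eq_of_mul_eq_one_right h2, mul_inv_rev,
          inv_eq_of_mul_eq_one_right hg2, inv_eq_of_mul_eq_one_right hu2]
    have := card_subgroup_dvd_card a.range
    rw [← hk, index_ker]
    rwa [Nat.card_eq_fintype_card (α := Equiv.Perm T), Fintype.card_perm, ← Nat.card_eq_fintype_card, hT3] at this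
  have h := (V.subgroupOf (normalizer (V : Set G))).index_mul_card
  rw [Nat.card_congr (subgroupOfEquivOfLe le_normalizer).toEquiv, hVc] at h
  rw [← h]
  exact Nat.mul_dvd_mul_right hker 4

include hx hC hexp hconj in
/-- In the case of order 60, `G` is simple. -/
theorem isSimpleGroup (h60 : Nat.card G = 60) : IsSimpleGroup G := by
  have : Fact (Nat.Prime 2) := ⟨Nat.prime_two⟩
  have : Nontrivial G := Finite.one_lt_card_iff_nontrivial.mp (by omega)
  obtain ⟨S, hS⟩ := exists_sylow hx hC hexp hconj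
  set V := centralizer ({x} : Set G) with hV
  have hVc : Nat.card V = 4 := hC
  have hxV : x ∈ V := mem_centralizer_singleton_iff.mpr rfl
  have hinvN : ∀ N : Subgroup G, N.Normal → x ∈ N → V ≤ N := by
    intro N hN hxN u hu
    by_cases h1 : u = 1
    · subst h1; exact one_mem _
    · obtain ⟨g, hg⟩ := isConj_iff.mp (hconj u (orderOf_eq_prime (hexp u hu) h1))
      exact hg ▸ hN.conj_mem x hxN g
  refine ⟨fun N hN => ?_⟩
  by_cases hxN : x ∈ N
  · right
    have hVN := hinvN N hN hxN
    have h4 : 4 ∣ Nat.card N := hVc ▸ card_dvd_of_le hVN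
    have hNd : Nat.card N ∣ 60 := h60 ▸ card_subgroup_dvd_card N
    have hnc : Nat.card (normalizer (V : Set G)) ∣ 24 := card_normalizer_dvd hx hC hexp hconj
    have hfr : normalizer (V : Set G) ⊔ N = ⊤ := by
      have h := Sylow.normalizer_sup_eq_top (S.subtype (hS ▸ hVN : (S : Subgroup G) ≤ N))
      rwa [Sylow.coe_subtype, subgroupOf_map_subtype, inf_eq_left.mpr (hS ▸ hVN : (S : Subgroup G) ≤ N),
        hS] at h
    have hidx : N.index ∣ 6 := by
      have h1 : (N.subgroupOf (normalizer (V : Set G))).index = N.index := by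
        show N.relIndex (normalizer (V : Set G)) = N.index
        rw [← relIndex_sup_right (K := N) (H := normalizer (V : Set G)), hfr, relIndex_top_right]
      have h2 := (N.subgroupOf (normalizer (V : Set G))).index_mul_card
      have h3 : 4 ∣ Nat.card (N.subgroupOf (normalizer (V : Set G))) := by
        have h5 : V.subgroupOf (normalizer (V : Set G)) ≤ N.subgroupOf (normalizer (V : Set G)) :=
          fun g hg => hVN hg
        have h6 := card_dvd_of_le h5
        rwa [Nat.card_congr (subgroupOfEquivOfLe le_normalizer).toEquiv, hVc] at h6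
      have h4 : N.index * 4 ∣ 24 := (h1 ▸ h2 ▸ mul_dvd_mul_left _ h3 : _ ∣ _).trans hnc
      exact Nat.dvd_of_mul_dvd_mul_right (k := 4) (by norm_num) h4
    have hmul := N.index_mul_card
    rw [h60] at hmul
    have hi4 : N.index ∣ 15 := by
      obtain ⟨k, hk⟩ := h4
      exact ⟨k, by rw [hk] at hmul; linarith⟩
    have hi3 : N.index ∣ 3 := Nat.dvd_gcd hidx hi4
    rcases (Nat.dvd_prime Nat.prime_three).mp hi3 with hi | hi
    · exact index_eq_one.mp hi
    exfalso
    rw [hi] at hmul
    have hN20 : Nat.card N = 20 := by omega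
    have : Fact (Nat.Prime 5) := ⟨Nat.prime_five⟩
    have hsyl : Nat.card (Sylow 5 N) = 1 := by
      have h1 := card_sylow_modEq_one (p := 5) (G := N)
      let P : Sylow 5 N := Classical.arbitrary _
      have h2 := P.card_dvd_index
      have h3 := (P : Subgroup N).index_mul_card
      have h4 : Nat.card (P : Subgroup N) = 5 := by
        rw [Sylow.card_eq_multiplicity, hN20,
          show (20 : ℕ).factorization 5 = 1 by
            rw [show (20 : ℕ) = 4 * 5 by norm_num, Nat.factorization_mul (by norm_num) (by norm_num),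
              Finsupp.add_apply, Nat.Prime.factorization_self Nat.prime_five,
              Nat.factorization_eq_zero_of_not_dvd (by norm_num)]]
        norm_num
      rw [h4, hN20] at h3
      have h5 : (P : Subgroup N).index = 4 := by omega
      rw [h5] at h2
      have := Nat.le_of_dvd (by norm_num) h2
      unfold Nat.ModEq at h1
      omega
    have : Subsingleton (Sylow 5 N) := (Nat.card_eq_one_iff_unique.mp hsyl).1
    let P : Sylow 5 N := Classical.arbitrary _
    have := Sylow.characteristic_of_subsingleton P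
    set P' := (P : Subgroup N).map N.subtype with hP'
    have hP'n : P'.Normal := ConjAct.normal_of_characteristic_of_normal
    have hP'5 : Nat.card P' = 5 := by
      rw [hP', card_map_of_injective N.subtype_injective, Sylow.card_eq_multiplicity, hN20,
          show (20 : ℕ).factorization 5 = 1 by
            rw [show (20 : ℕ) = 4 * 5 by norm_num, Nat.factorization_mul (by norm_num) (by norm_num),
              Finsupp.add_apply, Nat.Prime.factorization_self Nat.prime_five,
              Nat.factorization_eq_zero_of_not_dvd (by norm_num)]]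
      norm_num
    have hbot := odd_normal_eq_bot hx hC hexp hconj P' (by rw [hP'5]; decide)
    rw [hbot, card_bot] at hP'5
    omega
  · left
    refine odd_normal_eq_bot hx hC hexp hconj N ?_
    rw [← Nat.not_even_iff_odd, even_iff_two_dvd]
    intro h2
    obtain ⟨u, hu⟩ := exists_prime_orderOf_dvd_card' 2 h2
    obtain ⟨g, hg⟩ := isConj_iff.mp (hconj (u : G) (by rw [Subgroup.orderOf_coe, hu]))
    apply hxN
    have h := hN.conj_mem _ u.2 g⁻¹
    rw [← hg] at h
    simpa [mul_assoc] using h

end Cfsg.Agent.InvChar68.V4
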