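import Cfsg.Agent.InvChar68.CharTwoCyclicCenter
import Cfsg.Agent.PLocalB.LocalConstrained
import Cfsg.Agent.Lib.PGroup.Basic

/-!
# Criteria for characteristic 2 type in the early sense
-/

set_option autoImplicit false

namespace Cfsg.Agent.InvChar68.CharTwoCriteria

open Subgroup Signalizer

variable {G : Type*} [Group G] [Finite G]

/-- `Ω₁(A)` for an abelian subgroup `A` of rank at least 3 normalised by `S`. -/
theorem exists_omega {S A : Subgroup G} (hAcomm : ∀ a ∈ A, ∀ b ∈ A, Commute a b)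
    (hSA : S ≤ normalizer (A : Set G)) (hA3 : ¬ Cfsg.PRankLE 2 2 ↥A) :
    ∃ E : Subgroup G, (∀ a, a ∈ E ↔ a ∈ A ∧ a * a = 1) ∧ S ≤ normalizer (E : Set G) ∧
      (∀ a ∈ E, a * a = 1) ∧ 8 ≤ Nat.card E := by
  let E : Subgroup G :=
    { carrier := {a | a ∈ A ∧ a * a = 1}
      one_mem' := ⟨one_mem _, one_mul 1⟩
      mul_mem' := fun {a b} ha hb => ⟨mul_mem ha.1 hb.1, by
        rw [mul_assoc, ← mul_assoc b a b, (hAcomm b hb.1 a ha.1).eq, mul_assoc a b b, hb.2,
          mul_one, ha.2]⟩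
      inv_mem' := fun {a} ha => ⟨inv_mem ha.1, by rw [← mul_inv_rev, ha.2, inv_one]⟩ }
  refine ⟨E,
    fun a => Iff.rfl, ?_, fun a ha => ha.2, ?_⟩
  · rw [Subgroup.le_normalizer_iff]
    intro s hs a ha
    refine ⟨(mem_normalizer_iff.mp (hSA hs) a).mp ha.1, ?_⟩
    rw [show s * a * s⁻¹ * (s * a * s⁻¹) = s * (a * a) * s⁻¹ by group, ha.2]
    group
  · rw [Cfsg.PRankLE] at hA3
    push Not at hA3
    obtain ⟨B, hBc, hB2, hB4⟩ := hA3
    have hle : B.map A.subtype ≤ E := by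
      rintro _ ⟨b, hb, rfl⟩
      have h := hB2 b hb
      rw [pow_two] at h
      exact ⟨b.2, congrArg Subtype.val h⟩
    have h1 := Subgroup.card_le_of_le hle
    rw [card_map_of_injective (subtype_injective _)] at h1
    have hEp : IsPGroup 2 E := fun e => ⟨1, Subtype.ext (by
      show ((e : G)) ^ 2 ^ 1 = 1
      rw [pow_one, pow_two]; exact e.2.2)⟩
    obtain ⟨n, hn⟩ := IsPGroup.iff_card.mp hEp
    have hn3 : 3 ≤ n := by
      by_contra h
      have hp := Nat.pow_le_pow_right two_pos (show n ≤ 2 by omega)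
      omega
    have hp := Nat.pow_le_pow_right two_pos hn3
    omega

/-- An elementary abelian normal subgroup of order `≥ 8` of a 2-group `S` holds a four group
`{1, z, u, uz}` with `z ∈ Z(S)` and `[S : C_S(u)] ≤ 2`. -/
theorem exists_four {S E : Subgroup G} (hS : IsPGroup 2 S) (hES : E ≤ S)
    (hSE : S ≤ normalizer (E : Set G)) (hE2 : ∀ a ∈ E, a * a = 1) (hE8 : 8 ≤ Nat.card E)
    {z : G} (hzE : z ∈ E) (hz : orderOf z = 2) (hSz : ∀ s ∈ S, Commute s z) :
    ∃ u ∈ E, u ≠ 1 ∧ u ≠ z ∧ ∀ s ∈ S, s * u * s⁻¹ = u ∨ s * u * s⁻¹ = u * z := by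
  let zS : ↥S := ⟨z, hES hzE⟩
  haveI : (zpowers zS).Normal := by
    constructor
    intro x hx g
    obtain ⟨k, rfl⟩ := mem_zpowers_iff.mp hx
    have hc : Commute g zS := Subtype.ext (hSz g g.2).eq
    rw [(hc.zpow_right k).eq, mul_inv_cancel_right]
    exact zpow_mem (mem_zpowers _) k
  have hzp : ∀ x ∈ zpowers zS, (x : G) = 1 ∨ (x : G) = z := by
    intro x hx
    obtain ⟨k, rfl⟩ := mem_zpowers_iff.mp hx
    have hz2 : z ^ (2 : ℤ) = 1 := by
      rw [show (2 : ℤ) = ((2 : ℕ) : ℤ) from rfl, zpow_natCast, ← hz, pow_orderOf_eq_one]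
    rcases Int.even_or_odd k with ⟨j, rfl⟩ | ⟨j, rfl⟩
    · left
      rw [coe_zpow, show j + j = 2 * j by ring, zpow_mul]
      show (z ^ (2 : ℤ)) ^ j = 1
      rw [hz2, one_zpow]
    · right
      rw [coe_zpow, zpow_add, zpow_mul]
      show (z ^ (2 : ℤ)) ^ j * z ^ (1 : ℤ) = z
      rw [hz2, one_zpow, one_mul, zpow_one]
  let π := QuotientGroup.mk' (zpowers zS)
  haveI : (E.subgroupOf S).Normal := normal_subgroupOf_of_le_normalizer hSE
  have hNn : ((E.subgroupOf S).map π).Normal :=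
    Subgroup.Normal.map inferInstance _ (QuotientGroup.mk'_surjective _)
  have hNne : (E.subgroupOf S).map π ≠ ⊥ := by
    intro h
    rw [Subgroup.map_eq_bot_iff, QuotientGroup.ker_mk'] at h
    have h1 := Subgroup.card_le_of_le h
    rw [Nat.card_congr (subgroupOfEquivOfLe hES).toEquiv, Nat.card_zpowers, ← Subgroup.orderOf_coe,
      hz] at h1
    omega
  obtain ⟨q, hq, hq1⟩ := (Subgroup.bot_or_exists_ne_one _).resolve_left
    (PGroup.inf_center_ne_bot (hS.to_quotient (zpowers zS)) (hN := hNn) hNne)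
  obtain ⟨⟨w, hw, rfl⟩, hqc⟩ := hq
  refine ⟨(w : G), hw, fun h => ?_, fun h => ?_, fun s hs => ?_⟩
  · exact hq1 (by rw [show w = 1 from Subtype.ext h, map_one])
  · exact hq1 ((QuotientGroup.eq_one_iff w).mpr (by
      rw [show w = zS from Subtype.ext h]; exact mem_zpowers _))
  · have h : π (w⁻¹ * ((⟨s, hs⟩ : ↥S) * w * (⟨s, hs⟩ : ↥S)⁻¹)) = 1 := by
      rw [map_mul, map_mul, map_mul, mem_center_iff.mp hqc (π ⟨s, hs⟩), mul_assoc, map_inv, map_inv,
        mul_inv_cancel, mul_one, inv_mul_cancel]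
    rcases hzp _ ((QuotientGroup.eq_one_iff _).mp h) with h1 | h1
    · left
      simp only [Subgroup.coe_mul, InvMemClass.coe_inv] at h1
      exact (inv_mul_eq_one.mp h1).symm
    · right
      simp only [Subgroup.coe_mul, InvMemClass.coe_inv] at h1
      rw [← h1, mul_inv_cancel_left]

/-- A subgroup of order at most twice: `[S : C_S(u)] ≤ 2`. -/
theorem relIndex_centralizer_le {S : Subgroup G} {u z : G} (hz : orderOf z = 2)
    (hSz : ∀ s ∈ S, Commute s z) (hu : ∀ s ∈ S, s * u * s⁻¹ = u ∨ s * u * s⁻¹ = u * z) :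
    Nat.card S ≤ 2 * Nat.card ↥(S ⊓ centralizer ({u} : Set G)) := by
  have hmem : ∀ s : ↥S, u⁻¹ * ((s : G) * u * (s : G)⁻¹) ∈ zpowers z := fun s => by
    rcases hu s s.2 with h | h <;> rw [h] <;> simp [mem_zpowers]
  let χ : ↥S →* ↥(zpowers z) := MonoidHom.mk' (fun s => ⟨_, hmem s⟩) fun s t => Subtype.ext (by
    obtain ⟨k, hk⟩ := mem_zpowers_iff.mp (hmem t)
    have hc : Commute (s : G) (u⁻¹ * ((t : G) * u * (t : G)⁻¹)) :=
      hk ▸ (hSz s s.2).zpow_right k
    show u⁻¹ * (((s * t : ↥S) : G) * u * ((s * t : ↥S) : G)⁻¹) =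
      u⁻¹ * ((s : G) * u * (s : G)⁻¹) * (u⁻¹ * ((t : G) * u * (t : G)⁻¹))
    rw [Subgroup.coe_mul]
    calc u⁻¹ * ((s : G) * t * u * ((s : G) * t)⁻¹)
        = u⁻¹ * ((s : G) * u) * ((u⁻¹ * ((t : G) * u * (t : G)⁻¹)) * (s : G)⁻¹) := by group
      _ = u⁻¹ * ((s : G) * u) * ((s : G)⁻¹ * (u⁻¹ * ((t : G) * u * (t : G)⁻¹))) := by
        rw [hc.inv_left.eq]
      _ = _ := by group)
  have hker : Nat.card χ.ker ≤ Nat.card ↥(S ⊓ centralizer ({u} : Set G)) := by
    rw [← card_map_of_injective (K := χ.ker) (subtype_injective S)]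
    refine card_le_of_le ?_
    rintro _ ⟨s, hs, rfl⟩
    refine Subgroup.mem_inf.mpr ⟨s.2, mem_centralizer_singleton_iff.mpr ?_⟩
    have h : u⁻¹ * ((s : G) * u * (s : G)⁻¹) = 1 := congrArg Subtype.val (MonoidHom.mem_ker.mp hs)
    exact mul_inv_eq_iff_eq_mul.mp (inv_mul_eq_one.mp h).symm
  have hran : Nat.card χ.range ≤ 2 := by
    rw [← hz, ← Nat.card_zpowers z]
    exact Subgroup.card_le_card_group _
  have h1 := χ.ker.index_mul_card
  rw [Subgroup.index_ker] at h1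
  have h2 := Nat.mul_le_mul hran hker
  omega

/-- An odd subgroup normalised by a subgroup of index at most 2 of a Sylow 2-subgroup meets a
constrained core-free overgroup of its normaliser trivially. -/
theorem inf_eq_bot (S : Sylow 2 G) {S₀ H X : Subgroup G} (hS₀ : S₀ ≤ (S : Subgroup G))
    (hidx : Nat.card (S : Subgroup G) ≤ 2 * Nat.card S₀) (hS₀H : S₀ ≤ H) (hXH : X ≤ H)
    (hX : Odd (Nat.card X)) (hSX : S₀ ≤ normalizer (X : Set G))
    (hH : Cfsg.IsPConstrained 2 ↥H) (hbot : Cfsg.oddCore ↥H = ⊥) : X = ⊥ := by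
  have hCO := (PLocalB.isPConstrained_iff_of_pPrimeCore_eq_bot hbot).mp hH
  set Q := (Cfsg.pCore 2 ↥H).map H.subtype with hQ
  have hQ2 : IsPGroup 2 Q := Thompson.isPGroup_pCore.map _
  have hHQ : H ≤ normalizer (Q : Set G) := by
    rw [Subgroup.le_normalizer_iff]
    rintro m hm _ ⟨x, hx, rfl⟩
    exact ⟨⟨m, hm⟩ * x * (⟨m, hm⟩)⁻¹, Thompson.instPCoreNormal.conj_mem x hx _, rfl⟩
  have hQX : ∀ q ∈ Q ⊓ S₀, ∀ y ∈ X, Commute y q := by
    intro q hq y hy
    have h1 : y * q * y⁻¹ * q⁻¹ ∈ X ⊓ Q := by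
      refine Subgroup.mem_inf.mpr ⟨?_, mul_mem ((mem_normalizer_iff.mp (hHQ (hXH hy)) q).mp hq.1) (inv_mem hq.1)⟩
      rw [show y * q * y⁻¹ * q⁻¹ = y * (q * y⁻¹ * q⁻¹) by group]
      exact mul_mem hy ((mem_normalizer_iff.mp (hSX hq.2) _).mp (inv_mem hy))
    rw [inf_comm, Thompson.inf_eq_bot_of_isPGroup_of_coprime hQ2 (Nat.coprime_two_right.mpr hX),
      mem_bot, mul_inv_eq_one, mul_inv_eq_iff_eq_mul] at h1
    exact h1
  have hR2 : IsPGroup 2 ↥(S₀ ⊔ Q) :=
    IsPGroup.to_sup_of_normal_right' (S.isPGroup'.to_le hS₀) hQ2 (hS₀H.trans hHQ)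
  obtain ⟨T, hT⟩ := hR2.exists_le_sylow
  have hR : Nat.card ↥(S₀ ⊔ Q) ≤ 2 * Nat.card S₀ := by
    refine le_trans (card_le_of_le hT) (le_trans ?_ hidx)
    rw [T.card_eq_multiplicity, S.card_eq_multiplicity]
  have hrel : (S₀.subgroupOf Q).index ≤ 2 := by
    have h1 := Subgroup.relIndex_mul_relIndex ⊥ S₀ (S₀ ⊔ Q) bot_le le_sup_left
    rw [relIndex_bot_left, relIndex_bot_left] at h1
    have hpos : 0 < Nat.card S₀ := Nat.card_pos
    have h2 : S₀.relIndex (S₀ ⊔ Q) ≤ 2 := by nlinarith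
    refine le_trans ?_ h2
    exact relIndex_le_of_le_right le_sup_right (by rw [relIndex]; exact FiniteIndex.index_ne_zero)
  have hall : ∀ q ∈ Q, ∀ y ∈ X, Commute y q := by
    intro q hq y hy
    by_cases hq0 : q ∈ S₀
    · exact hQX q ⟨hq, hq0⟩ y hy
    have hyq : y * q * y⁻¹ ∈ Q := (mem_normalizer_iff.mp (hHQ (hXH hy)) q).mp hq
    have hyn : y * q * y⁻¹ ∉ S₀ := by
      intro h
      have hc := hQX _ ⟨hyq, h⟩ y hy
      have : y * q * y⁻¹ = q := by
        have h' := mul_inv_eq_iff_eq_mul.mpr hc.eq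
        calc y * q * y⁻¹ = y⁻¹ * (y * (y * q * y⁻¹) * y⁻¹) * y := by group
          _ = y⁻¹ * (y * q * y⁻¹) * y := by rw [h']
          _ = q := by group
      exact hq0 (this ▸ h)
    have hne1 : (S₀.subgroupOf Q).index ≠ 1 := fun h =>
      hq0 (mem_subgroupOf.mp ((index_eq_one.mp h).symm ▸ mem_top (⟨q, hq⟩ : ↥Q)))
    have hpos : (S₀.subgroupOf Q).index ≠ 0 := FiniteIndex.index_ne_zero
    have h2 : (S₀.subgroupOf Q).index = 2 := by omega
    set e := q⁻¹ * (y * q * y⁻¹) with he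
    have heS : e ∈ S₀ := by
      have h := (mul_mem_iff_of_index_two h2 (a := (⟨q, hq⟩ : ↥Q)⁻¹)
        (b := ⟨y * q * y⁻¹, hyq⟩)).mpr (by
          rw [mem_subgroupOf, mem_subgroupOf]
          exact iff_of_false (fun h => hq0 (by simpa using h)) hyn)
      exact h
    have heQ : e ∈ Q := mul_mem (inv_mem hq) hyq
    have hey : Commute y e := hQX e ⟨heQ, heS⟩ y hy
    have hpow : ∀ n : ℕ, y ^ n * q * (y ^ n)⁻¹ = q * e ^ n := by
      intro n
      induction n with
      | zero => simp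
      | succ n ih =>
        rw [pow_succ' y n]
        calc y * y ^ n * q * (y * y ^ n)⁻¹ = y * (y ^ n * q * (y ^ n)⁻¹) * y⁻¹ := by group
          _ = y * q * y⁻¹ * (y * e ^ n * y⁻¹) := by rw [ih]; group
          _ = q * e * e ^ n := by
            rw [mul_inv_eq_iff_eq_mul.mpr (hey.pow_right n).eq, he, mul_inv_cancel_left]
          _ = q * e ^ (n + 1) := by rw [pow_succ', mul_assoc]
    have h0 := hpow (orderOf y)
    rw [pow_orderOf_eq_one, one_mul, inv_one, mul_one, left_eq_mul] at h0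
    have he1 : e = 1 := by
      obtain ⟨j, hj⟩ := hQ2 ⟨e, heQ⟩
      have hj' : e ^ 2 ^ j = 1 := by simpa using congrArg Subtype.val hj
      have hd := Nat.dvd_gcd (orderOf_dvd_of_pow_eq_one h0) (orderOf_dvd_of_pow_eq_one hj')
      have hco : (orderOf y).Coprime (2 ^ j) := (Nat.coprime_two_right.mpr
        (hX.of_dvd_nat (Subgroup.orderOf_dvd_natCard X hy))).pow_right j
      rw [hco, Nat.dvd_one, orderOf_eq_one_iff] at hd
      exact hd
    rw [he, inv_mul_eq_one, eq_mul_inv_iff_mul_eq] at he1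
    exact he1.symm
  rw [eq_bot_iff]
  intro y hy
  have h1 : (⟨y, hXH hy⟩ : ↥H) ∈ Cfsg.pCore 2 ↥H := hCO (mem_centralizer_iff.mpr fun q hq =>
    Subtype.ext (hall _ ⟨q, hq, rfl⟩ y hy).eq.symm)
  have h2 : y ∈ Q ⊓ X := ⟨⟨_, h1, rfl⟩, hy⟩
  rwa [Thompson.inf_eq_bot_of_isPGroup_of_coprime hQ2 (Nat.coprime_two_right.mpr hX)] at h2

/-- **The criteria.** -/
theorem criteria (S : Sylow 2 G) (A : Subgroup G) (hA : Cfsg.IsSCN (S : Subgroup G) A)
    (hA3 : ¬ Cfsg.PRankLE 2 2 ↥A)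
    (h : (∀ M : Subgroup G, Cfsg.IsMaximalTwoLocal M → Cfsg.IsPConstrained 2 ↥M ∧ Cfsg.oddCore ↥M = ⊥) ∨
      (∀ t : G, orderOf t = 2 → Cfsg.IsPConstrained 2 ↥(centralizer ({t} : Set G)) ∧
        Cfsg.oddCore ↥(centralizer ({t} : Set G)) = ⊥)) :
    (∀ X : Subgroup G, Odd (Nat.card ↥X) → (S : Subgroup G) ≤ normalizer (X : Set G) → X = ⊥) ∧
      (∀ T : Subgroup G, IsPGroup 2 ↥T → T ≠ ⊥ →
        Cfsg.IsPConstrained 2 ↥(normalizer (T : Set G))) := by
  have hover : ∀ t : G, orderOf t = 2 → ∃ H : Subgroup G, centralizer ({t} : Set G) ≤ H ∧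
      Cfsg.IsPConstrained 2 ↥H ∧ Cfsg.oddCore ↥H = ⊥ := by
    intro t ht
    rcases h with h | h
    · obtain ⟨M, hle, hM⟩ := Finite.exists_le_maximal (p := fun N : Subgroup G => Cfsg.IsTwoLocal N)
        (CyclicCenter.isTwoLocal_centralizer ht)
      exact ⟨M, hle, h M ⟨hM.1, fun N hN hMN => le_antisymm (hM.2 hN hMN) hMN⟩⟩
    · exact ⟨_, le_rfl, h t ht⟩
  refine ⟨fun X hX hSX => ?_, fun T hT hT1 => ?_⟩
  · obtain ⟨hAS, hSA, hAC⟩ := hA
    have hAcomm : ∀ a ∈ A, ∀ b ∈ A, Commute a b := fun a ha b hb =>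
      ((mem_centralizer_iff.mp ((hAC.ge.trans inf_le_right) hb)) a ha : a * b = b * a)
    obtain ⟨E, hEA, hSE, hE2, hE8⟩ : ∃ E : Subgroup G, (∀ a, a ∈ E ↔ a ∈ A ∧ a * a = 1) ∧
        (S : Subgroup G) ≤ normalizer (E : Set G) ∧ (∀ a ∈ E, a * a = 1) ∧ 8 ≤ Nat.card E :=
      exists_omega hAcomm hSA hA3
    haveI : Nontrivial ↥(S : Subgroup G) := by
      rw [nontrivial_iff_ne_bot]
      intro h
      have := Subgroup.card_le_of_le
        (show E ≤ (S : Subgroup G) from fun e he => hAS ((hEA e).mp he).1)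
      rw [h, Subgroup.card_bot] at this
      omega
    haveI : Nontrivial ↥(center ↥(S : Subgroup G)) := S.isPGroup'.center_nontrivial
    obtain ⟨c, hc⟩ := exists_prime_orderOf_dvd_card' 2
      ((IsPGroup.card_eq_or_dvd (p := 2) (S.isPGroup'.to_subgroup (center ↥(S : Subgroup G)))).resolve_left
        Finite.one_lt_card.ne')
    set z : G := ((c : ↥(S : Subgroup G)) : G) with hzdef
    have hzS : z ∈ (S : Subgroup G) := (c : ↥(S : Subgroup G)).2
    have hz : orderOf z = 2 := by rw [hzdef, Subgroup.orderOf_coe, Subgroup.orderOf_coe, hc]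
    have hzz : z * z = 1 := by rw [← pow_two, ← hz, pow_orderOf_eq_one]
    have hSz : ∀ s ∈ (S : Subgroup G), Commute s z := fun s hs =>
      congrArg Subtype.val (mem_center_iff.mp c.2 ⟨s, hs⟩)
    have hzE : z ∈ E := (hEA z).mpr
      ⟨hAC.le ⟨hzS, mem_centralizer_iff.mpr fun a ha => hSz a (hAS ha)⟩, hzz⟩
    have hES : E ≤ (S : Subgroup G) := fun e he => hAS ((hEA e).mp he).1
    obtain ⟨u, huE, hu1, huz, hu⟩ := exists_four S.isPGroup' hES hSE hE2 hE8 hzE hz hSz
    -- fixed points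
    have hfix : ∀ t : G, orderOf t = 2 → ∀ S₀ : Subgroup G, S₀ ≤ (S : Subgroup G) →
        Nat.card (S : Subgroup G) ≤ 2 * Nat.card S₀ → S₀ ≤ centralizer ({t} : Set G) →
        X ⊓ centralizer ({t} : Set G) = ⊥ := by
      intro t ht S₀ h1 h2 h3
      obtain ⟨H, hH, hHc, hHo⟩ := hover t ht
      refine inf_eq_bot S h1 h2 (h3.trans hH) (inf_le_right.trans hH)
        (hX.of_dvd_nat (card_dvd_of_le inf_le_left)) ?_ hHc hHo
      rw [Subgroup.le_normalizer_iff]
      intro s hs x hx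
      rw [Subgroup.mem_inf] at hx ⊢
      exact ⟨(mem_normalizer_iff.mp (hSX (h1 hs)) x).mp hx.1,
        mul_mem (mul_mem (h3 hs) hx.2) (inv_mem (h3 hs))⟩
    have hXz : X ⊓ centralizer ({z} : Set G) = ⊥ := hfix z hz _ le_rfl (by omega)
      fun s hs => mem_centralizer_singleton_iff.mpr (hSz s hs).eq
    have hinv : ∀ x ∈ X, z * x * z⁻¹ = x⁻¹ := by
      refine FourCent.inverts_of_fixed hzz X
        (fun a ha => (mem_normalizer_iff.mp (hSX hzS) a).mp ha) fun a ha hfa => ?_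
      have hm : a ∈ X ⊓ centralizer ({z} : Set G) :=
        ⟨ha, mem_centralizer_singleton_iff.mpr (mul_inv_eq_iff_eq_mul.mp hfa).symm⟩
      rwa [hXz, mem_bot] at hm
    have hS0 := relIndex_centralizer_le (S := (S : Subgroup G)) hz hSz hu
    have huo : orderOf u = 2 := orderOf_eq_prime (by rw [pow_two]; exact hE2 u huE) hu1
    have huzo : orderOf (u * z) = 2 := orderOf_eq_prime (by rw [pow_two]; exact hE2 _ (mul_mem huE hzE))
      fun h => huz (by
        rw [← inv_eq_of_mul_eq_one_right hzz]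
        exact eq_inv_of_mul_eq_one_left h)
    rw [eq_bot_iff]
    intro x hx
    obtain ⟨a, b, ha, hau, hb, hbu, rfl⟩ := exists_mul_of_inverted hX hinv (hE2 u huE)
      (fun y hy => (mem_normalizer_iff.mp (hSX (hES huE)) y).mp hy) hx
    have h1 : a ∈ X ⊓ centralizer ({u} : Set G) := ⟨ha, hau⟩
    have h2 : b ∈ X ⊓ centralizer ({u * z} : Set G) := ⟨hb, hbu⟩
    rw [hfix u huo _ inf_le_left hS0 inf_le_right, mem_bot] at h1
    rw [hfix (u * z) huzo _ inf_le_left hS0 (fun s hs => mem_centralizer_mul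
      (Subgroup.mem_inf.mp hs).2 (mem_centralizer_singleton_iff.mpr
        (hSz s (Subgroup.mem_inf.mp hs).1).eq)), mem_bot] at h2
    simp [h1, h2]
  · rcases h with h | h
    · obtain ⟨M, hle, hM⟩ := Finite.exists_le_maximal (p := fun N : Subgroup G => Cfsg.IsTwoLocal N)
        ⟨T, hT, hT1, rfl⟩
      have hc := (h M ⟨hM.1, fun N hN hMN => le_antisymm (hM.2 hN hMN) hMN⟩).1
      have hTM : T ≤ M := le_normalizer.trans hle
      have h1 := (PLocalB.local_facts hc (T.subgroupOf M) ((normalizer (T : Set G)).subgroupOf M)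
        hT.comap_subtype (by rw [subgroupOf_normalizer_eq hTM]; exact centralizer_le_normalizer _)
        (by rw [subgroupOf_normalizer_eq hTM])
        (by rw [subgroupOf_normalizer_eq hTM, subgroupOf_self]; infer_instance)).2
      exact PLocalB.isPConstrained_of_equiv (subgroupOfEquivOfLe hle) h1
    · haveI : Nontrivial T := (nontrivial_iff_ne_bot T).mpr hT1
      haveI : Nontrivial (center ↥T) := hT.center_nontrivial
      obtain ⟨x, hx⟩ := exists_prime_orderOf_dvd_card' (G := center T) 2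
        ((IsPGroup.card_eq_or_dvd (p := 2) (hT.to_subgroup (center ↥T))).resolve_left Finite.one_lt_card.ne')
      have hx' : orderOf ((x : T) : G) = 2 := by rw [Subgroup.orderOf_coe, Subgroup.orderOf_coe, hx]
      set Cx := centralizer ({((x : T) : G)} : Set G)
      have hTC : T ≤ Cx := fun t ht => mem_centralizer_singleton_iff.mpr
        (congrArg Subtype.val (mem_center_iff.mp x.2 ⟨t, ht⟩))
      have hCC : centralizer (T : Set G) ≤ Cx :=
        centralizer_le (Set.singleton_subset_iff.mpr (x : T).2)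
      have h1 := (PLocalB.local_facts (h _ hx').1 (T.subgroupOf Cx) _ hT.comap_subtype le_rfl
        (centralizer_le_normalizer _)
        (by rw [← PLocalB.centralizer_subgroupOf _ _ le_normalizer]; infer_instance)).2
      rw [PLocalB.centralizer_subgroupOf T Cx hTC] at h1
      have h2 := PLocalB.isPConstrained_of_equiv (subgroupOfEquivOfLe hCC) h1
      haveI : (T.subgroupOf (normalizer (T : Set G))).Normal := normal_in_normalizer
      refine PLocalB.isPConstrained_of_centralizer_normal (T.subgroupOf (normalizer (T : Set G)))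
        hT.comap_subtype ?_
      rw [PLocalB.centralizer_subgroupOf T _ le_normalizer]
      exact PLocalB.isPConstrained_of_equiv
        (subgroupOfEquivOfLe (centralizer_le_normalizer (T : Set G))).symm h2

end Cfsg.Agent.InvChar68.CharTwoCriteria
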