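import Cfsg.Agent.S0215
import Cfsg.Agent.Lib.Involution.Dihedral
import Cfsg.Agent.Lib.Thompson.Cores
import Cfsg.Prelude.Def_CaseTheorems

/-!
# An isolated involution: `G = C(u) O(G)`
-/

set_option autoImplicit false

namespace Cfsg.Agent.InvChar68

open Subgroup

/-- Glauberman's theorem in the form `G = C(u) O(G)`. -/
theorem sup_oddCore_eq_top {G : Type*} [Group G] [Finite G] (P : Sylow 2 G) (u : G)
    (hu : orderOf u = 2) (huP : u ∈ P)
    (hiso : ∀ g : G, g * u * g⁻¹ ∈ P → g * u * g⁻¹ = u) :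
    centralizer ({u} : Set G) ⊔ Cfsg.oddCore G = ⊤ := by
  obtain ⟨N, hN, hodd, hcomm⟩ := S0215.result P u hu huP hiso
  have hle : N ≤ Cfsg.oddCore G := Thompson.le_pPrimeCore hN (Nat.coprime_two_right.mpr hodd)
  rw [eq_top_iff]
  intro g _
  have huu := Involution.mul_self_of_orderOf hu
  have hvv : (g * u * g⁻¹) * (g * u * g⁻¹) = 1 := by
    rw [show g * u * g⁻¹ * (g * u * g⁻¹) = g * (u * u) * g⁻¹ by group, huu]; group
  have hmem : u * (g * u * g⁻¹) ∈ N := by
    have h := hcomm g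
    rw [inv_eq_of_mul_eq_one_right huu] at h
    simpa [mul_assoc] using h
  have hodd' : Odd (orderOf (u * (g * u * g⁻¹))) :=
    hodd.of_dvd_nat (Subgroup.orderOf_dvd_natCard N hmem)
  obtain ⟨k, hk⟩ := Involution.exists_conj_of_odd huu hvv hodd'
  have hc : ((u * (g * u * g⁻¹)) ^ k)⁻¹ * g ∈ centralizer ({u} : Set G) := by
    rw [mem_centralizer_singleton_iff]
    set m := (u * (g * u * g⁻¹)) ^ k
    calc m⁻¹ * g * u = m⁻¹ * (g * u * g⁻¹) * g := by group
      _ = m⁻¹ * (m * u * m⁻¹) * g := by rw [hk]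
      _ = u * (m⁻¹ * g) := by group
  have := mul_mem (mem_sup_right (S := centralizer ({u} : Set G)) (hle (zpow_mem hmem k)))
    (mem_sup_left (T := Cfsg.oddCore G) hc)
  simpa using this

end Cfsg.Agent.InvChar68
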