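import Cfsg.Agent.InvChar68.Signalizer
import Cfsg.Agent.InvChar68.IsolatedInvolution
import Cfsg.Agent.Lib.Thompson.Alperin
import Cfsg.Prelude.Def_OddOrderLocal

/-!
# Characteristic 2 type in the early sense: a maximal 2-local with non-cyclic centre of `O₂`
-/

set_option autoImplicit false

namespace Cfsg.Agent.InvChar68.CyclicCenter

open Subgroup Signalizer

variable {G : Type*} [Group G] [Finite G]

omit [Finite G] in
theorem isTwoLocal_centralizer [Finite G] {u : G} (hu : orderOf u = 2) :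
    Cfsg.IsTwoLocal (centralizer ({u} : Set G)) :=
  ⟨zpowers u, IsPGroup.of_card (n := 1) (by rw [Nat.card_zpowers, hu, pow_one]),
    fun h => by rw [zpowers_eq_bot] at h; simp [h] at hu,
    (Class49.normalizer_zpowers_of_orderOf_two hu).symm⟩

theorem con_centralizer
    (hcon : ∀ T : Subgroup G, IsPGroup 2 ↥T → T ≠ ⊥ →
      Cfsg.IsPConstrained 2 ↥(normalizer (T : Set G)))
    {u : G} (hu : orderOf u = 2) : Cfsg.IsPConstrained 2 ↥(centralizer ({u} : Set G)) := by
  obtain ⟨T, hT, hT1, hTeq⟩ := isTwoLocal_centralizer hu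
  rw [hTeq]
  exact hcon T hT hT1

/-- A cyclic group has at most one involution. -/
theorem involution_unique {Z : Type*} [Group Z] [Finite Z] (h : IsCyclic Z) {a b : Z}
    (ha : orderOf a = 2) (hb : orderOf b = 2) : a = b := by
  classical
  have := Fintype.ofFinite Z
  have ha1 : a ≠ 1 := fun e => by simp [e] at ha
  have hb1 : b ≠ 1 := fun e => by simp [e] at hb
  by_contra hab
  have hle : ({1, a, b} : Finset Z).card ≤ 2 := by
    refine le_trans (Finset.card_le_card ?_) (h.card_pow_eq_one_le (n := 2) two_pos)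
    intro x hx
    simp only [Finset.mem_insert, Finset.mem_singleton] at hx
    rw [Finset.mem_filter]
    refine ⟨Finset.mem_univ _, ?_⟩
    rcases hx with rfl | rfl | rfl
    · simp
    · rw [← ha, pow_orderOf_eq_one]
    · rw [← hb, pow_orderOf_eq_one]
  rw [Finset.card_insert_of_notMem (by simp [Ne.symm ha1, Ne.symm hb1]),
    Finset.card_insert_of_notMem (by simp [hab]), Finset.card_singleton] at hle
  omega

/-- In a maximal 2-local with cyclic centre of `O₂`: it is the centralizer of an involution, and an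
involution centralizing `O₂` in it is that one. -/
theorem maximal_facts
    (hcon : ∀ T : Subgroup G, IsPGroup 2 ↥T → T ≠ ⊥ →
      Cfsg.IsPConstrained 2 ↥(normalizer (T : Set G)))
    (hcore : ∀ i : G, orderOf i = 2 → Cfsg.centralizerPPrimeCore 2 i = ⊥)
    {M : Subgroup G} (hM : Cfsg.IsMaximalTwoLocal M)
    (hcyc : IsCyclic ↥(center ↥(Cfsg.pCore 2 ↥M))) {u : G} (hu : orderOf u = 2) (huM : u ∈ M)
    (huQ : ∀ q ∈ (Cfsg.pCore 2 ↥M).map M.subtype, Commute u q) :
    M = centralizer ({u} : Set G) := by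
  obtain ⟨⟨T, hT2, hT1, hTeq⟩, hmax⟩ := hM
  set O := Cfsg.pCore 2 ↥M with hO
  have hTM : T ≤ M := hTeq ▸ le_normalizer
  have hTO : T.subgroupOf M ≤ O := Thompson.le_pCore
    (normal_subgroupOf_of_le_normalizer hTeq.le) hT2.comap_subtype
  have hOne : O ≠ ⊥ := by
    intro h
    rw [h, le_bot_iff, subgroupOf_eq_bot] at hTO
    exact hT1 (hTO.eq_bot_of_le hTM)
  haveI : Nontrivial ↥O := (nontrivial_iff_ne_bot O).mpr hOne
  haveI : Nontrivial ↥(center ↥O) := Thompson.isPGroup_pCore.center_nontrivial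
  obtain ⟨c, hc⟩ := exists_prime_orderOf_dvd_card' 2
    ((IsPGroup.card_eq_or_dvd (p := 2) ((Thompson.isPGroup_pCore (p := 2) (G := ↥M)).to_subgroup (center ↥O))).resolve_left Finite.one_lt_card.ne')
  set v : G := (((c : ↥O) : ↥M) : G) with hv
  have hvo : orderOf v = 2 := by rw [hv, Subgroup.orderOf_coe, Subgroup.orderOf_coe, Subgroup.orderOf_coe, hc]
  -- the involution of `Z(O)` is central in `M`
  have hMle : M ≤ centralizer ({v} : Set G) := by
    intro m hm
    let mM : ↥M := ⟨m, hm⟩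
    have hcO : mM * ((c : ↥O) : ↥M) * mM⁻¹ ∈ O :=
      Thompson.instPCoreNormal.conj_mem _ (c : ↥O).2 _
    have hcc : (⟨_, hcO⟩ : ↥O) ∈ center ↥O := by
      rw [mem_center_iff]
      intro q
      have hq : mM⁻¹ * (q : ↥M) * mM ∈ O := by
        simpa using Thompson.instPCoreNormal.conj_mem _ q.2 mM⁻¹
      have e : (mM⁻¹ * (q : ↥M) * mM) * ((c : ↥O) : ↥M) = ((c : ↥O) : ↥M) * (mM⁻¹ * (q : ↥M) * mM) :=
        congrArg Subtype.val (mem_center_iff.mp c.2 ⟨_, hq⟩)
      refine Subtype.ext ?_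
      show (q : ↥M) * (mM * ((c : ↥O) : ↥M) * mM⁻¹) = mM * ((c : ↥O) : ↥M) * mM⁻¹ * (q : ↥M)
      calc (q : ↥M) * (mM * ((c : ↥O) : ↥M) * mM⁻¹)
          = mM * ((mM⁻¹ * (q : ↥M) * mM) * ((c : ↥O) : ↥M)) * mM⁻¹ := by group
        _ = _ := by rw [e]; group
    have ho : orderOf (⟨⟨_, hcO⟩, hcc⟩ : center ↥O) = 2 := by
      rw [← Subgroup.orderOf_coe, ← Subgroup.orderOf_coe]
      exact (MulEquiv.orderOf_eq (MulAut.conj mM) _).trans
        (by rw [Subgroup.orderOf_coe, Subgroup.orderOf_coe, hc])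
    have heq := congrArg (fun t : center ↥O => (((t : ↥O) : ↥M) : G))
      (involution_unique hcyc ho hc)
    rw [mem_centralizer_singleton_iff]
    exact mul_inv_eq_iff_eq_mul.mp heq
  have hMv : M = centralizer ({v} : Set G) := (hmax _ (isTwoLocal_centralizer hvo) hMle).symm
  -- `M` has characteristic 2
  have hbot : Cfsg.pPrimeCore 2 ↥M = ⊥ := by
    have h := hcore v hvo
    rw [Cfsg.centralizerPPrimeCore, map_eq_bot_iff_of_injective _ (subtype_injective _)] at h
    rw [hMv]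
    exact h
  have hMc : Cfsg.IsPConstrained 2 ↥M := by rw [hTeq]; exact hcon T hT2 hT1
  have hCO : centralizer (O : Set ↥M) ≤ O :=
    (PLocalB.isPConstrained_iff_of_pPrimeCore_eq_bot hbot).mp hMc
  have huO : (⟨u, huM⟩ : ↥M) ∈ O := hCO (mem_centralizer_iff.mpr fun q hq =>
    Subtype.ext (huQ _ ⟨q, hq, rfl⟩).eq.symm)
  have huc : (⟨⟨u, huM⟩, huO⟩ : ↥O) ∈ center ↥O := mem_center_iff.mpr fun q =>
    Subtype.ext (Subtype.ext (huQ _ ⟨q, q.2, rfl⟩).eq.symm)
  have huo : orderOf (⟨⟨⟨u, huM⟩, huO⟩, huc⟩ : center ↥O) = 2 := by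
    rw [← Subgroup.orderOf_coe, ← Subgroup.orderOf_coe, ← Subgroup.orderOf_coe]
    exact hu
  have heq := congrArg (fun t : center ↥O => (((t : ↥O) : ↥M) : G))
    (involution_unique hcyc huo hc)
  rw [hMv]
  exact congrArg (fun t => centralizer ({t} : Set G)) heq.symm

/-- A fusion-controlling local subgroup fixes `z`. -/
theorem normalizer_le
    (hcon : ∀ T : Subgroup G, IsPGroup 2 ↥T → T ≠ ⊥ →
      Cfsg.IsPConstrained 2 ↥(normalizer (T : Set G)))
    (hcore : ∀ i : G, orderOf i = 2 → Cfsg.centralizerPPrimeCore 2 i = ⊥)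
    (hcyc : ∀ M : Subgroup G, Cfsg.IsMaximalTwoLocal M → IsCyclic ↥(center ↥(Cfsg.pCore 2 ↥M)))
    {U : Subgroup G} (hU2 : IsPGroup 2 U) (hU1 : U ≠ ⊥)
    (hrad : ∀ R : Subgroup G, IsPGroup 2 R → R ≤ normalizer (U : Set G) →
      normalizer (U : Set G) ≤ normalizer (R : Set G) → R ≤ U)
    {z : G} (hz : orderOf z = 2) (hzU : ∀ u ∈ U, Commute z u) :
    normalizer (U : Set G) ≤ centralizer ({z} : Set G) := by
  obtain ⟨M, hNM, hM⟩ := Finite.exists_le_maximal (p := fun N : Subgroup G => Cfsg.IsTwoLocal N)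
    ⟨U, hU2, hU1, rfl⟩
  have hM' : Cfsg.IsMaximalTwoLocal M := ⟨hM.1, fun N hN hMN => le_antisymm (hM.2 hN hMN) hMN⟩
  set Q := (Cfsg.pCore 2 ↥M).map M.subtype with hQ
  have hQ2 : IsPGroup 2 Q := Thompson.isPGroup_pCore.map _
  have hMQ : M ≤ normalizer (Q : Set G) := by
    rw [Subgroup.le_normalizer_iff]
    rintro m hm _ ⟨x, hx, rfl⟩
    exact ⟨⟨m, hm⟩ * x * (⟨m, hm⟩)⁻¹, Thompson.instPCoreNormal.conj_mem x hx _, rfl⟩
  have hNU : normalizer (U : Set G) ≤ M := hNM
  have hQU : Q ≤ U := by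
    by_contra hne
    have hUQ2 : IsPGroup 2 ↥(U ⊔ Q) :=
      IsPGroup.to_sup_of_normal_right' hU2 hQ2 ((le_normalizer.trans hNU).trans hMQ)
    have hlt : U < U ⊔ Q := lt_of_le_of_ne le_sup_left fun h => hne (h ▸ le_sup_right)
    have h2 := Thompson.Alperin.sup_lt_normalizer hUQ2 hlt
    refine h2.not_ge (hrad _ (hUQ2.to_le inf_le_left) inf_le_right ?_)
    rw [Subgroup.le_normalizer_iff]
    intro n hn x hx
    rw [Subgroup.mem_inf] at hx ⊢
    refine ⟨?_, mul_mem (mul_mem hn hx.2) (inv_mem hn)⟩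
    suffices h : (U ⊔ Q).map (MulAut.conj n).toMonoidHom ≤ U ⊔ Q from h ⟨x, hx.1, by simp⟩
    rw [Subgroup.map_sup]
    refine sup_le_sup ?_ ?_
    · rintro _ ⟨y, hy, rfl⟩
      simpa using (mem_normalizer_iff.mp hn y).mp hy
    · rintro _ ⟨y, hy, rfl⟩
      simpa using (mem_normalizer_iff.mp (hMQ (hNU hn)) y).mp hy
  have hzN : z ∈ normalizer (U : Set G) := centralizer_le_normalizer _
    (mem_centralizer_iff.mpr fun u hu => (hzU u hu).eq.symm)
  rw [← maximal_facts hcon hcore hM' (hcyc M hM') hz (hNU hzN) fun q hq => hzU q (hQU hq)]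
  exact hNU

/-- **Some maximal 2-local has non-cyclic `Z(O₂)`.** -/
theorem exists_noncyclic [IsSimpleGroup G] (hG : ¬ IsMulCommutative G) (S : Sylow 2 G)
    (A : Subgroup G) (hA : Cfsg.IsSCN (S : Subgroup G) A) (hA3 : ¬ Cfsg.PRankLE 2 2 ↥A)
    (hinv : ∀ X : Subgroup G, Odd (Nat.card ↥X) → (S : Subgroup G) ≤ normalizer (X : Set G) → X = ⊥)
    (hcon : ∀ T : Subgroup G, IsPGroup 2 ↥T → T ≠ ⊥ →
      Cfsg.IsPConstrained 2 ↥(normalizer (T : Set G))) :
    ∃ M : Subgroup G, Cfsg.IsMaximalTwoLocal M ∧ ¬ IsCyclic ↥(center ↥(Cfsg.pCore 2 ↥M)) := by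
  by_contra hne
  push Not at hne
  obtain ⟨hAS, hSA, hAC⟩ := hA
  have hAcomm : ∀ a ∈ A, ∀ b ∈ A, Commute a b := fun a ha b hb =>
    ((mem_centralizer_iff.mp ((hAC.ge.trans inf_le_right) hb)) a ha : a * b = b * a)
  -- `E = Ω₁(A)`
  let E : Subgroup G :=
    { carrier := {a | a ∈ A ∧ a * a = 1}
      one_mem' := ⟨one_mem _, one_mul 1⟩
      mul_mem' := fun {a b} ha hb => ⟨mul_mem ha.1 hb.1, by
        rw [mul_assoc, ← mul_assoc b a b, (hAcomm b hb.1 a ha.1).eq, mul_assoc a b b, hb.2,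
          mul_one, ha.2]⟩
      inv_mem' := fun {a} ha => ⟨inv_mem ha.1, by rw [← mul_inv_rev, ha.2, inv_one]⟩ }
  have hSE : (S : Subgroup G) ≤ normalizer (E : Set G) := by
    rw [Subgroup.le_normalizer_iff]
    intro s hs a ha
    refine ⟨(mem_normalizer_iff.mp (hSA hs) a).mp ha.1, ?_⟩
    rw [show s * a * s⁻¹ * (s * a * s⁻¹) = s * (a * a) * s⁻¹ by group, ha.2]
    group
  have hE8 : 8 ≤ Nat.card E := by
    rw [Cfsg.PRankLE] at hA3
    push Not at hA3
    obtain ⟨B, hBc, hB2, hB4⟩ := hA3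
    have hle : B.map A.subtype ≤ E := by
      rintro _ ⟨b, hb, rfl⟩
      have h := hB2 b hb
      rw [pow_two] at h
      exact ⟨b.2, congrArg Subtype.val h⟩
    have h1 := Subgroup.card_le_of_le hle
    rw [card_map_of_injective (subtype_injective _)] at h1
    have hEp : IsPGroup 2 E := fun e => ⟨1, Subtype.ext (by
      show ((e : G)) ^ 2 ^ 1 = 1
      rw [pow_one, pow_two]; exact e.2.2)⟩
    obtain ⟨n, hn⟩ := IsPGroup.iff_card.mp hEp
    have hn3 : 3 ≤ n := by
      by_contra h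
      have hp := Nat.pow_le_pow_right two_pos (show n ≤ 2 by omega)
      omega
    have hp := Nat.pow_le_pow_right two_pos hn3
    omega
  haveI : Nontrivial ↥(S : Subgroup G) := by
    rw [nontrivial_iff_ne_bot]
    intro h
    have := Subgroup.card_le_of_le (show E ≤ (S : Subgroup G) from fun e he => hAS he.1)
    rw [h, Subgroup.card_bot] at this
    omega
  haveI : Nontrivial ↥(center ↥(S : Subgroup G)) := S.isPGroup'.center_nontrivial
  obtain ⟨c, hc⟩ := exists_prime_orderOf_dvd_card' 2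
    ((IsPGroup.card_eq_or_dvd (p := 2) (S.isPGroup'.to_subgroup (center ↥(S : Subgroup G)))).resolve_left Finite.one_lt_card.ne')
  set z : G := ((c : ↥(S : Subgroup G)) : G) with hzdef
  have hzS : z ∈ (S : Subgroup G) := (c : ↥(S : Subgroup G)).2
  have hz : orderOf z = 2 := by rw [hzdef, Subgroup.orderOf_coe, Subgroup.orderOf_coe, hc]
  have hSz : ∀ s ∈ (S : Subgroup G), Commute s z := fun s hs =>
    congrArg Subtype.val (mem_center_iff.mp c.2 ⟨s, hs⟩)
  have hzA : z ∈ A := hAC.le ⟨hzS, mem_centralizer_iff.mpr fun a ha => hSz a (hAS ha)⟩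
  have hzE : z ∈ E := ⟨hzA, by rw [← pow_two, ← hz, pow_orderOf_eq_one]⟩
  have hconj := fun j hj => con_centralizer hcon (u := j) hj
  have hzcore : Cfsg.centralizerPPrimeCore 2 z = ⊥ := hinv _ (cpc_odd z)
    (fun s hs => le_normalizer_cpc z (mem_centralizer_singleton_iff.mpr (hSz s hs).eq))
  have D : Data E z :=
    ⟨fun a ha => ha.2, fun a ha b hb => hAcomm a ha.1 b hb.1, hE8, hzE,
      fun h => by simp [h] at hz, hzcore, hconj⟩
  have hcore : ∀ i : G, orderOf i = 2 → Cfsg.centralizerPPrimeCore 2 i = ⊥ := by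
    intro i hi
    obtain ⟨T, hT⟩ := (IsPGroup.of_card (n := 1)
      (by rw [Nat.card_zpowers, hi, pow_one]) : IsPGroup 2 (zpowers i)).exists_le_sylow
    obtain ⟨g, hg⟩ := MulAction.exists_smul_eq G T S
    have hmem : g * i * g⁻¹ ∈ (S : Subgroup G) := by
      rw [← hg, Sylow.coe_subgroup_smul]
      exact ⟨i, hT (mem_zpowers i), rfl⟩
    exact cpc_eq_bot_of_conj g (D.cpc_eq_bot_of_mem _ hSE hSz hinv hmem
      (by rw [← hi]; exact MulEquiv.orderOf_eq (MulAut.conj g) i))
  -- `z` is fixed by fusion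
  have hz1 : z ≠ 1 := fun h => by simp [h] at hz
  have hfix : ∀ g : G, g * z * g⁻¹ ∈ S → g * z * g⁻¹ = z := by
    intro g hg
    have hrad : ∀ (Q : Sylow 2 G) (U : Subgroup G), (S : Subgroup G) ⊓ Q = U →
        Thompson.Alperin.FullyIn 2 (S : Subgroup G) U → Thompson.Alperin.FullyIn 2 (Q : Subgroup G) U →
        ∀ R : Subgroup G, IsPGroup 2 R → R ≤ normalizer (U : Set G) →
          normalizer (U : Set G) ≤ normalizer (R : Set G) → R ≤ U := by
      intro Q U hU hPf hQf R hR2 hRN hNR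
      have hRn : (R.subgroupOf (normalizer (U : Set G))).Normal :=
        normal_subgroupOf_of_le_normalizer hNR
      have hle : ∀ P : Sylow 2 G, Thompson.Alperin.FullyIn 2 (P : Subgroup G) U →
          R ≤ (P : Subgroup G) := by
        intro P hP r hr
        obtain ⟨S₀, hS₀⟩ := Thompson.Alperin.exists_sylow_of_fully hP
        exact (hS₀.le ⟨⟨r, hRN hr⟩, Thompson.pCore_le_sylow S₀
          (Thompson.le_pCore hRn hR2.comap_subtype hr), rfl⟩).1
      rw [← hU]
      exact le_inf (hle S hPf) (hle Q hQf)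
    have key := Thompson.Alperin.chain_of_fusion S (free := False)
      (step := fun D x => x ∈ normalizer (D : Set G) ∧ (z ∈ D → x ∈ centralizer ({z} : Set G)))
      (fun D x h => ⟨inv_mem h.1, fun hzD => inv_mem (h.2 hzD)⟩) (fun D x h => h.1)
      (fun x hx => ⟨hx, fun _ => normalizer_le hcon hcore hne S.isPGroup'
        (fun h => hz1 (by have := h ▸ hzS; simpa using this))
        (fun R hR hRN hNR => hrad S _ (inf_idem _) (Thompson.Alperin.fullyIn_self S)
          (Thompson.Alperin.fullyIn_self S) R hR hRN hNR)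
        hz (fun u hu => (hSz u hu).symm) hx⟩)
      (fun Q U x hU hPf hQf hx _ _ => ⟨hx, fun hzU => normalizer_le hcon hcore hne
        (S.isPGroup'.to_le (hU ▸ inf_le_left)) (fun h => hz1 (by rw [h] at hzU; simpa using hzU))
        (hrad Q U hU hPf hQf) hz (fun u hu => (hSz u ((hU.symm.le.trans inf_le_left) hu)).symm) hx⟩)
      {z} g⁻¹ (Set.singleton_subset_iff.mpr hzS) (by
        rintro _ ⟨a, ha, rfl⟩
        rw [Set.mem_singleton_iff] at ha
        subst ha
        simpa using hg)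
    have hmem : ∀ (A : Set G) (x : G),
        Thompson.Alperin.Chain (fun D x => x ∈ normalizer (D : Set G) ∧
          (z ∈ D → x ∈ centralizer ({z} : Set G))) False A x → A = {z} →
          x ∈ centralizer ({z} : Set G) := by
      intro A x h
      induction h with
      | one A => exact fun _ => one_mem _
      | @cons A D x y hs hA _ ih =>
        intro hAz
        have hx : x ∈ centralizer ({z} : Set G) := hs.2 (hA (hAz.symm ▸ rfl))
        exact mul_mem hx (ih (by rw [hAz, Thompson.Alperin.rimg_of_mem_centralizer hx]))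
      | move hf => exact hf.elim
    have hgc := inv_mem (hmem _ _ key rfl)
    rw [inv_inv, mem_centralizer_singleton_iff] at hgc
    rw [hgc, mul_inv_cancel_right]
  have htop := sup_oddCore_eq_top S z hz hzS hfix
  rcases (Thompson.instPPrimeCoreNormal (p := 2) (G := G)).eq_bot_or_eq_top with h | h
  · rw [Cfsg.oddCore, h, sup_bot_eq] at htop
    have hzc : z ∈ center G := mem_center_iff.mpr fun g =>
      mem_centralizer_singleton_iff.mp (htop ▸ mem_top g)
    rcases (inferInstance : (center G).Normal).eq_bot_or_eq_top with hZ | hZ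
    · rw [hZ, mem_bot] at hzc
      exact hz1 hzc
    · exact hG ⟨⟨fun a b => mem_center_iff.mp (hZ ▸ mem_top b) a⟩⟩
  · have hco := Thompson.pPrimeCore_eq_top_iff.mp h
    have h2 : 2 ∣ Nat.card G := hz ▸ orderOf_dvd_natCard z
    exact absurd (Nat.Coprime.eq_one_of_dvd hco.symm h2) (by norm_num)

end Cfsg.Agent.InvChar68.CyclicCenter
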