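import Cfsg.Agent.InvChar68.IndexTwoTransfer
import Cfsg.Agent.CharDeep.Expand
import Mathlib.GroupTheory.SpecificGroups.Dihedral
import Mathlib.GroupTheory.IndexNormal
import Mathlib.GroupTheory.Nilpotent

/-!
# Groups with an involution whose centralizer is dihedral of order 8

If `G` has no normal subgroup of index 2 and `C(t) ≅ D₈`, then `G` is simple of order 168 or 360.
The order follows from column orthogonality at `t` and at an element `c` of order 4, and from two
class multiplication coefficients.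
-/

set_option autoImplicit false

namespace Cfsg.Agent.InvChar68.D8

open Subgroup
open scoped ComplexConjugate

variable {G : Type*} [Group G] [Finite G] {t : G}

theorem dihedral_facts :
    (∀ d : DihedralGroup 4, d * d = 1 → d ≠ 1 → (∀ x, d * x = x * d) → d = DihedralGroup.r 2) ∧
    (∀ d : DihedralGroup 4, d * DihedralGroup.r 1 = DihedralGroup.r 1 * d →
      d = 1 ∨ d = DihedralGroup.r 1 ∨ d = DihedralGroup.r 2 ∨ d = DihedralGroup.r 3) ∧
    (∃ s : DihedralGroup 4, s * DihedralGroup.r 1 * s⁻¹ = DihedralGroup.r 3) := by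
  refine ⟨?_, ?_, DihedralGroup.sr 0, ?_⟩ <;> decide

theorem dihedral_count :
    (Finset.univ.filter fun d : DihedralGroup 4 => d * d = 1 ∧ d ≠ 1 ∧
      (d * DihedralGroup.r 1) * (d * DihedralGroup.r 1) = 1 ∧
        d * DihedralGroup.r 1 ≠ 1).card = 4 ∧
    (Finset.univ.filter fun d : DihedralGroup 4 => d * d = 1 ∧ d ≠ 1 ∧
      (d * DihedralGroup.r 2) * (d * DihedralGroup.r 2) = 1 ∧
        d * DihedralGroup.r 2 ≠ 1).card = 4 := by
  constructor <;> decide

variable (ht : orderOf t = 2) (e : centralizer ({t} : Set G) ≃* DihedralGroup 4)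

include e in
theorem card_centralizer : Nat.card (centralizer ({t} : Set G)) = 8 := by
  rw [Nat.card_congr e.toEquiv, DihedralGroup.nat_card]

include ht in
theorem tt : t * t = 1 := by
  rw [← pow_two, ← ht]; exact pow_orderOf_eq_one t

include ht in
theorem map_self : e ⟨t, mem_centralizer_singleton_iff.mpr rfl⟩ = DihedralGroup.r 2 := by
  set a : centralizer ({t} : Set G) := ⟨t, mem_centralizer_singleton_iff.mpr rfl⟩
  have h1 : a * a = 1 := Subtype.ext (tt ht)
  have h2 : a ≠ 1 := by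
    intro h
    have : t = 1 := congrArg Subtype.val h
    rw [this, orderOf_one] at ht
    omega
  refine dihedral_facts.1 _ (by rw [← map_mul, h1, map_one]) (fun h => h2 ?_) fun x => ?_
  · exact e.map_eq_one_iff.mp h
  · obtain ⟨b, rfl⟩ := e.surjective x
    rw [← map_mul, ← map_mul]
    exact congrArg e (Subtype.ext (mem_centralizer_singleton_iff.mp b.2).symm)

/-- A chosen element of order four of the centralizer. -/
noncomputable def cyc : G := (e.symm (DihedralGroup.r 1) : centralizer ({t} : Set G))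

theorem cyc_mem : cyc e ∈ centralizer ({t} : Set G) := (e.symm (DihedralGroup.r 1)).2

include ht in
theorem cyc_sq : cyc e * cyc e = t := by
  have h : e.symm (DihedralGroup.r 1 * DihedralGroup.r 1) =
      ⟨t, mem_centralizer_singleton_iff.mpr rfl⟩ := by
    rw [MulEquiv.symm_apply_eq, map_self ht e]; rfl
  have h' := congrArg Subtype.val h
  rw [map_mul] at h'
  exact h'

include ht in
theorem orderOf_cyc : orderOf (cyc e) = 4 := by
  have h2 : cyc e ^ 2 = t := by rw [pow_two, cyc_sq ht e]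
  have := orderOf_eq_prime_pow (x := cyc e) (p := 2) (n := 1)
    (by rw [pow_one, h2]; exact fun h => by rw [h, orderOf_one] at ht; omega)
    (by rw [show (2 : ℕ) ^ (1 + 1) = 2 * 2 by norm_num, pow_mul, h2, pow_two, tt ht])
  simpa using this

include ht in
theorem centralizer_cyc : centralizer ({cyc e} : Set G) = zpowers (cyc e) := by
  refine le_antisymm (fun x hx => ?_) (zpowers_le.mpr (mem_centralizer_singleton_iff.mpr rfl))
  rw [mem_centralizer_singleton_iff] at hx
  have hxc : Commute x (cyc e) := hx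
  have hxt : x ∈ centralizer ({t} : Set G) := mem_centralizer_singleton_iff.mpr
    (cyc_sq ht e ▸ (hxc.mul_right hxc).eq)
  obtain ⟨-, hf, -⟩ := dihedral_facts
  have hd : e ⟨x, hxt⟩ * DihedralGroup.r 1 = DihedralGroup.r 1 * e ⟨x, hxt⟩ := by
    rw [← e.apply_symm_apply (DihedralGroup.r 1), ← map_mul, ← map_mul]
    exact congrArg e (Subtype.ext hx)
  have hx' : x = ((e.symm (e ⟨x, hxt⟩) : centralizer ({t} : Set G)) : G) := by simp
  rw [hx']
  rcases hf _ hd with h | h | h | h <;> rw [h]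
  · simp
  · exact mem_zpowers _
  · rw [show (DihedralGroup.r 2 : DihedralGroup 4) = DihedralGroup.r 1 * DihedralGroup.r 1 from rfl,
      map_mul]
    exact mul_mem (mem_zpowers (cyc e)) (mem_zpowers (cyc e))
  · rw [show (DihedralGroup.r 3 : DihedralGroup 4) =
      DihedralGroup.r 1 * DihedralGroup.r 1 * DihedralGroup.r 1 from rfl, map_mul, map_mul]
    exact mul_mem (mul_mem (mem_zpowers (cyc e)) (mem_zpowers (cyc e))) (mem_zpowers (cyc e))

include ht in
theorem card_centralizer_cyc : Nat.card (centralizer ({cyc e} : Set G)) = 4 := by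
  rw [centralizer_cyc ht e, Nat.card_zpowers, orderOf_cyc ht e]

include ht in
theorem isConj_cyc_inv : IsConj (cyc e) (cyc e)⁻¹ := by
  obtain ⟨s, hs⟩ := dihedral_facts.2.2
  refine isConj_iff.mpr ⟨((e.symm s : centralizer ({t} : Set G)) : G), ?_⟩
  have h3 : (DihedralGroup.r 3 : DihedralGroup 4) = (DihedralGroup.r 1)⁻¹ := rfl
  have h := congrArg e.symm hs
  rw [h3, map_mul, map_mul, map_inv, map_inv] at h
  exact congrArg Subtype.val h

include ht e in
theorem exists_sylow : ∃ S : Sylow 2 G, (S : Subgroup G) = centralizer ({t} : Set G) := by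
  have : Fact (Nat.Prime 2) := ⟨Nat.prime_two⟩
  set D := centralizer ({t} : Set G) with hD
  have hD2 : IsPGroup 2 D := IsPGroup.of_card (n := 3) (by rw [hD, card_centralizer e]; norm_num)
  obtain ⟨S, hS⟩ := hD2.exists_le_sylow
  refine ⟨S, le_antisymm ?_ hS⟩
  by_contra hne
  have hlt : D.subgroupOf S < ⊤ := by
    rw [lt_top_iff_ne_top, Ne, subgroupOf_eq_top]; exact hne
  have := S.2.isNilpotent
  obtain ⟨g, hg, hgD⟩ := SetLike.exists_of_lt
    ((Group.normalizerCondition_of_isNilpotent (G := S)) _ hlt)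
  have hgN : (g : G) ∈ normalizer (D : Set G) := (subgroupOf_normalizer_eq hS).ge hg
  apply hgD
  rw [mem_subgroupOf, hD, mem_centralizer_singleton_iff]
  have htD : t ∈ D := mem_centralizer_singleton_iff.mpr rfl
  set u : G := (g : G) * t * (g : G)⁻¹
  have hu : u ∈ D := (mem_normalizer_iff.mp hgN t).mp htD
  have h1 : e ⟨u, hu⟩ = DihedralGroup.r 2 := by
    refine dihedral_facts.1 _ ?_ ?_ fun x => ?_
    · rw [← map_mul, ← map_one e]
      congr 1
      apply Subtype.ext
      show (g : G) * t * (g : G)⁻¹ * ((g : G) * t * (g : G)⁻¹) = 1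
      rw [show (g : G) * t * (g : G)⁻¹ * ((g : G) * t * (g : G)⁻¹) = g * (t * t) * (g : G)⁻¹ by
        group, tt ht]
      simp
    · intro h
      have h0 : u = 1 := congrArg Subtype.val (e.map_eq_one_iff.mp h)
      have : t = 1 := conj_eq_one_iff.mp h0
      rw [this, orderOf_one] at ht
      omega
    · obtain ⟨b, rfl⟩ := e.surjective x
      rw [← map_mul, ← map_mul]
      refine congrArg e (Subtype.ext ?_)
      show u * (b : G) = b * u
      have hb : (g : G)⁻¹ * b * g ∈ D :=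
        (mem_normalizer_iff.mp hgN _).mpr (by simp [mul_assoc])
      have hc := mem_centralizer_singleton_iff.mp hb
      calc u * (b : G) = g * (t * ((g : G)⁻¹ * b * g)) * (g : G)⁻¹ := by simp [u, mul_assoc]
        _ = g * ((g : G)⁻¹ * b * g * t) * (g : G)⁻¹ := by rw [hc]
        _ = b * u := by simp [u, mul_assoc]
  rw [← map_self ht e] at h1
  have h3 : u = t := congrArg Subtype.val (e.injective h1)
  exact mul_inv_eq_iff_eq_mul.mp h3

variable (hidx : ∀ N : Subgroup G, N.Normal → N.index ≠ 2)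

include ht e hidx in
/-- All involutions are conjugate to `t`. -/
theorem isConj_involution {u : G} (hu : orderOf u = 2) : IsConj t u := by
  have : Fact (Nat.Prime 2) := ⟨Nat.prime_two⟩
  obtain ⟨S, hS⟩ := exists_sylow ht e
  have hu2 : IsPGroup 2 (zpowers u) := IsPGroup.of_card (n := 1) (by rw [Nat.card_zpowers, hu, pow_one])
  obtain ⟨R, hR⟩ := hu2.exists_le_sylow
  obtain ⟨g, hg⟩ := MulAction.exists_smul_eq G R S
  have hv : g * u * g⁻¹ ∈ (S : Subgroup G) := by
    rw [← hg, Sylow.coe_subgroup_smul]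
    exact Subgroup.smul_mem_pointwise_smul u (MulAut.conj g) _ (hR (mem_zpowers u))
  have hvo : orderOf (g * u * g⁻¹) = 2 := by
    rw [← MulAut.conj_apply, MulEquiv.orderOf_eq, hu]
  set M := zpowers (cyc e)
  have hMS : M ≤ (S : Subgroup G) := hS ▸ zpowers_le.mpr (cyc_mem e)
  have hM : M.relIndex (S : Subgroup G) = 2 := by
    have h := (M.subgroupOf (S : Subgroup G)).index_mul_card
    rw [Nat.card_congr (subgroupOfEquivOfLe hMS).toEquiv, Nat.card_zpowers, orderOf_cyc ht e,
      hS, card_centralizer e] at h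
    rw [relIndex, hS]
    omega
  by_contra hnot
  suffices hno : ∀ k : G, k * (g * u * g⁻¹) * k⁻¹ ∈ (S : Subgroup G) →
      k * (g * u * g⁻¹) * k⁻¹ ∉ M by
    obtain ⟨N, hN, hN2, -⟩ := thompson_transfer S M hM hvo hv hno
    exact hidx N hN hN2
  intro k _ hkM
  apply hnot
  obtain ⟨i, hi⟩ := mem_zpowers_iff.mp hkM
  have hw : orderOf (k * (g * u * g⁻¹) * k⁻¹) = 2 := by
    rw [← MulAut.conj_apply, MulEquiv.orderOf_eq, hvo]
  rw [← zpow_mod_orderOf, orderOf_cyc ht e] at hi
  have h4 : i % 4 = 0 ∨ i % 4 = 1 ∨ i % 4 = 2 ∨ i % 4 = 3 := by omega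
  have hit : cyc e ^ (2 : ℤ) = t := by rw [zpow_two, cyc_sq ht e]
  have hk : k * (g * u * g⁻¹) * k⁻¹ = t := by
    rcases h4 with h | h | h | h <;> simp only [Nat.cast_ofNat, h] at hi <;> rw [← hi] at hw
    · simp at hw
    · rw [zpow_one, orderOf_cyc ht e] at hw; omega
    · rw [← hi, hit]
    · rw [show cyc e ^ (3 : ℤ) = (cyc e)⁻¹ by
        rw [show (3 : ℤ) = -1 + (4 : ℕ) by norm_num, zpow_add, zpow_neg_one, zpow_natCast,
          ← orderOf_cyc ht e, pow_orderOf_eq_one, mul_one], orderOf_inv, orderOf_cyc ht e] at hw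
      omega
  exact (isConj_iff.mpr ⟨k * g, by rw [← hk]; group⟩ : IsConj u t).symm

section Count

open CharDeep BlocksCore

variable [Fintype G]

include ht e hidx in
/-- Number of factorisations of `h ∈ C(t)` as a product of two involutions, when every such pair
lies in `C(t)`. -/
theorem card_pairs (h : centralizer ({t} : Set G))
    (hin : ∀ x y : G, x * x = 1 → y * y = 1 → x * y = (h : G) → x ∈ centralizer ({t} : Set G)) :
    Nat.card {p : G × G // IsConj t p.1 ∧ IsConj t p.2 ∧ p.1 * p.2 = (h : G)} =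
      (Finset.univ.filter fun d : DihedralGroup 4 => d * d = 1 ∧ d ≠ 1 ∧
        (d * e h) * (d * e h) = 1 ∧ d * e h ≠ 1).card := by
  have hconj : ∀ x : G, IsConj t x ↔ x * x = 1 ∧ x ≠ 1 := by
    intro x
    constructor
    · intro hx
      obtain ⟨k, rfl⟩ := isConj_iff.mp hx
      refine ⟨?_, fun h1 => ?_⟩
      · rw [show k * t * k⁻¹ * (k * t * k⁻¹) = k * (t * t) * k⁻¹ by group, tt ht]; simp
      · rw [conj_eq_one_iff.mp h1, orderOf_one] at ht; omega
    · rintro ⟨h1, h2⟩
      exact isConj_involution ht e hidx (orderOf_eq_prime (by rw [pow_two, h1]) h2)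
  rw [← Nat.card_eq_finsetCard]
  refine Nat.card_congr
    { toFun := fun p => ⟨e ⟨p.1.1, hin _ _ ((hconj _).mp p.2.1).1 ((hconj _).mp p.2.2.1).1 p.2.2.2⟩,
        ?_⟩
      invFun := fun d => ⟨((e.symm d.1 : G), ((e.symm d.1 : centralizer ({t} : Set G)) : G) * h),
        ?_⟩
      left_inv := ?_
      right_inv := ?_ }
  · obtain ⟨⟨x, y⟩, hx, hy, hxy⟩ := p
    simp only [Finset.mem_filter, Finset.mem_univ, true_and]
    obtain ⟨hx1, hx2⟩ := (hconj x).mp hx
    obtain ⟨hy1, hy2⟩ := (hconj y).mp hy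
    have hxy' : x * (h : G) = y := by rw [← hxy, ← mul_assoc, hx1, one_mul]
    simp only [← map_mul, ne_eq, MulEquiv.map_eq_one_iff]
    exact ⟨Subtype.ext hx1, fun h0 => hx2 (congrArg Subtype.val h0),
      Subtype.ext (show x * (h : G) * (x * h) = 1 by rw [hxy', hy1]),
      fun h0 => hy2 (hxy' ▸ congrArg Subtype.val h0)⟩
  · obtain ⟨d, hd⟩ := d
    simp only [Finset.mem_filter, Finset.mem_univ, true_and] at hd
    obtain ⟨h1, h2, h3, h4⟩ := hd
    obtain ⟨a, rfl⟩ := e.surjective d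
    rw [← map_mul, e.map_eq_one_iff] at h1
    rw [Ne, e.map_eq_one_iff] at h2
    rw [← map_mul, ← map_mul, e.map_eq_one_iff] at h3
    rw [← map_mul, Ne, e.map_eq_one_iff] at h4
    simp only [e.symm_apply_apply]
    refine ⟨(hconj _).mpr ⟨congrArg Subtype.val h1, fun h0 => h2 (Subtype.ext h0)⟩,
      (hconj _).mpr ⟨congrArg Subtype.val h3, fun h0 => h4 (Subtype.ext h0)⟩, ?_⟩
    have : (a : G) * a = 1 := congrArg Subtype.val h1
    rw [← mul_assoc, this, one_mul]
  · rintro ⟨⟨x, y⟩, hx, hy, hxy⟩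
    apply Subtype.ext
    simp only [e.symm_apply_apply]
    refine Prod.ext rfl ?_
    show x * (h : G) = y
    rw [← hxy, ← mul_assoc, ((hconj x).mp hx).1, one_mul]
  · intro d
    exact Subtype.ext (e.apply_symm_apply d.1)

include ht e hidx in
theorem card_pairs_cyc :
    Nat.card {p : G × G // IsConj t p.1 ∧ IsConj t p.2 ∧ p.1 * p.2 = cyc e} = 4 := by
  have h := card_pairs ht e hidx (e.symm (DihedralGroup.r 1)) ?_
  · rw [e.apply_symm_apply] at h
    exact h.trans dihedral_count.1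
  intro x y hx hy hxy
  change x * y = cyc e at hxy
  have hxi : x⁻¹ = x := inv_eq_of_mul_eq_one_right hx
  have hyi : y⁻¹ = y := inv_eq_of_mul_eq_one_right hy
  have h1 : x * cyc e * x⁻¹ = (cyc e)⁻¹ := by
    rw [← hxy, mul_inv_rev, hxi, hyi, ← mul_assoc, hx, one_mul]
  have h2 : x * t * x⁻¹ = t := by
    rw [← cyc_sq ht e,
      show x * (cyc e * cyc e) * x⁻¹ = (x * cyc e * x⁻¹) * (x * cyc e * x⁻¹) by group, h1,
      ← mul_inv_rev, cyc_sq ht e, inv_eq_of_mul_eq_one_right (tt ht)]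
  exact mem_centralizer_singleton_iff.mpr (mul_inv_eq_iff_eq_mul.mp h2)

include ht e hidx in
theorem card_pairs_self :
    Nat.card {p : G × G // IsConj t p.1 ∧ IsConj t p.2 ∧ p.1 * p.2 = t} = 4 := by
  have h := card_pairs ht e hidx ⟨t, mem_centralizer_singleton_iff.mpr rfl⟩ ?_
  · rw [map_self ht e] at h
    exact h.trans dihedral_count.2
  intro x y hx hy hxy
  change x * y = t at hxy
  have hyx : y * x = t := by
    have h := congrArg Inv.inv hxy
    rwa [mul_inv_rev, inv_eq_of_mul_eq_one_right hx, inv_eq_of_mul_eq_one_right hy,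
      inv_eq_of_mul_eq_one_right (tt ht)] at h
  refine mem_centralizer_singleton_iff.mpr ?_
  calc x * t = y := by rw [← hxy, ← mul_assoc, hx, one_mul]
    _ = t * x := by rw [← hyx, mul_assoc, hx, mul_one]

end Count

/-- Eigenvalue bookkeeping at an element of order four conjugate to its inverse. -/
theorem exists_int_values {c : G} (hc : orderOf c = 4) (hcc : IsConj c c⁻¹)
    (χ : Cfsg.IrrCharacter G) :
    ∃ a b : ℤ, (χ : G → ℂ) c = a ∧ (χ : G → ℂ) (c * c) = b ∧ 2 ∣ a + b := by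
  obtain ⟨n, ρ, -, hρ⟩ := χ.2
  obtain ⟨b, ω, hω, -, -, hk⟩ := CharCore.exists_eigenvalues ρ c
  rw [hc] at hω
  have hcase : ∀ i, ∃ u v w : ℤ, ω i = u + v * Complex.I ∧ ω i ^ 2 = w ∧ 2 ∣ u + v + w := by
    intro i
    have h : (ω i - 1) * (ω i + 1) * ((ω i - Complex.I) * (ω i + Complex.I)) = 0 := by
      have hI : Complex.I ^ 2 = -1 := Complex.I_sq
      linear_combination hω i + (1 - ω i ^ 2) * hI
    rcases mul_eq_zero.mp h with h | h <;> rcases mul_eq_zero.mp h with h | h
    · exact ⟨1, 0, 1, by rw [sub_eq_zero.mp h]; simp, by rw [sub_eq_zero.mp h]; simp, by norm_num⟩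
    · exact ⟨-1, 0, 1, by rw [eq_neg_of_add_eq_zero_left h]; simp,
        by rw [eq_neg_of_add_eq_zero_left h]; simp, by norm_num⟩
    · exact ⟨0, 1, -1, by rw [sub_eq_zero.mp h]; simp,
        by rw [sub_eq_zero.mp h]; simp [Complex.I_sq], by norm_num⟩
    · exact ⟨0, -1, -1, by rw [eq_neg_of_add_eq_zero_left h]; simp,
        by rw [eq_neg_of_add_eq_zero_left h]; simp [Complex.I_sq], by norm_num⟩
  choose u v w hu hw hd using hcase
  have h1 : (χ : G → ℂ) c = ((∑ i, u i : ℤ) : ℂ) + ((∑ i, v i : ℤ) : ℂ) * Complex.I := by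
    rw [← hρ, show c = c ^ 1 from (pow_one c).symm, hk]
    simp only [pow_one, hu, Finset.sum_add_distrib, ← Finset.sum_mul]
    push_cast; ring
  have h2 : (χ : G → ℂ) (c * c) = ((∑ i, w i : ℤ) : ℂ) := by
    rw [← hρ, ← pow_two, hk]
    simp [hw]
  have h3 : (χ : G → ℂ) c⁻¹ = (χ : G → ℂ) c := by
    obtain ⟨g, hg⟩ := isConj_iff.mp hcc
    rw [← hg, CharCore.irr_isClassFunction χ c g]
  rw [CharCore.irr_apply_inv, h1] at h3
  have hv : (∑ i, v i : ℤ) = 0 := by
    have := congrArg Complex.im h3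
    simp at this
    have h4 : ((∑ i, v i : ℤ) : ℝ) = 0 := by push_cast; linarith
    exact_mod_cast h4
  refine ⟨∑ i, u i, ∑ i, w i, by rw [h1, hv]; simp, h2, ?_⟩
  have h5 : (2 : ℤ) ∣ ∑ i, (u i + v i + w i) := Finset.dvd_sum fun i _ => hd i
  rw [Finset.sum_add_distrib, Finset.sum_add_distrib, hv] at h5
  simpa using h5

/-- The combinatorics of the two integral columns. -/
theorem exists_five {ι : Type*} [Fintype ι] [DecidableEq ι] (a b : ι → ℤ) (i0 : ι)
    (ha0 : a i0 = 1) (hb0 : b i0 = 1)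
    (haa : ∑ i, a i ^ 2 = 4) (hbb : ∑ i, b i ^ 2 = 8) (hab : ∑ i, a i * b i = 0)
    (hpar : ∀ i, 2 ∣ a i + b i) :
    ∃ p q q' r : ι, (a p ^ 2 = 1 ∧ b p = a p) ∧ (a q ^ 2 = 1 ∧ b q = -a q) ∧
      (a q' ^ 2 = 1 ∧ b q' = -a q') ∧ (a r = 0 ∧ b r ^ 2 = 4) ∧
      ∀ F : ι → ℂ, (∀ i, a i = 0 → b i = 0 → F i = 0) →
        ∑ i, F i = F i0 + F p + F q + F q' + F r := by
  set U := Finset.univ.erase i0 with hU
  have hsplit : ∀ f : ι → ℤ, ∑ i, f i = f i0 + ∑ i ∈ U, f i := fun f =>
    (Finset.add_sum_erase _ f (Finset.mem_univ i0)).symm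
  rw [hsplit] at haa hbb hab
  rw [ha0] at haa hab
  rw [hb0] at hbb hab
  have ha1 : ∀ i ∈ U, a i ^ 2 = 0 ∨ a i ^ 2 = 1 := by
    intro i hi
    have h := Finset.single_le_sum (f := fun i => a i ^ 2) (fun j _ => sq_nonneg _) hi
    have h3 : a i ^ 2 ≤ 3 := by linarith
    have : -1 ≤ a i ∧ a i ≤ 1 := by constructor <;> nlinarith
    have : a i = -1 ∨ a i = 0 ∨ a i = 1 := by omega
    rcases this with h | h | h <;> simp [h]
  set S := U.filter (fun i => a i ≠ 0) with hS
  have hSa : ∀ i ∈ S, a i ^ 2 = 1 := by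
    intro i hi
    obtain ⟨hiU, hne⟩ := Finset.mem_filter.mp hi
    rcases ha1 i hiU with h | h
    · exact absurd (pow_eq_zero_iff (by norm_num) |>.mp h) hne
    · exact h
  have hS3 : (S.card : ℤ) = 3 := by
    have h1 : ∑ i ∈ U, a i ^ 2 = ∑ i ∈ S, a i ^ 2 := by
      rw [hS, Finset.sum_filter_of_ne]
      intro i _ h h0; exact h (by rw [h0]; ring)
    rw [h1, Finset.sum_congr rfl hSa] at haa
    simp at haa; linarith
  have hodd : ∀ i ∈ S, b i % 2 = 1 := by
    intro i hi
    have h := hSa i hi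
    have h' : a i = 1 ∨ a i = -1 := sq_eq_one_iff.mp h
    have := hpar i
    omega
  have hb1 : ∀ i ∈ S, 1 ≤ b i ^ 2 := by
    intro i hi
    have := hodd i hi
    have : b i ≠ 0 := by omega
    have := sq_pos_of_ne_zero this
    omega
  set T := U.filter (fun i => ¬ a i ≠ 0) with hT
  have hUsplit : ∑ i ∈ U, b i ^ 2 = ∑ i ∈ S, b i ^ 2 + ∑ i ∈ T, b i ^ 2 :=
    (Finset.sum_filter_add_sum_filter_not U (fun i => a i ≠ 0) fun i => b i ^ 2).symm
  have hTnn : 0 ≤ ∑ i ∈ T, b i ^ 2 := Finset.sum_nonneg fun i _ => sq_nonneg _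
  have hbS : ∀ i ∈ S, b i ^ 2 = 1 := by
    intro i hi
    have hle : ∑ j ∈ S, b j ^ 2 ≤ 7 := by linarith
    have h : b i ^ 2 + ∑ j ∈ S.erase i, b j ^ 2 ≤ 7 := by
      rw [Finset.add_sum_erase _ (fun j => b j ^ 2) hi]; exact hle
    have h' : ((S.erase i).card : ℤ) ≤ ∑ j ∈ S.erase i, b j ^ 2 := by
      have := Finset.card_nsmul_le_sum (S.erase i) (fun j => b j ^ 2) 1
        (fun j hj => hb1 j (Finset.mem_of_mem_erase hj))
      simpa using this
    rw [Finset.card_erase_of_mem hi] at h'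
    have h5 : b i ^ 2 ≤ 5 := by omega
    have : -2 ≤ b i ∧ b i ≤ 2 := by constructor <;> nlinarith
    have := hodd i hi
    have : b i = 1 ∨ b i = -1 := by omega
    rcases this with h | h <;> simp [h]
  have hbT : ∑ i ∈ T, b i ^ 2 = 4 := by
    rw [hUsplit, Finset.sum_congr rfl hbS] at hbb
    simp at hbb; linarith
  have hTeven : ∀ i ∈ T, a i = 0 ∧ 2 ∣ b i := by
    intro i hi
    have h : a i = 0 := not_not.mp (Finset.mem_filter.mp hi).2
    have := hpar i
    rw [h, zero_add] at this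
    exact ⟨h, this⟩
  set T' := T.filter (fun i => b i ≠ 0) with hT'
  have hbT' : ∑ i ∈ T', b i ^ 2 = 4 := by
    rw [hT', Finset.sum_filter_of_ne, hbT]
    intro i _ h h0; exact h (by rw [h0]; ring)
  have hT4 : ∀ i ∈ T', 4 ≤ b i ^ 2 := by
    intro i hi
    obtain ⟨hiT, hne⟩ := Finset.mem_filter.mp hi
    obtain ⟨k, hk⟩ := (hTeven i hiT).2
    have hk0 : k ≠ 0 := by rintro rfl; simp at hk; exact hne hk
    have := sq_pos_of_ne_zero hk0
    rw [hk]; nlinarith
  have hT'1 : T'.card = 1 := by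
    have := Finset.card_nsmul_le_sum T' (fun j => b j ^ 2) 4 hT4
    rw [hbT', nsmul_eq_mul] at this
    have hne : T'.card ≠ 0 := by
      intro h
      rw [Finset.card_eq_zero.mp h] at hbT'
      simp at hbT'
    omega
  obtain ⟨r, hr⟩ := Finset.card_eq_one.mp hT'1
  have hrmem : r ∈ T' := hr ▸ Finset.mem_singleton_self r
  have hr4 : b r ^ 2 = 4 := by rw [hr, Finset.sum_singleton] at hbT'; exact hbT'
  have hrT : r ∈ T := (Finset.mem_filter.mp hrmem).1
  set Sp := S.filter (fun i => b i = a i) with hSp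
  have hSab : ∀ i ∈ S, b i = a i ∨ b i = -a i := by
    intro i hi
    exact sq_eq_sq_iff_eq_or_eq_neg.mp ((hbS i hi).trans (hSa i hi).symm)
  set Sm := S.filter (fun i => ¬ b i = a i) with hSm
  have hsum : ∑ i ∈ U, a i * b i = (Sp.card : ℤ) - Sm.card := by
    have h1 : ∑ i ∈ U, a i * b i = ∑ i ∈ S, a i * b i := by
      rw [hS, Finset.sum_filter_of_ne]
      intro i _ h h0; exact h (by rw [h0]; ring)
    rw [h1, ← Finset.sum_filter_add_sum_filter_not S (fun i => b i = a i)]
    rw [Finset.sum_congr rfl (s₁ := S.filter _) (g := fun _ => (1 : ℤ)),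
      Finset.sum_congr rfl (s₁ := S.filter fun i => ¬ b i = a i) (g := fun _ => (-1 : ℤ))]
    · simp [hSp, hSm, sub_eq_add_neg]
    · intro i hi
      obtain ⟨hiS, hne⟩ := Finset.mem_filter.mp hi
      rw [(hSab i hiS).resolve_left hne]
      have := hSa i hiS
      linarith [show a i * a i = a i ^ 2 by ring]
    · intro i hi
      obtain ⟨hiS, he⟩ := Finset.mem_filter.mp hi
      rw [he, ← pow_two]; exact hSa i hiS
  have hcards : Sp.card + Sm.card = S.card := Finset.card_filter_add_card_filter_not _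
  rw [hsum] at hab
  obtain ⟨p, hp⟩ := Finset.card_eq_one.mp (show Sp.card = 1 by omega)
  obtain ⟨q, q', hqq, hq⟩ := Finset.card_eq_two.mp (show Sm.card = 2 by omega)
  have hpm : p ∈ Sp := hp ▸ Finset.mem_singleton_self p
  have hqm : q ∈ Sm := by rw [hq]; simp
  have hq'm : q' ∈ Sm := by rw [hq]; simp
  obtain ⟨hpS, hpe⟩ := Finset.mem_filter.mp hpm
  obtain ⟨hqS, hqe⟩ := Finset.mem_filter.mp hqm
  obtain ⟨hq'S, hq'e⟩ := Finset.mem_filter.mp hq'm
  refine ⟨p, q, q', r, ⟨hSa p hpS, hpe⟩, ⟨hSa q hqS, (hSab q hqS).resolve_left hqe⟩,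
    ⟨hSa q' hq'S, (hSab q' hq'S).resolve_left hq'e⟩, ⟨(hTeven r hrT).1, hr4⟩, fun F hF => ?_⟩
  rw [← Finset.add_sum_erase _ F (Finset.mem_univ i0), ← hU,
    ← Finset.sum_filter_add_sum_filter_not U (fun i => a i ≠ 0) F, ← hS, ← hT,
    ← Finset.sum_filter_add_sum_filter_not S (fun i => b i = a i) F, ← hSp, ← hSm, hp, hq,
    Finset.sum_singleton, Finset.sum_pair hqq]
  have hFT : ∑ i ∈ T, F i = F r := by
    rw [← Finset.sum_filter_of_ne (p := fun i => b i ≠ 0) (s := T) (f := F), ← hT', hr,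
      Finset.sum_singleton]
    intro i hi h h0; exact h (hF i (hTeven i hi).1 h0)
  rw [hFT]; ring

/-- The Diophantine step. -/
theorem solve {m : ℕ} (hm : Odd m) {D₁ D₂ D₃ D₄ : ℤ} (h1 : D₁ ≠ 0) (h2 : D₂ ≠ 0) (h3 : D₃ ≠ 0)
    (h4 : D₄ ≠ 0) (ea : 1 + D₁ + D₃ + D₄ = 0) (eb : 1 + D₁ + 2 * D₂ - D₃ - D₄ = 0)
    (ec : (m : ℂ) * (1 + 1 / (D₁ : ℂ) + 1 / (D₃ : ℂ) + 1 / (D₄ : ℂ)) = 32)
    (et : (m : ℂ) * (1 + 1 / (D₁ : ℂ) + 8 / (D₂ : ℂ) - 1 / (D₃ : ℂ) - 1 / (D₄ : ℂ)) = 32) :
    m = 21 ∨ m = 45 := by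
  have hm0 : (m : ℂ) ≠ 0 := Nat.cast_ne_zero.mpr (by rintro rfl; simp at hm)
  have h1' : (D₁ : ℂ) ≠ 0 := Int.cast_ne_zero.mpr h1
  have h2' : (D₂ : ℂ) ≠ 0 := Int.cast_ne_zero.mpr h2
  have h3' : (D₃ : ℂ) ≠ 0 := Int.cast_ne_zero.mpr h3
  have h4' : (D₄ : ℂ) ≠ 0 := Int.cast_ne_zero.mpr h4
  have hsub : (1 / (D₃ : ℂ) + 1 / (D₄ : ℂ)) = 4 / (D₂ : ℂ) := by
    have h := ec.trans et.symm
    have := mul_left_cancel₀ hm0 h
    linear_combination this / 2
  have hprodC : (D₂ : ℂ) * (D₃ + D₄) = 4 * D₃ * D₄ := by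
    field_simp at hsub
    linear_combination hsub
  have hprod : D₂ * (D₃ + D₄) = 4 * D₃ * D₄ := by exact_mod_cast hprodC
  have hD2 : D₂ = D₃ + D₄ := by linarith
  subst hD2
  have hsq : (D₃ - D₄) ^ 2 = 0 := by linear_combination hprod
  have h34 : D₃ = D₄ := sub_eq_zero.mp (pow_eq_zero_iff (by norm_num) |>.mp hsq)
  subst h34
  have hD1 : D₁ = -1 - 2 * D₃ := by linarith
  subst hD1
  have hkey : (m : ℂ) * ((D₃ : ℂ) + 1) ^ 2 = 16 * D₃ * (2 * D₃ + 1) := by
    field_simp at ec
    push_cast at ec h1'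
    field_simp at ec
    linear_combination (-1 / 2 : ℂ) * ec
  have hk : (m : ℤ) * (D₃ + 1) ^ 2 = 16 * D₃ * (2 * D₃ + 1) := by exact_mod_cast hkey
  have hdvd : (D₃ + 1) ^ 2 ∣ 16 * (D₃ * (2 * D₃ + 1)) := ⟨m, by linear_combination -hk⟩
  have hcop : IsCoprime ((D₃ + 1) ^ 2) (D₃ * (2 * D₃ + 1)) :=
    (IsCoprime.mul_right ⟨1, -1, by ring⟩ ⟨2, -1, by ring⟩).pow_left
  have h16 : (D₃ + 1) ^ 2 ≤ 16 := Int.le_of_dvd (by norm_num) (hcop.dvd_of_dvd_mul_right hdvd)
  have hb : -5 ≤ D₃ ∧ D₃ ≤ 3 := by constructor <;> nlinarith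
  obtain ⟨j, rfl⟩ := hm
  obtain ⟨hl, hu⟩ := hb
  interval_cases D₃ <;> (try norm_num at hk h3 ⊢) <;> omega

open CharDeep BlocksCore in
include ht e hidx in
/-- The order of `G` is 168 or 360. -/
theorem card_eq : Nat.card G = 168 ∨ Nat.card G = 360 := by
  classical
  have : Fact (Nat.Prime 2) := ⟨Nat.prime_two⟩
  have := Fintype.ofFinite G
  obtain ⟨S, hS⟩ := exists_sylow ht e
  obtain ⟨m, hm⟩ : ∃ m, Nat.card G = 8 * m := ⟨(S : Subgroup G).index, by
    rw [← (S : Subgroup G).index_mul_card, hS, card_centralizer e, mul_comm]⟩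
  have hmodd : Odd m := by
    have h := S.not_dvd_index
    have h' := (S : Subgroup G).index_mul_card
    rw [hS, card_centralizer e, hm] at h'
    rw [hS] at h
    rw [Nat.odd_iff]
    omega
  have hm0 : m ≠ 0 := by rintro rfl; simp at hmodd
  set c := cyc e with hc
  have hcc := cyc_sq ht e
  rw [← hc] at hcc
  have hclass : ∀ x : G,
      Nat.card {y : G // IsConj x y} * Nat.card (centralizer ({x} : Set G)) = Nat.card G := by
    intro x
    have h1 := Subgroup.index_mul_card (centralizer ({x} : Set G))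
    have h2 : (centralizer ({x} : Set G)).index = Nat.card {y : G // IsConj x y} := by
      rw [Subgroup.centralizer_eq_comap_stabilizer]
      refine (Subgroup.index_comap_of_surjective _ (ConjAct.toConjAct (G := G)).surjective).trans ?_
      rw [MulAction.index_stabilizer, ← Nat.card_coe_set_eq]
      refine Nat.card_congr (Equiv.subtypeEquivRight fun y => ?_)
      rw [ConjAct.mem_orbit_conjAct, isConj_comm]
    rw [← h2]; exact h1
  have hKt : Nat.card {y : G // IsConj t y} = m := by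
    have := hclass t; rw [card_centralizer e, hm] at this; omega
  have hKc : Nat.card {y : G // IsConj c y} = 2 * m := by
    have := hclass c; rw [hc, card_centralizer_cyc ht e, hm] at this; rw [hc]; omega
  choose a b ha hb hpar using
    exists_int_values (c := c) (orderOf_cyc ht e) (isConj_cyc_inv ht e)
  simp only [hcc] at hb
  choose d hd0 hd using fun χ : Cfsg.IrrCharacter G => CharCore.IsIrrCharacter.exists_degree χ.2
  have hG0 : (Nat.card G : ℂ) = 8 * (m : ℂ) := by rw [hm]; push_cast; ring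
  have hmC : (m : ℂ) ≠ 0 := Nat.cast_ne_zero.mpr hm0
  have haa : ∑ χ, a χ ^ 2 = 4 := by
    have h := sum_irr_mul_conj c c
    rw [classInd_apply_of_isConj (IsConj.refl c), hKc, hG0] at h
    simp only [ha, map_intCast] at h
    have h' : ((∑ χ, a χ ^ 2 : ℤ) : ℂ) = 4 := by
      push_cast at h ⊢
      simp only [pow_two]
      apply mul_left_cancel₀ (mul_ne_zero two_ne_zero hmC)
      rw [h]; ring
    exact_mod_cast h'
  have hbb : ∑ χ, b χ ^ 2 = 8 := by
    have h := sum_irr_mul_conj t t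
    rw [classInd_apply_of_isConj (IsConj.refl t), hKt, hG0] at h
    simp only [hb, map_intCast] at h
    have h' : ((∑ χ, b χ ^ 2 : ℤ) : ℂ) = 8 := by
      simp only [pow_two]; push_cast
      apply mul_left_cancel₀ hmC
      rw [h]; ring
    exact_mod_cast h'
  have hnc : ¬ IsConj c t := by
    intro h
    obtain ⟨g, hg⟩ := isConj_iff.mp h
    have := congrArg orderOf hg
    rw [← MulAut.conj_apply, MulEquiv.orderOf_eq, hc, orderOf_cyc ht e, ht] at this
    omega
  have hab : ∑ χ, a χ * b χ = 0 := by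
    have h := sum_irr_mul_conj c t
    rw [classInd_apply_of_not_isConj hnc, hKc, hG0] at h
    simp only [ha, hb, map_intCast, mul_zero] at h
    have h' : ((∑ χ, a χ * b χ : ℤ) : ℂ) = 0 := by
      push_cast at h ⊢
      exact (mul_eq_zero.mp h).resolve_left (mul_ne_zero two_ne_zero hmC)
    exact_mod_cast h'
  let χ0 : Cfsg.IrrCharacter G := ⟨1, CharCore.isIrrCharacter_one⟩
  have ha0 : a χ0 = 1 := by
    have := ha χ0; simp only [χ0, Pi.one_apply] at this; exact_mod_cast this.symm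
  have hb0 : b χ0 = 1 := by
    have := hb χ0; simp only [χ0, Pi.one_apply] at this; exact_mod_cast this.symm
  have hd00 : d χ0 = 1 := by
    have := hd χ0; simp only [χ0, Pi.one_apply] at this; exact_mod_cast this.symm
  obtain ⟨p, q, q', r, ⟨hp1, hp2⟩, ⟨hq1, hq2⟩, ⟨hq1', hq2'⟩, ⟨hr1, hr2⟩, hsum⟩ :=
    exists_five a b χ0 ha0 hb0 haa hbb hab hpar
  have hdeg : ∀ x : G, x ≠ 1 → ∑ χ : Cfsg.IrrCharacter G, (d χ : ℂ) * (χ : G → ℂ) x = 0 := by
    intro x hx
    have h := sum_irr_mul_conj (1 : G) x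
    rw [classInd_apply_of_not_isConj (fun hh => hx (isConj_one_right.mp hh)), mul_zero,
      mul_eq_zero, or_iff_right (class_card_ne_zero _)] at h
    have h' := congrArg conj h
    simp only [map_sum, map_mul, Complex.conj_conj, map_zero, hd, map_natCast] at h'
    exact h'
  obtain ⟨e2, he2, he2'⟩ : ∃ e2 : ℤ, (e2 = 1 ∨ e2 = -1) ∧ b r = 2 * e2 := by
    have : b r = 2 ∨ b r = -2 := sq_eq_sq_iff_eq_or_eq_neg.mp (by rw [hr2]; norm_num)
    rcases this with h | h
    · exact ⟨1, Or.inl rfl, by rw [h]; norm_num⟩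
    · exact ⟨-1, Or.inr rfl, by rw [h]; norm_num⟩
  have hcne : c ≠ 1 := fun h => by
    have := orderOf_cyc ht e; rw [← hc, h, orderOf_one] at this; omega
  have htne : t ≠ 1 := fun h => by rw [h, orderOf_one] at ht; omega
  have ea : (1 : ℤ) + a p * d p + a q * d q + a q' * d q' = 0 := by
    have h := hdeg c hcne
    simp only [ha] at h
    rw [hsum _ (fun i h1 _ => by simp [h1]), ha0, hd00, hr1] at h
    have h' : (((1 : ℤ) + a p * d p + a q * d q + a q' * d q' : ℤ) : ℂ) = 0 := by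
      push_cast at h ⊢; linear_combination h
    exact_mod_cast h'
  have eb : (1 : ℤ) + a p * d p + 2 * (e2 * d r) - a q * d q - a q' * d q' = 0 := by
    have h := hdeg t htne
    simp only [hb] at h
    rw [hsum _ (fun i _ h2 => by simp [h2]), hb0, hd00, hp2, hq2, hq2', he2'] at h
    have h' : (((1 : ℤ) + a p * d p + 2 * (e2 * d r) - a q * d q - a q' * d q' : ℤ) : ℂ) = 0 := by
      push_cast at h ⊢; linear_combination h
    exact_mod_cast h'
  have hN : ∀ g : G, Nat.card {x : G × G // IsConj t x.1 ∧ IsConj t x.2 ∧ x.1 * x.2 = g} = 4 →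
      (m : ℂ) * ∑ χ : Cfsg.IrrCharacter G, (b χ : ℂ) ^ 2 * conj ((χ : G → ℂ) g) / (d χ : ℂ) =
        32 := by
    intro g hg
    have hcf : Cfsg.IsClassFunction G (conv (classInd t) (classInd t)) := by
      intro y h
      rw [conv_classInd_apply, conv_classInd_apply]
      norm_cast
      refine Nat.card_congr (Equiv.subtypeEquiv
        (Equiv.prodCongr (MulAut.conj h).symm.toEquiv (MulAut.conj h).symm.toEquiv) fun x => ?_)
      simp only [Equiv.prodCongr_apply, Prod.map, MulEquiv.toEquiv_eq_coe, EquivLike.coe_coe,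
        MulAut.conj_symm_apply]
      refine and_congr ?_ (and_congr ?_ ?_)
      · exact ⟨fun hh => hh.trans (isConj_iff.mpr ⟨h⁻¹, by simp⟩),
          fun hh => hh.trans (isConj_iff.mpr ⟨h, by group⟩)⟩
      · exact ⟨fun hh => hh.trans (isConj_iff.mpr ⟨h⁻¹, by simp⟩),
          fun hh => hh.trans (isConj_iff.mpr ⟨h, by group⟩)⟩
      · constructor <;> intro hh
        · rw [show h⁻¹ * x.1 * h * (h⁻¹ * x.2 * h) = h⁻¹ * (x.1 * x.2) * h by group, hh]; group
        · rw [show x.1 * x.2 = h * (h⁻¹ * x.1 * h * (h⁻¹ * x.2 * h)) * h⁻¹ by group, hh]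
    have h := classFun_eq_sum hcf g
    rw [conv_classInd_apply, hg] at h
    simp only [sum_conv_mul, hKt, hb, hd, hG0] at h
    rw [show (32 : ℂ) = 8 * ((4 : ℕ) : ℂ) by norm_num, h, Finset.mul_sum, Finset.mul_sum]
    refine Finset.sum_congr rfl fun χ _ => ?_
    have hdne : (d χ : ℂ) ≠ 0 := Nat.cast_ne_zero.mpr (hd0 χ).ne'
    field_simp
  have hNc := hN c (card_pairs_cyc ht e hidx)
  have hNt := hN t (card_pairs_self ht e hidx)
  simp only [ha, map_intCast] at hNc
  simp only [hb, map_intCast] at hNt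
  rw [hsum _ (fun i h1 _ => by simp [h1]), ha0, hb0, hd00, hr1, hp2, hq2, hq2'] at hNc
  rw [hsum _ (fun i _ h2 => by simp [h2]), hb0, hd00, hp2, hq2, hq2', he2'] at hNt
  have hD : ∀ χ, (d χ : ℤ) ≠ 0 := fun χ => by exact_mod_cast (hd0 χ).ne'
  have hane : ∀ {x : ℤ}, x ^ 2 = 1 → x ≠ 0 := fun h h0 => by rw [h0] at h; norm_num at h
  have hinv : ∀ {x : ℤ}, x ^ 2 = 1 → ∀ n : ℂ, (1 : ℂ) / ((x : ℂ) * n) = (x : ℂ) / n := by
    intro x hx n
    rcases sq_eq_one_iff.mp hx with h | h <;> simp [h, neg_div, div_neg]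
  have he2sq : e2 ^ 2 = 1 := by rcases he2 with h | h <;> simp [h]
  have hres := solve hmodd (D₁ := a p * d p) (D₂ := e2 * d r) (D₃ := a q * d q) (D₄ := a q' * d q')
    (mul_ne_zero (hane hp1) (hD p)) (mul_ne_zero (hane he2sq) (hD r))
    (mul_ne_zero (hane hq1) (hD q)) (mul_ne_zero (hane hq1') (hD q')) ea eb ?_ ?_
  · rcases hres with h | h
    · left; omega
    · right; omega
  · rw [← hNc]
    push_cast
    rw [hinv hp1, hinv hq1, hinv hq1']
    have c1 : ((a p : ℂ)) ^ 2 = 1 := by exact_mod_cast hp1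
    have c3 : ((a q : ℂ)) ^ 2 = 1 := by exact_mod_cast hq1
    have c4 : ((a q' : ℂ)) ^ 2 = 1 := by exact_mod_cast hq1'
    simp only [neg_sq, c1, c3, c4]
    ring
  · rw [← hNt]
    push_cast
    rw [hinv hp1, hinv hq1, hinv hq1']
    rw [show (8 : ℂ) / ((e2 : ℂ) * (d r : ℂ)) = 8 * (1 / ((e2 : ℂ) * (d r : ℂ))) by ring,
      hinv he2sq]
    have c1 : ((a p : ℂ)) ^ 2 = 1 := by exact_mod_cast hp1
    have c3 : ((a q : ℂ)) ^ 2 = 1 := by exact_mod_cast hq1
    have c4 : ((a q' : ℂ)) ^ 2 = 1 := by exact_mod_cast hq1'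
    have c2 : ((e2 : ℂ)) ^ 2 = 1 := by exact_mod_cast he2sq
    simp only [neg_sq, c1, c3, c4, mul_pow, c2]
    ring

include ht e hidx in
/-- `G` is simple. -/
theorem isSimpleGroup : IsSimpleGroup G := by
  have : Fact (Nat.Prime 2) := ⟨Nat.prime_two⟩
  have : Nontrivial G := ⟨⟨t, 1, fun h => by rw [h, orderOf_one] at ht; omega⟩⟩
  obtain ⟨S, hS⟩ := exists_sylow ht e
  refine ⟨fun N hN => ?_⟩
  by_cases htN : t ∈ N
  · right
    have hinv : ∀ u : G, orderOf u = 2 → u ∈ N := by
      intro u hu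
      obtain ⟨g, hg⟩ := isConj_iff.mp (isConj_involution ht e hidx hu)
      exact hg ▸ hN.conj_mem t htN g
    have hDN : centralizer ({t} : Set G) ≤ N := by
      intro x hx
      have hgen : ∀ d : DihedralGroup 4, ∃ u v : DihedralGroup 4,
          u * v = d ∧ u * u = 1 ∧ v * v = 1 := by decide
      obtain ⟨u, v, huv, hu, hv⟩ := hgen (e ⟨x, hx⟩)
      have hmem : ∀ w : DihedralGroup 4, w * w = 1 →
          ((e.symm w : centralizer ({t} : Set G)) : G) ∈ N := by
        intro w hw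
        by_cases h1 : w = 1
        · simp [h1]
        · refine hinv _ ?_
          rw [Subgroup.orderOf_coe, MulEquiv.orderOf_eq]
          exact orderOf_eq_prime (by rw [pow_two, hw]) h1
      have hx' : x = ((e.symm u : centralizer ({t} : Set G)) : G) * (e.symm v : G) := by
        rw [← Subgroup.coe_mul, ← map_mul, huv, e.symm_apply_apply]
      rw [hx']
      exact mul_mem (hmem u hu) (hmem v hv)
    rw [← hS] at hDN
    have h : normalizer ((S : Subgroup G) : Set G) ⊔ N = ⊤ := by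
      have := Sylow.normalizer_sup_eq_top (S.subtype hDN)
      rwa [Sylow.coe_subtype, Subgroup.subgroupOf_map_subtype, inf_eq_left.mpr hDN] at this
    have hNS : normalizer ((S : Subgroup G) : Set G) ≤ N := by
      refine le_trans ?_ (hS ▸ hDN : centralizer ({t} : Set G) ≤ N)
      rw [hS]
      intro g hg
      have htD : t ∈ centralizer ({t} : Set G) := mem_centralizer_singleton_iff.mpr rfl
      have hu : g * t * g⁻¹ ∈ centralizer ({t} : Set G) := (mem_normalizer_iff.mp hg t).mp htD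
      have h1 : e ⟨g * t * g⁻¹, hu⟩ = DihedralGroup.r 2 := by
        refine dihedral_facts.1 _ ?_ ?_ fun x => ?_
        · rw [← map_mul, ← map_one e]
          congr 1
          apply Subtype.ext
          show g * t * g⁻¹ * (g * t * g⁻¹) = 1
          rw [show g * t * g⁻¹ * (g * t * g⁻¹) = g * (t * t) * g⁻¹ by group, tt ht]; simp
        · intro h
          have h0 : g * t * g⁻¹ = 1 := congrArg Subtype.val (e.map_eq_one_iff.mp h)
          rw [conj_eq_one_iff.mp h0, orderOf_one] at ht; omega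
        · obtain ⟨w, rfl⟩ := e.surjective x
          rw [← map_mul, ← map_mul]
          refine congrArg e (Subtype.ext ?_)
          show g * t * g⁻¹ * (w : G) = w * (g * t * g⁻¹)
          have hw : g⁻¹ * w * g ∈ centralizer ({t} : Set G) :=
            (mem_normalizer_iff.mp hg _).mpr (by simp [mul_assoc])
          have hc := mem_centralizer_singleton_iff.mp hw
          calc g * t * g⁻¹ * (w : G) = g * (t * (g⁻¹ * w * g)) * g⁻¹ := by simp [mul_assoc]
            _ = g * (g⁻¹ * w * g * t) * g⁻¹ := by rw [hc]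
            _ = w * (g * t * g⁻¹) := by simp [mul_assoc]
      rw [← map_self ht e] at h1
      exact mem_centralizer_singleton_iff.mpr
        (mul_inv_eq_iff_eq_mul.mp (congrArg Subtype.val (e.injective h1)))
    rwa [sup_eq_right.mpr hNS] at h
  · left
    have hfree : ∀ n ∈ N, n * t = t * n → n = 1 := by
      intro n hn hnt
      by_contra hne
      set a : centralizer ({t} : Set G) := ⟨n, mem_centralizer_singleton_iff.mpr hnt⟩
      have hnorm : ∀ d : DihedralGroup 4, d ≠ 1 → d = DihedralGroup.r 2 ∨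
          d * d = DihedralGroup.r 2 ∨ ∃ x, d * (x * d⁻¹ * x⁻¹) = DihedralGroup.r 2 := by decide
      have hr2 : ∀ w : centralizer ({t} : Set G), e w = DihedralGroup.r 2 → (w : G) = t := by
        intro w hw
        rw [← map_self ht e] at hw
        exact congrArg Subtype.val (e.injective hw)
      rcases hnorm (e a) (fun h => hne (congrArg Subtype.val (e.map_eq_one_iff.mp h))) with
        h | h | ⟨x, h⟩
      · exact htN (hr2 a h ▸ hn)
      · rw [← map_mul] at h
        have h2 : n * n = t := hr2 _ h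
        exact htN (h2 ▸ mul_mem hn hn)
      · obtain ⟨w, rfl⟩ := e.surjective x
        rw [← map_inv, ← map_inv, ← map_mul, ← map_mul, ← map_mul] at h
        have h2 : n * ((w : G) * n⁻¹ * (w : G)⁻¹) = t := hr2 _ h
        exact htN (h2 ▸ mul_mem hn (hN.conj_mem _ (inv_mem hn) _))
    have hinvN : ∀ u : G, orderOf u = 2 → ∀ n ∈ N, u * n * u⁻¹ = n⁻¹ := by
      intro u hu n hn
      obtain ⟨g, hg⟩ := isConj_iff.mp (isConj_involution ht e hidx hu)
      have hui : u⁻¹ = u := by
        rw [inv_eq_iff_mul_eq_one, ← pow_two, ← hu]; exact pow_orderOf_eq_one u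
      let f : N → N := fun a => ⟨(a : G)⁻¹ * (u * a * u⁻¹),
        mul_mem (inv_mem a.2) (hN.conj_mem _ a.2 u)⟩
      have hfi : Function.Injective f := by
        intro a b hab
        have h : (a : G)⁻¹ * (u * a * u⁻¹) = (b : G)⁻¹ * (u * b * u⁻¹) := congrArg Subtype.val hab
        have h2 : (b : G) * (a : G)⁻¹ * u = u * ((b : G) * (a : G)⁻¹) := by
          have := congrArg (fun z => (b : G) * z * u * (a : G)⁻¹) h
          simpa [mul_assoc] using this
        have h3 := hfree _ (hN.conj_mem _ (mul_mem b.2 (inv_mem a.2)) g⁻¹) (by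
          rw [← hg] at h2
          have := congrArg (fun z => g⁻¹ * z * g) h2
          simpa [mul_assoc] using this)
        rw [inv_inv] at h3
        have h4 : (b : G) * (a : G)⁻¹ = 1 := by
          rw [show (b : G) * (a : G)⁻¹ = g * (g⁻¹ * ((b : G) * (a : G)⁻¹) * g) * g⁻¹ by group, h3]
          group
        exact Subtype.ext (eq_of_mul_inv_eq_one h4).symm
      obtain ⟨a, ha⟩ := Finite.surjective_of_injective hfi ⟨n, hn⟩
      have hn' : (a : G)⁻¹ * (u * a * u⁻¹) = n := congrArg Subtype.val ha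
      rw [← hn', hui]
      have huu : u * u = 1 := by rw [← pow_two, ← hu]; exact pow_orderOf_eq_one u
      calc u * ((a : G)⁻¹ * (u * a * u)) * u = u * (a : G)⁻¹ * u * a * (u * u) := by
            simp [mul_assoc]
        _ = ((a : G)⁻¹ * (u * a * u))⁻¹ := by rw [huu]; simp [hui, mul_assoc]
    rw [eq_bot_iff]
    intro n hn
    obtain ⟨u, v, hu, hv, huv⟩ : ∃ u v : G, orderOf u = 2 ∧ orderOf v = 2 ∧ u * v = t := by
      refine ⟨((e.symm (DihedralGroup.sr 0) : centralizer ({t} : Set G)) : G),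
        ((e.symm (DihedralGroup.sr 2) : centralizer ({t} : Set G)) : G), ?_, ?_, ?_⟩
      · rw [Subgroup.orderOf_coe, MulEquiv.orderOf_eq, DihedralGroup.orderOf_sr]
      · rw [Subgroup.orderOf_coe, MulEquiv.orderOf_eq, DihedralGroup.orderOf_sr]
      · rw [← Subgroup.coe_mul, ← map_mul, show (DihedralGroup.sr 0 : DihedralGroup 4) *
          DihedralGroup.sr 2 = DihedralGroup.r 2 from rfl, ← map_self ht e, e.symm_apply_apply]
    refine mem_bot.mpr (hfree n hn ?_)
    have h1 := hinvN v hv n hn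
    have h2 := hinvN u hu n⁻¹ (inv_mem hn)
    rw [inv_inv] at h2
    have h3 : t * n * t⁻¹ = n := by
      rw [← huv, show u * v * n * (u * v)⁻¹ = u * (v * n * v⁻¹) * u⁻¹ by group, h1, h2]
    exact (mul_inv_eq_iff_eq_mul.mp h3).symm

end Cfsg.Agent.InvChar68.D8
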