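import Cfsg.Agent.InvChar68.D8Centralizer
import Cfsg.Agent.InvChar68.V4Centralizer
import Cfsg.Agent.Lib.Involution.KleinSylow
import Cfsg.Agent.Lib.Transfer.Frobenius
import Cfsg.Agent.Lib.Thompson.Cores
import Cfsg.Prelude.Def_CaseTheorems
import Mathlib.GroupTheory.Transfer

/-!
# Groups with a dihedral involution centralizer of order eight and a subgroup of index two
-/

set_option autoImplicit false

namespace Cfsg.Agent.InvChar68.D8

open Subgroup

variable {G : Type*} [Group G] [Finite G] {t : G}
  (ht : orderOf t = 2) (e : centralizer ({t} : Set G) ≃* DihedralGroup 4)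
  {N : Subgroup G} (hNn : N.Normal) (hN2 : N.index = 2)

include ht e in
theorem cyc_pow_four : cyc e ^ 4 = 1 := by
  rw [← orderOf_cyc ht e]; exact pow_orderOf_eq_one _

include ht e hN2 in
theorem mem_of_index_two : t ∈ N := by
  rw [← cyc_sq ht e, ← pow_two]
  exact Subgroup.sq_mem_of_index_two hN2 _

include ht e hN2 in
theorem card_inf : Nat.card (centralizer ({t} : Set G) ⊓ N : Subgroup G) = 4 := by
  have : Fact (Nat.Prime 2) := ⟨Nat.prime_two⟩
  obtain ⟨S, hS⟩ := exists_sylow ht e
  have hnot : ¬ centralizer ({t} : Set G) ≤ N := by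
    intro h
    have h1 := (index_dvd_of_le h)
    rw [hN2, ← hS] at h1
    exact S.not_dvd_index h1
  have : N.Normal := normal_of_index_eq_two hN2
  have h1 : N.relIndex (centralizer ({t} : Set G)) = 2 := by
    rcases (Nat.dvd_prime Nat.prime_two).mp (hN2 ▸ relIndex_dvd_index_of_normal N _) with h | h
    · exact absurd (relIndex_eq_one.mp h) hnot
    · exact h
  have h2 := (N.subgroupOf (centralizer ({t} : Set G))).index_mul_card
  rw [show (N.subgroupOf (centralizer ({t} : Set G))).index = 2 from h1, card_centralizer e] at h2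
  have h3 : Nat.card (centralizer ({t} : Set G) ⊓ N : Subgroup G) =
      Nat.card (N.subgroupOf (centralizer ({t} : Set G))) := by
    rw [← Nat.card_congr ((N.subgroupOf (centralizer ({t} : Set G))).equivMapOfInjective _
      (centralizer ({t} : Set G)).subtype_injective).symm.toEquiv, subgroupOf_map_subtype, inf_comm]
  omega

include ht e hN2 in
theorem card_subgroupOf : Nat.card ((centralizer ({t} : Set G)).subgroupOf N) = 4 := by
  rw [← card_inf ht e hN2, ← Nat.card_congr (((centralizer ({t} : Set G)).subgroupOf N).equivMapOfInjective _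
      N.subtype_injective).symm.toEquiv, subgroupOf_map_subtype]

include ht e hN2 in
theorem exists_sylow_sub : ∃ P : Sylow 2 N,
    (P : Subgroup N) = (centralizer ({t} : Set G)).subgroupOf N := by
  have : Fact (Nat.Prime 2) := ⟨Nat.prime_two⟩
  have h4 := card_subgroupOf ht e hN2
  have h2 : IsPGroup 2 ((centralizer ({t} : Set G)).subgroupOf N) :=
    IsPGroup.of_card (n := 2) (by rw [h4]; norm_num)
  refine ⟨h2.toSylow ?_, rfl⟩
  intro hd
  have h3 := ((centralizer ({t} : Set G)).subgroupOf N).index_mul_card
  have h5 := N.index_mul_card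
  rw [hN2] at h5
  obtain ⟨S, hS⟩ := exists_sylow ht e
  have h6 := (centralizer ({t} : Set G)).index_mul_card
  rw [card_centralizer e] at h6
  rw [h4] at h3
  have h7 := S.not_dvd_index
  rw [hS] at h7
  omega

include ht e hN2 in
/-- If `N` has a normal 2-complement then `G = C(t) O(G)`. -/
theorem sup_eq_top_of_complement (h : Cfsg.HasNormalPComplement 2 N) :
    centralizer ({t} : Set G) ⊔ Cfsg.oddCore G = ⊤ := by
  have : Fact (Nat.Prime 2) := ⟨Nat.prime_two⟩
  have : N.Normal := normal_of_index_eq_two hN2
  obtain ⟨P, K, hK, hKP⟩ := h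
  obtain ⟨P0, hP0⟩ := exists_sylow_sub ht e hN2
  have hPc : Nat.card (P : Subgroup N) = 4 := by
    rw [P.card_eq_multiplicity, ← P0.card_eq_multiplicity, hP0, card_subgroupOf ht e hN2]
  have hmul := hKP.card_mul
  rw [hPc] at hmul
  have hKodd : (Nat.card K).Coprime 2 := by
    rw [Nat.coprime_two_right, ← Nat.not_even_iff_odd, even_iff_two_dvd]
    intro hd
    exact P.not_dvd_index (by rwa [hKP.index_eq_card])
  have hle : Nat.card K ≤ Nat.card (Cfsg.oddCore G) := by
    rw [Nat.card_congr (K.equivMapOfInjective _ N.subtype_injective).toEquiv]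
    exact card_le_of_le ((Subgroup.map_mono (Agent.Thompson.le_pPrimeCore hK hKodd)).trans
      (Agent.Thompson.map_pPrimeCore_normal_le N))
  have hN := N.index_mul_card
  rw [hN2] at hN
  rw [← card_eq_iff_eq_top]
  refine le_antisymm (card_le_card_group _) ?_
  have h8 : 8 ∣ Nat.card (centralizer ({t} : Set G) ⊔ Cfsg.oddCore G : Subgroup G) :=
    card_centralizer e ▸ card_dvd_of_le le_sup_left
  have hO : Nat.card (Cfsg.oddCore G) ∣
      Nat.card (centralizer ({t} : Set G) ⊔ Cfsg.oddCore G : Subgroup G) :=
    card_dvd_of_le le_sup_right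
  have hcop : Nat.Coprime 8 (Nat.card (Cfsg.oddCore G)) :=
    (Agent.Thompson.card_pPrimeCore_coprime (p := 2) (G := G)).symm.pow_left 3
  have h9 := Nat.le_of_dvd Nat.card_pos (hcop.mul_dvd_of_dvd_of_dvd h8 hO)
  omega

include ht e hN2 in
theorem complement_of_cyc_mem (hc : cyc e ∈ N) : Cfsg.HasNormalPComplement 2 N := by
  have : Fact (Nat.Prime 2) := ⟨Nat.prime_two⟩
  obtain ⟨P, hP⟩ := exists_sylow_sub ht e hN2
  have hcyc : IsCyclic (P : Subgroup N) := by
    refine isCyclic_of_orderOf_eq_card ⟨⟨cyc e, hc⟩, by rw [hP]; exact cyc_mem e⟩ ?_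
    rw [Subgroup.orderOf_mk, Subgroup.orderOf_mk, orderOf_cyc ht e, hP, card_subgroupOf ht e hN2]
  have heven : 2 ∣ Nat.card N := by
    have := card_subgroup_dvd_card (P : Subgroup N)
    rw [hP, card_subgroupOf ht e hN2] at this
    omega
  have hp : (Nat.card N).minFac = 2 := (Nat.minFac_eq_two_iff _).mpr heven
  exact ⟨P, _, inferInstance,
    MonoidHom.ker_transferSylow_isComplement' P (IsCyclic.normalizer_le_centralizer hp hcyc)⟩

include ht e hN2 in
theorem isKleinFour_sub (hc : cyc e ∉ N) :
    ∀ d ∈ (centralizer ({t} : Set G)).subgroupOf N, d ^ 2 = 1 := by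
  intro d hd
  have key : ∀ x : DihedralGroup 4, x * x ≠ 1 → x = DihedralGroup.r 1 ∨ x = DihedralGroup.r 3 := by
    decide
  by_contra hne
  set a : centralizer ({t} : Set G) := ⟨(d : G), hd⟩
  have hne' : e a * e a ≠ 1 := by
    rw [← map_mul]
    intro h
    apply hne
    have h1 : a * a = 1 := e.map_eq_one_iff.mp h
    apply Subtype.ext
    rw [SubmonoidClass.coe_pow, pow_two]
    exact congrArg Subtype.val h1
  apply hc
  rcases key _ hne' with h | h
  · have : e.symm (DihedralGroup.r 1) = a := by rw [← h, e.symm_apply_apply]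
    show ((e.symm (DihedralGroup.r 1) : centralizer ({t} : Set G)) : G) ∈ N
    rw [this]; exact d.2
  · have h3 : e.symm (DihedralGroup.r 1) = a⁻¹ := by
      apply e.injective
      rw [e.apply_symm_apply, map_inv, h]
      decide
    show ((e.symm (DihedralGroup.r 1) : centralizer ({t} : Set G)) : G) ∈ N
    rw [h3]; exact inv_mem d.2

include ht e hN2 in
/-- The fused case: `N` has order 12 or 60 and `G` has order 24 or 120. -/
theorem complement_or_small (hc : cyc e ∉ N) :
    Cfsg.HasNormalPComplement 2 N ∨
      (Nat.card ↥(centralizer ({(⟨t, mem_of_index_two ht e hN2⟩ : N)} : Set N)) = 4 ∧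
        (∀ d ∈ centralizer ({(⟨t, mem_of_index_two ht e hN2⟩ : N)} : Set N), d ^ 2 = 1) ∧
        ∀ u : N, orderOf u = 2 → IsConj (⟨t, mem_of_index_two ht e hN2⟩ : N) u) := by
  have : Fact (Nat.Prime 2) := ⟨Nat.prime_two⟩
  obtain ⟨P, hP⟩ := exists_sylow_sub ht e hN2
  have h4 := card_subgroupOf ht e hN2
  have hexp := isKleinFour_sub ht e hN2 hc
  have hk : IsKleinFour (P : Subgroup N) := by
    rw [hP]
    refine ⟨h4, ?_⟩
    apply Nat.dvd_antisymm
    · exact Monoid.exponent_dvd_iff_forall_pow_eq_one.mpr fun d => Subtype.ext (hexp d d.2)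
    · have hm : (⟨t, mem_of_index_two ht e hN2⟩ : N) ∈ (centralizer ({t} : Set G)).subgroupOf N :=
        mem_subgroupOf.mpr (mem_centralizer_singleton_iff.mpr rfl)
      have h1 : orderOf (⟨_, hm⟩ : (centralizer ({t} : Set G)).subgroupOf N) = 2 := by
        rw [Subgroup.orderOf_mk, Subgroup.orderOf_mk, ht]
      exact h1 ▸ Monoid.order_dvd_exponent _
  rcases Involution.klein_sylow_dichotomy P hk with h | h
  · exact Or.inl ⟨P, _, inferInstance, MonoidHom.ker_transferSylow_isComplement' P h⟩
  · right
    have heq : centralizer ({(⟨t, mem_of_index_two ht e hN2⟩ : N)} : Set N) =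
        (centralizer ({t} : Set G)).subgroupOf N := by
      ext d
      simp only [mem_centralizer_singleton_iff, mem_subgroupOf]
      exact Subtype.ext_iff
    have ho : orderOf (⟨t, mem_of_index_two ht e hN2⟩ : N) = 2 := by rw [Subgroup.orderOf_mk, ht]
    rw [heq]
    exact ⟨h4, hexp, fun u hu => h _ u ho hu⟩

include ht e in
/-- A normal subgroup not containing `t` meets `C(t)` trivially. -/
theorem inf_eq_bot_of_not_mem {K : Subgroup G} (hK : K.Normal) (htK : t ∉ K) :
    K ⊓ centralizer ({t} : Set G) = ⊥ := by
  have key : ∀ d : DihedralGroup 4, d ≠ 1 →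
      d = DihedralGroup.r 2 ∨ d * d = DihedralGroup.r 2 ∨
        ∃ x, x * d * x⁻¹ * d⁻¹ = DihedralGroup.r 2 := by decide
  rw [eq_bot_iff]
  intro a ha
  rw [mem_bot]
  by_contra hne
  apply htK
  set b : centralizer ({t} : Set G) := ⟨a, ha.2⟩
  have hb : e b ≠ 1 := fun h => hne (congrArg Subtype.val (e.map_eq_one_iff.mp h))
  have hback : ∀ w : centralizer ({t} : Set G), e w = DihedralGroup.r 2 → (w : G) = t := by
    intro w hw
    rw [← map_self ht e] at hw
    exact congrArg Subtype.val (e.injective hw)
  rcases key _ hb with h | h | ⟨x, hx⟩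
  · exact hback b h ▸ ha.1
  · rw [← map_mul] at h
    rw [← hback _ h]
    exact mul_mem ha.1 ha.1
  · obtain ⟨w, rfl⟩ := e.surjective x
    rw [← map_inv, ← map_mul, ← map_mul, ← map_inv, ← map_mul] at hx
    rw [← hback _ hx]
    exact mul_mem (hK.conj_mem a ha.1 (w : G)) (inv_mem ha.1)

include ht e hN2 in
/-- In the fused case a normal subgroup not containing `t` is trivial. -/
theorem normal_eq_bot
    (h4 : Nat.card ↥(centralizer ({(⟨t, mem_of_index_two ht e hN2⟩ : N)} : Set N)) = 4)
    (hexp : ∀ d ∈ centralizer ({(⟨t, mem_of_index_two ht e hN2⟩ : N)} : Set N), d ^ 2 = 1)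
    (hconj : ∀ u : N, orderOf u = 2 → IsConj (⟨t, mem_of_index_two ht e hN2⟩ : N) u)
    {K : Subgroup G} (hK : K.Normal) (htK : t ∉ K) : K = ⊥ := by
  have : Fact (Nat.Prime 2) := ⟨Nat.prime_two⟩
  obtain ⟨S, hS⟩ := exists_sylow ht e
  have hinf := inf_eq_bot_of_not_mem ht e hK htK
  have hodd : Odd (Nat.card K) := by
    rw [← Nat.not_even_iff_odd, even_iff_two_dvd]
    intro hd
    obtain ⟨u, hu⟩ := exists_prime_orderOf_dvd_card' 2 hd
    have hu' : orderOf (u : G) = 2 := by rw [Subgroup.orderOf_coe, hu]
    obtain ⟨a, haS, hconj', ha⟩ := Involution.exists_isConj_mem_sylow S hu'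
    obtain ⟨g, rfl⟩ := isConj_iff.mp hconj'
    have hmem : g * (u : G) * g⁻¹ ∈ (S : Subgroup G) := haS
    rw [hS] at hmem
    have h1 := (eq_bot_iff.mp hinf) (mem_inf.mpr ⟨hK.conj_mem _ u.2 g, hmem⟩)
    rw [mem_bot.mp h1, orderOf_one] at ha
    omega
  have hNn : N.Normal := normal_of_index_eq_two hN2
  have hle : K ≤ N := by
    intro k hk
    obtain ⟨j, hj⟩ := hodd
    have hp := pow_card_eq_one' (G := K) (x := ⟨k, hk⟩)
    have hp' : k ^ (2 * j + 1) = 1 := by rw [← hj]; exact congrArg Subtype.val hp
    rw [pow_succ, pow_mul] at hp'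
    rw [eq_inv_of_mul_eq_one_right hp']
    exact inv_mem (pow_mem (Subgroup.sq_mem_of_index_two hN2 k) j)
  have := hK.subgroupOf N
  have hodd' : Odd (Nat.card (K.subgroupOf N)) := by
    rwa [Nat.card_congr (subgroupOfEquivOfLe hle).toEquiv]
  have hb := V4.odd_normal_eq_bot (by rw [Subgroup.orderOf_mk, ht]) h4 hexp hconj _ hodd'
  rw [subgroupOf_eq_bot, disjoint_iff, inf_eq_left.mpr hle] at hb
  exact hb

/-- Faithful coset action. -/
theorem perm_equiv {n : ℕ} (H : Subgroup G) (hidx : H.index = n) (hcore : H.normalCore = ⊥)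
    (hcard : Nat.card G = n.factorial) : Nonempty (G ≃* Equiv.Perm (Fin n)) := by
  have e0 : (G ⧸ H) ≃ Fin n := Finite.equivFinOfCardEq hidx
  let f : G →* Equiv.Perm (Fin n) := (Equiv.permCongrHom e0).toMonoidHom.comp
    (MulAction.toPermHom G (G ⧸ H))
  have hf : Function.Injective f := by
    refine (Equiv.permCongrHom e0).injective.comp ?_
    rw [← MonoidHom.ker_eq_bot_iff, ← normalCore_eq_ker]
    exact hcore
  refine ⟨MulEquiv.ofBijective f ((Nat.bijective_iff_injective_and_card f).mpr ⟨hf, ?_⟩)⟩
  rw [hcard, Nat.card_perm, Nat.card_fin]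

include ht e hN2 in
/-- The fused case gives `S₄` or `S₅`. -/
theorem symm_of_fused
    (h4 : Nat.card ↥(centralizer ({(⟨t, mem_of_index_two ht e hN2⟩ : N)} : Set N)) = 4)
    (hexp : ∀ d ∈ centralizer ({(⟨t, mem_of_index_two ht e hN2⟩ : N)} : Set N), d ^ 2 = 1)
    (hconj : ∀ u : N, orderOf u = 2 → IsConj (⟨t, mem_of_index_two ht e hN2⟩ : N) u) :
    Nonempty (G ≃* Equiv.Perm (Fin 4)) ∨ Nonempty (G ≃* Equiv.Perm (Fin 5)) := by
  have hNn : N.Normal := normal_of_index_eq_two hN2
  have ho : orderOf (⟨t, mem_of_index_two ht e hN2⟩ : N) = 2 := by rw [Subgroup.orderOf_mk, ht]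
  have hmul := N.index_mul_card
  rw [hN2] at hmul
  have hinvK : ∀ K : Subgroup G, K.Normal → t ∈ K → ∀ u : N, orderOf u = 2 → (u : G) ∈ K := by
    intro K hK htK u hu
    obtain ⟨g, hg⟩ := isConj_iff.mp (hconj u hu)
    rw [← hg]
    exact hK.conj_mem t htK (g : G)
  rcases V4.card_eq ho h4 hexp hconj with h12 | h60
  · left
    have : Fact (Nat.Prime 3) := ⟨Nat.prime_three⟩
    let P : Sylow 3 G := Classical.arbitrary _
    have hP : Nat.card (P : Subgroup G) = 3 := by
      rw [P.card_eq_multiplicity, show Nat.card G = 8 * 3 by omega,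
        Nat.factorization_mul (by norm_num) (by norm_num), Finsupp.add_apply,
        Nat.Prime.factorization_self Nat.prime_three,
        Nat.factorization_eq_zero_of_not_dvd (by norm_num)]
      norm_num
    set H := normalizer ((P : Subgroup G) : Set G) with hH
    have hsy : Nat.card (Sylow 3 G) = H.index := P.card_eq_index_normalizer
    have hmod := card_sylow_modEq_one 3 G
    have hdvd := P.card_dvd_index
    have hPi := (P : Subgroup G).index_mul_card
    rw [hP] at hPi
    rw [show (P : Subgroup G).index = 8 by omega] at hdvd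
    have hne1 : Nat.card (Sylow 3 G) ≠ 1 := by
      intro h1
      have : Subsingleton (Sylow 3 G) := (Nat.card_eq_one_iff_unique.mp h1).1
      have := Sylow.characteristic_of_subsingleton P
      have hPn : (P : Subgroup G).Normal := inferInstance
      have htP : t ∉ (P : Subgroup G) := by
        intro h
        have := Subgroup.orderOf_dvd_natCard _ h
        rw [ht, hP] at this
        omega
      have := normal_eq_bot ht e hN2 h4 hexp hconj hPn htP
      rw [this, card_bot] at hP
      omega
    have h44 : H.index = 4 := by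
      rw [← hsy]
      have hle := Nat.le_of_dvd (by norm_num) hdvd
      unfold Nat.ModEq at hmod
      rcases (show Nat.card (Sylow 3 G) = 1 ∨ Nat.card (Sylow 3 G) = 4 ∨ Nat.card (Sylow 3 G) = 7 by
        omega) with h | h | h
      · exact absurd h hne1
      · exact h
      · rw [h] at hdvd; omega
    refine perm_equiv H h44 (normal_eq_bot ht e hN2 h4 hexp hconj H.normalCore_normal ?_)
      (by simp [Nat.factorial]; omega)
    intro htc
    have hsub : centralizer ({(⟨t, mem_of_index_two ht e hN2⟩ : N)} : Set N) ≤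
        H.subgroupOf N := by
      intro d hd
      by_cases hd1 : d = 1
      · subst hd1; exact one_mem _
      · exact H.normalCore_le (hinvK _ H.normalCore_normal htc d
          (orderOf_eq_prime (hexp d hd) hd1))
    have h1 := card_dvd_of_le hsub
    rw [h4] at h1
    have h2 : Nat.card (H.subgroupOf N) ∣ Nat.card H := by
      rw [Nat.card_congr ((H.subgroupOf N).equivMapOfInjective _ N.subtype_injective).toEquiv,
        subgroupOf_map_subtype]
      exact card_dvd_of_le inf_le_left
    have h3 := H.index_mul_card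
    rw [h44] at h3
    have h5 := h1.trans h2
    omega
  · right
    have hsimp := V4.isSimpleGroup ho h4 hexp hconj h60
    have : Fact (Nat.Prime 2) := ⟨Nat.prime_two⟩
    set D := centralizer ({(⟨t, mem_of_index_two ht e hN2⟩ : N)} : Set N) with hD
    obtain ⟨P, hP⟩ := V4.exists_sylow ho h4 hexp hconj
    set D' := D.map N.subtype with hD'
    set H := normalizer (D' : Set G) with hH
    have hDn : ¬ D.Normal := by
      intro hn
      rcases hsimp.eq_bot_or_eq_top_of_normal D hn with h | h
      · rw [h, card_bot] at h4; omega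
      · rw [h, card_top] at h4; omega
    have hcN : normalizer (D : Set N) = H.subgroupOf N := by
      ext g
      simp only [mem_subgroupOf, hH, mem_normalizer_iff, hD', mem_map]
      constructor
      · intro h w
        constructor
        · rintro ⟨x, hx, rfl⟩
          exact ⟨g * x * g⁻¹, (h x).mp hx, by simp⟩
        · rintro ⟨x, hx, hxw⟩
          refine ⟨g⁻¹ * x * g, (h _).mpr (by simpa [mul_assoc] using hx), ?_⟩
          simp only [Subgroup.coe_subtype, Subgroup.coe_mul, Subgroup.coe_inv] at hxw ⊢
          rw [hxw]; group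
      · intro h w
        constructor
        · intro hw
          obtain ⟨x, hx, hxe⟩ := (h w).mp ⟨w, hw, rfl⟩
          have : x = g * w * g⁻¹ := Subtype.ext (by simpa using hxe)
          rwa [← this]
        · intro hw
          obtain ⟨x, hx, hxe⟩ := (h w).mpr ⟨g * w * g⁻¹, hw, by simp⟩
          have : x = w := Subtype.ext (by simpa using hxe)
          rwa [← this]
    have h5 : (normalizer (D : Set N)).index = 5 := by
      have hd := V4.card_normalizer_dvd ho h4 hexp hconj
      rw [← hD] at hd
      have h1 := (normalizer (D : Set N)).index_mul_card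
      rw [h60] at h1
      have h2 : 4 ∣ Nat.card (normalizer (D : Set N)) := h4 ▸ card_dvd_of_le le_normalizer
      have h6 : Nat.card (normalizer (D : Set N)) ∣ 12 :=
        (Nat.dvd_gcd hd (Dvd.intro_left _ h1)).trans (by norm_num)
      have hle := Nat.le_of_dvd (by norm_num) h6
      rcases (show Nat.card (normalizer (D : Set N)) = 4 ∨ Nat.card (normalizer (D : Set N)) = 8 ∨
        Nat.card (normalizer (D : Set N)) = 12 by
          have := Nat.card_pos (α := normalizer (D : Set N)); omega) with h | h | h
      · exfalso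
        have heq : (D : Subgroup N) = normalizer (D : Set N) :=
          Subgroup.eq_of_le_of_card_ge le_normalizer (by rw [h, h4])
        have hc : normalizer ((P : Subgroup N) : Set N) ≤ centralizer ((P : Subgroup N) : Set N) := by
          rw [hP, ← hD, ← heq]
          have : IsMulCommutative D := IsPGroup.isMulCommutative_of_card_eq_prime_sq (p := 2)
            (by rw [h4]; norm_num)
          exact le_centralizer_iff_isMulCommutative.mpr this
        have hco := MonoidHom.ker_transferSylow_isComplement' P hc
        have hmul := hco.card_mul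
        have hP4 : Nat.card (P : Subgroup N) = 4 := by rw [hP]; exact h4
        rw [hP4, h60] at hmul
        rcases hsimp.eq_bot_or_eq_top_of_normal _ (MonoidHom.transferSylow P hc).normal_ker with h' | h'
        · rw [h', card_bot] at hmul; omega
        · rw [h', card_top, h60] at hmul; omega
      · rw [h] at h6; omega
      · rw [h] at h1; omega
    have hCH : centralizer ({t} : Set G) ≤ H := by
      intro c hc
      have hmap : D' = centralizer ({t} : Set G) ⊓ N := by
        rw [hD', ← subgroupOf_map_subtype]
        congr 1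
        ext d
        simp only [hD, mem_centralizer_singleton_iff, mem_subgroupOf]
        exact Subtype.ext_iff
      rw [hH, mem_normalizer_iff, hmap]
      intro w
      simp only [mem_inf]
      constructor
      · rintro ⟨h1, h2⟩
        exact ⟨mul_mem (mul_mem hc h1) (inv_mem hc), hNn.conj_mem w h2 c⟩
      · rintro ⟨h1, h2⟩
        refine ⟨?_, ?_⟩
        · have := mul_mem (mul_mem (inv_mem hc) h1) hc
          simpa [mul_assoc] using this
        · have := hNn.conj_mem _ h2 c⁻¹
          simpa [mul_assoc] using this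
    have hnot : ¬ centralizer ({t} : Set G) ≤ N := by
      intro h
      have h1 := card_inf ht e hN2
      rw [inf_eq_left.mpr h, card_centralizer e] at h1
      omega
    have hidx : H.index = 5 := by
      rw [hcN] at h5
      have htop : H ⊔ N = ⊤ := by
        obtain ⟨c, hc, hcn⟩ := SetLike.not_le_iff_exists.mp hnot
        rw [eq_top_iff]
        intro g _
        by_cases hg : g ∈ N
        · exact mem_sup_right hg
        · have hcg : c⁻¹ * g ∈ N := by
            rw [Subgroup.mul_mem_iff_of_index_two hN2]
            simp [hcn, hg]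
          have := mul_mem (mem_sup_left (T := N) (hCH hc)) (mem_sup_right (S := H) hcg)
          simpa using this
      have h6 : (H ⊓ N).index = H.index * 2 := by
        apply le_antisymm
        · exact hN2 ▸ Subgroup.index_inf_le
        · have h7 := relIndex_mul_index (inf_le_left : H ⊓ N ≤ H)
          rw [inf_relIndex_left, ← relIndex_sup_right, htop, relIndex_top_right, hN2] at h7
          omega
      have h8 := relIndex_mul_index (inf_le_right : H ⊓ N ≤ N)
      rw [inf_relIndex_right, hN2, h6] at h8
      have h9 : H.relIndex N = 5 := h5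
      omega
    refine perm_equiv H hidx (normal_eq_bot ht e hN2 h4 hexp hconj H.normalCore_normal ?_)
      (by simp [Nat.factorial]; omega)
    intro htc
    apply hDn
    rcases hsimp.eq_bot_or_eq_top_of_normal (H.normalCore.subgroupOf N)
      (H.normalCore_normal.subgroupOf N) with h | h
    · exfalso
      have : (⟨t, mem_of_index_two ht e hN2⟩ : N) ∈ H.normalCore.subgroupOf N := htc
      rw [h, mem_bot] at this
      rw [this, orderOf_one] at ho
      omega
    · apply normalizer_eq_top_iff.mp
      rw [hcN, eq_top_iff]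
      intro d _
      have : d ∈ H.normalCore.subgroupOf N := by rw [h]; trivial
      exact H.normalCore_le this

end Cfsg.Agent.InvChar68.D8
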