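import Cfsg.Agent.InvChar68.KleinCentralizer
import Cfsg.Agent.InvChar68.IsolatedInvolution
import Cfsg.Agent.Lib.CharCore.Linear
import Cfsg.Agent.Lib.BlocksDefect.Covering
import Cfsg.Agent.S0494
import Mathlib.GroupTheory.Transfer

/-!
# An involution whose centralizer is a four group

Without a normal 2-complement and without a normal elementary abelian subgroup of order 2 or 4
such a group is `A₅`.
-/

set_option autoImplicit false

namespace Cfsg.Agent.InvChar68.FourCent

open Subgroup
open scoped ComplexConjugate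

/-- A fixed-point-free involution inverts. -/
theorem inverts_of_fixed {G : Type*} [Group G] [Finite G] {x : G} (hx : x * x = 1) (O : Subgroup G)
    (hnorm : ∀ a ∈ O, x * a * x⁻¹ ∈ O) (hfix : ∀ a ∈ O, x * a * x⁻¹ = a → a = 1) :
    ∀ a ∈ O, x * a * x⁻¹ = a⁻¹ := by
  have hxi : x⁻¹ = x := inv_eq_of_mul_eq_one_right hx
  let f : O → O := fun a => ⟨(a : G)⁻¹ * (x * a * x⁻¹), mul_mem (inv_mem a.2) (hnorm _ a.2)⟩
  have hfinj : Function.Injective f := by
    intro a b h
    have h1 : (a : G)⁻¹ * (x * a * x⁻¹) = (b : G)⁻¹ * (x * b * x⁻¹) := congrArg Subtype.val h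
    have h2 : x * ((b : G) * (a : G)⁻¹) * x⁻¹ = (b : G) * (a : G)⁻¹ := by
      calc x * ((b : G) * (a : G)⁻¹) * x⁻¹
          = (b : G) * ((b : G)⁻¹ * (x * b * x⁻¹)) * (x * a * x⁻¹)⁻¹ := by group
        _ = (b : G) * ((a : G)⁻¹ * (x * a * x⁻¹)) * (x * a * x⁻¹)⁻¹ := by rw [h1]
        _ = (b : G) * (a : G)⁻¹ := by group
    exact Subtype.ext (mul_inv_eq_one.mp (hfix _ (mul_mem b.2 (inv_mem a.2)) h2)).symm
  intro a ha
  obtain ⟨b, hb⟩ := (Finite.injective_iff_surjective.mp hfinj) ⟨a, ha⟩
  have hb' : a = (b : G)⁻¹ * (x * b * x⁻¹) := (congrArg Subtype.val hb).symm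
  rw [hb', hxi]
  calc x * ((b : G)⁻¹ * (x * b * x)) * x = x * (b : G)⁻¹ * x * b * (x * x) := by group
    _ = ((b : G)⁻¹ * (x * b * x))⁻¹ := by
      rw [hx, mul_one, mul_inv_rev, mul_inv_rev, mul_inv_rev, hxi, inv_inv]; group

variable {G : Type*} [Group G] [Finite G]

/-- The character computation. -/
theorem index_mem_one_three {x z : G} (hx : orderOf x = 2) (hC4 : Nat.card (centralizer ({x} : Set G)) = 4)
    (N : Subgroup G) (hN2 : N.index = 2) (hxN : x ∉ N) (hz : orderOf z = 2)
    (hout : ∀ a : G, orderOf a = 2 → a ∉ N → IsConj x a)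
    {C : Subgroup G} (hC : C = centralizer ({z} : Set G)) (hzC : z ∈ C)
    (A : Subgroup C) (hA4 : A.index = 4)
    (hAN : ∀ a ∈ A, (a : G) ∈ N) (hzA : (⟨z, hzC⟩ : C) ∈ A)
    (hz1 : ∀ a ∈ A, orderOf a = 2 → (a : G) = z)
    (hinv : ∀ c : C, IsConj x (c : G) → ∀ a ∈ A, c * a * c⁻¹ = a⁻¹)
    (hT : Nat.card {c : C // IsConj x (c : G)} * 4 = Nat.card C)
    (hodd : Odd C.index) : C.index = 1 ∨ C.index = 3 := by
  classical
  have := Fintype.ofFinite G
  have hNn : N.Normal := normal_of_index_eq_two hN2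
  set k := C.index with hk
  set m := Nat.card {y : G // IsConj x y} with hm
  have hAc : Nat.card C = 4 * Nat.card A := by rw [← A.index_mul_card, hA4]
  have hG : Nat.card G = k * (4 * Nat.card A) := by rw [← hAc, ← C.index_mul_card]
  have hmk : m = k * Nat.card A := by
    have h := card_isConj_mul_card_centralizer x
    rw [hC4, ← hm, hG] at h
    nlinarith
  have hTA : Nat.card {c : C // IsConj x (c : G)} = Nat.card A := by omega
  have hx1 : x ≠ 1 := Involution.ne_one_of_orderOf hx
  have hz1' : z ≠ 1 := Involution.ne_one_of_orderOf hz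
  have hzz := Involution.mul_self_of_orderOf hz
  have hconjN : ∀ {a : G}, IsConj x a → a ∉ N := by
    intro a ha haN
    obtain ⟨g, hg⟩ := isConj_iff.mp ha
    apply hxN
    have := hNn.conj_mem a haN g⁻¹
    rw [← hg] at this
    simpa [mul_assoc] using this
  have hsqc : ∀ {a : G}, IsConj x a → a * a = 1 := by
    intro a ha
    obtain ⟨g, hg⟩ := isConj_iff.mp ha
    rw [← hg, show g * x * g⁻¹ * (g * x * g⁻¹) = g * (x * x) * g⁻¹ by group,
      Involution.mul_self_of_orderOf hx]
    group
  -- elements of even order of `A`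
  have hpowz : ∀ a ∈ A, Even (orderOf a) → (a : G) ^ (orderOf a / 2) = z := by
    intro a ha he
    have h := hz1 (a ^ (orderOf a / 2)) (pow_mem ha _)
      (Involution.orderOf_pow_half he (orderOf_pos a).ne')
    simpa using h
  have hpairs : ∀ a ∈ A, Even (orderOf a) →
      Nat.card {w : G × G // IsConj x w.1 ∧ IsConj x w.2 ∧ w.1 * w.2 = (a : G)} = Nat.card A := by
    intro a ha he
    rw [← hTA]
    have hmem : ∀ {u v : G}, IsConj x u → IsConj x v → u * v = (a : G) → u ∈ C := by
      intro u v hu hv huv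
      have hui : u⁻¹ = u := inv_eq_of_mul_eq_one_right (hsqc hu)
      have hvi : v⁻¹ = v := inv_eq_of_mul_eq_one_right (hsqc hv)
      have hg : u * (a : G) * u⁻¹ = (a : G)⁻¹ := by
        rw [← huv, mul_inv_rev, hui, hvi, ← mul_assoc u u v, hsqc hu, one_mul]
      have h := congrArg (fun w => w ^ (orderOf a / 2)) hg
      simp only [conj_pow, inv_pow, hpowz a ha he, inv_eq_of_mul_eq_one_right hzz] at h
      rw [hC]; exact mem_centralizer_singleton_iff.mpr (mul_inv_eq_iff_eq_mul.mp h)
    refine Nat.card_congr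
      { toFun := fun w => ⟨⟨w.1.1, hmem w.2.1 w.2.2.1 w.2.2.2⟩, w.2.1⟩
        invFun := fun c => ⟨((c.1 : G), (c.1 : G) * (a : G)), c.2, ?_, ?_⟩
        left_inv := ?_
        right_inv := fun c => rfl }
    · have h2 := congrArg Subtype.val (hinv c.1 c.2 a ha)
      simp only [Subgroup.coe_mul, Subgroup.coe_inv] at h2
      have hcc := hsqc c.2
      rw [inv_eq_of_mul_eq_one_right hcc] at h2
      refine hout _ (Involution.orderOf_eq_two_iff'.mpr ⟨?_, ?_⟩) ?_
      · calc (c.1 : G) * (a : G) * ((c.1 : G) * (a : G))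
            = (c.1 : G) * (a : G) * (c.1 : G) * (a : G) := by group
          _ = 1 := by rw [h2, inv_mul_cancel]
      · intro h
        exact hconjN c.2 (by rw [eq_inv_of_mul_eq_one_left h]; exact inv_mem (hAN a ha))
      · intro h
        exact hconjN c.2 ((Subgroup.mul_mem_cancel_right N (hAN a ha)).mp h)
    · rw [← mul_assoc, hsqc c.2, one_mul]
    · rintro ⟨⟨u, v⟩, hu, hv, huv⟩
      refine Subtype.ext (Prod.ext rfl ?_)
      show u * (a : G) = v
      rw [← huv, ← mul_assoc, hsqc hu, one_mul]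
  -- the characters
  let sgn : G →* ℂˣ := MonoidHom.mk' (fun g => if g ∈ N then 1 else -1) (by
    intro a b
    rw [Subgroup.mul_mem_iff_of_index_two hN2]
    by_cases ha : a ∈ N <;> by_cases hb : b ∈ N <;> simp [ha, hb])
  let χs : Cfsg.IrrCharacter G := ⟨_, CharCore.isIrrCharacter_hom sgn⟩
  have hsN : ∀ g ∈ N, (χs : G → ℂ) g = 1 := fun g hg => by simp [χs, sgn, hg]
  have hsx : (χs : G → ℂ) x = -1 := by simp [χs, sgn, hxN]
  choose d hd0 hd using fun χ : Cfsg.IrrCharacter G => CharCore.IsIrrCharacter.exists_degree χ.2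
  choose a ha hpar using fun χ : Cfsg.IrrCharacter G => exists_int_value_involution hx χ (hd χ)
  let χ0 : Cfsg.IrrCharacter G := ⟨1, CharCore.isIrrCharacter_one⟩
  have ha0 : a χ0 = 1 := by
    have := ha χ0; simp only [χ0, Pi.one_apply] at this; exact_mod_cast this.symm
  have hd00 : d χ0 = 1 := by
    have := hd χ0; simp only [χ0, Pi.one_apply] at this; exact_mod_cast this.symm
  have has : a χs = -1 := by
    have := ha χs; rw [hsx] at this; exact_mod_cast this.symm
  have hds : d χs = 1 := by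
    have := hd χs; rw [hsN 1 (one_mem N)] at this; exact_mod_cast this.symm
  have haa : ∑ χ, a χ ^ 2 = 4 := by
    have h := sum_mul_conj_self x
    rw [hC4] at h
    simp only [ha, map_intCast] at h
    have : ((∑ χ, a χ ^ 2 : ℤ) : ℂ) = 4 := by
      simp only [pow_two]; push_cast at h ⊢; exact h
    exact_mod_cast this
  obtain ⟨θ, θ', hθ, hθ', hsum⟩ : ∃ θ θ', a θ ^ 2 = 1 ∧ a θ' ^ 2 = 1 ∧
      ∀ F : Cfsg.IrrCharacter G → ℂ, (∀ i, a i = 0 → F i = 0) →
        ∑ i, F i = F χ0 + F χs + F θ + F θ' := by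
    obtain ⟨p, q, r, hp, hq, hr, -, -, -, -, -, -, hsum⟩ := V4.exists_three a χ0 ha0 haa
    have h := hsum (fun i => if i = χs then 1 else 0) (fun i hi => by
      rw [if_neg]; rintro rfl; omega)
    have h0 : χ0 ≠ χs := fun h => by rw [h, has] at ha0; omega
    rw [Finset.sum_ite_eq' Finset.univ χs, if_pos (Finset.mem_univ _), if_neg h0] at h
    by_cases e1 : p = χs
    · exact ⟨q, r, hq, hr, fun F hF => by rw [hsum F hF, e1]⟩
    by_cases e2 : q = χs
    · exact ⟨p, r, hp, hr, fun F hF => by rw [hsum F hF, e2]; ring⟩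
    by_cases e3 : r = χs
    · exact ⟨p, q, hp, hq, fun F hF => by rw [hsum F hF, e3]; ring⟩
    simp [e1, e2, e3] at h
  have hdeg : a θ' = -a θ ∧ d θ' = d θ := by
    have h := sum_degree_mul_eq_zero d hd hx1
    simp only [ha] at h
    rw [hsum _ (fun i hi => by simp [hi]), ha0, hd00, has, hds] at h
    have h' : (((a θ : ℤ) * d θ + a θ' * d θ' : ℤ) : ℂ) = 0 := by
      push_cast at h ⊢; linear_combination h
    have h2 : (a θ : ℤ) * d θ + a θ' * d θ' = 0 := by exact_mod_cast h'
    have := hd0 θ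
    have := hd0 θ'
    rcases sq_eq_one_iff.mp hθ with e | e <;> rcases sq_eq_one_iff.mp hθ' with e' | e' <;>
      rw [e, e'] at h2 <;> omega
  have hθN : ∀ g : G, g ∈ N → conj ((θ' : G → ℂ) g) = conj ((θ : G → ℂ) g) := by
    intro g hg
    have h := sum_mul_conj_eq_zero (x := x) (y := g) (fun h => hconjN h hg)
    simp only [ha] at h
    rw [hsum _ (fun i hi => by simp [hi]), ha0, has, hdeg.1, hsN g hg] at h
    simp only [χ0, Pi.one_apply, map_one] at h
    have h2 : (a θ : ℂ) * (conj ((θ : G → ℂ) g) - conj ((θ' : G → ℂ) g)) = 0 := by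
      push_cast at h; linear_combination h
    have hne : (a θ : ℂ) ≠ 0 := by
      intro h0
      have : a θ = 0 := by exact_mod_cast h0
      rw [this] at hθ; simp at hθ
    exact (sub_eq_zero.mp ((mul_eq_zero.mp h2).resolve_left hne)).symm
  have hdC : (d θ : ℂ) ≠ 0 := Nat.cast_ne_zero.mpr (hd0 θ).ne'
  have hval : ∀ b ∈ A, Even (orderOf b) →
      (k : ℂ) * ((d θ : ℂ) + conj ((θ : G → ℂ) (b : G))) = 2 * d θ := by
    intro b hb he
    have h := card_pairs_mul_card x (b : G)
    rw [hpairs b hb he, ← hm, hmk, hG] at h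
    simp only [ha, hd] at h
    rw [hsum _ (fun i hi => by simp [hi]), ha0, has, hdeg.1, hdeg.2, hd00, hds,
      hsN _ (hAN b hb), hθN _ (hAN b hb)] at h
    simp only [χ0, Pi.one_apply, map_one] at h
    have c1 : (a θ : ℂ) ^ 2 = 1 := by exact_mod_cast hθ
    push_cast at h
    rw [neg_sq, neg_sq, c1] at h
    field_simp at h
    have hne : (k : ℂ) * 2 ≠ 0 := by
      have hk0 : (k : ℂ) ≠ 0 := Nat.cast_ne_zero.mpr (by have := hodd.pos; omega)
      simp [hk0]
    apply mul_left_cancel₀ hne
    linear_combination -h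
  -- the value at `z`
  have hzev : Even (orderOf (⟨z, hzC⟩ : C)) := by
    rw [Subgroup.orderOf_mk, hz]; decide
  obtain ⟨q, hq, hqpar⟩ := exists_int_value_involution hz θ (hd θ)
  have hkq : (k : ℤ) * (d θ + q) = 2 * d θ := by
    have h := hval _ hzA hzev
    simp only [hq, map_intCast] at h
    exact_mod_cast h
  have hθval : ∀ b ∈ A, Even (orderOf b) → (θ : G → ℂ) (b : G) = q := by
    intro b hb he
    have h := hval b hb he
    have h' : (k : ℂ) * ((d θ : ℂ) + (q : ℂ)) = 2 * d θ := by exact_mod_cast hkq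
    have hk0 : (k : ℂ) ≠ 0 := Nat.cast_ne_zero.mpr (by have := hodd.pos; omega)
    have h2 := mul_left_cancel₀ hk0 (h.trans h'.symm)
    have h3 := congrArg conj (add_left_cancel h2)
    rw [Complex.conj_conj, map_intCast] at h3
    exact h3
  -- the norm of `θ`
  have hbound : (q : ℤ) ^ 2 ≤ 6 := by
    let EA : Finset C := Finset.univ.filter (fun b => b ∈ A ∧ Even (orderOf b))
    have hhalf : Nat.card A ≤ 2 * EA.card := by
      let AF : Finset C := Finset.univ.filter (· ∈ A)
      have hAF : AF.card = Nat.card A := by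
        rw [Nat.card_eq_fintype_card, Fintype.card_subtype]
      let zC : C := ⟨z, hzC⟩
      have hle : (AF.filter (fun b => ¬ Even (orderOf b))).card ≤ EA.card := by
        refine Finset.card_le_card_of_injOn (fun b => b * zC) ?_ (mul_left_injective zC).injOn
        intro b hb
        simp only [Finset.coe_filter, AF, Finset.mem_filter, Finset.mem_univ, true_and,
          Set.mem_setOf_eq] at hb
        simp only [EA, Finset.coe_filter, Finset.mem_univ, true_and, Set.mem_setOf_eq]
        refine ⟨mul_mem hb.1 hzA, ?_⟩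
        have hcm : Commute b zC := Subtype.ext (mem_centralizer_singleton_iff.mp (hC.le b.2))
        have hco : Nat.Coprime (orderOf b) (orderOf zC) := by
          rw [show orderOf zC = 2 by rw [Subgroup.orderOf_mk, hz]]
          exact (Nat.not_even_iff_odd.mp hb.2).coprime_two_right
        rw [hcm.orderOf_mul_eq_mul_orderOf_of_coprime hco, show orderOf zC = 2 by rw [Subgroup.orderOf_mk, hz]]
        exact even_two.mul_left _
      have h2 := Finset.card_filter_add_card_filter_not (s := AF) (fun b => Even (orderOf b))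
      have h3 : AF.filter (fun b => Even (orderOf b)) = EA := by
        rw [Finset.filter_filter]
      rw [h3, hAF] at h2
      omega
    let XF : Finset G := Finset.univ.filter (fun y => IsConj x y)
    have := Fintype.ofFinite (G ⧸ C)
    let E : Finset G := ((Finset.univ : Finset (G ⧸ C)) ×ˢ EA).image (fun w => w.1.out * (w.2 : G) * w.1.out⁻¹)
    have hEcard : E.card = k * EA.card := by
      rw [Finset.card_image_of_injOn, Finset.card_product, Finset.card_univ, hk, Subgroup.index,
        Nat.card_eq_fintype_card]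
      rintro ⟨c, e⟩ hce ⟨c', e'⟩ hce' heq
      simp only [Finset.coe_product, Set.mem_prod, Finset.mem_coe, EA, Finset.mem_filter,
        Finset.mem_univ, true_and] at hce hce'
      simp only at heq
      have hoe : orderOf e = orderOf e' := by
        have h1 : orderOf (c.out * (e : G) * c.out⁻¹) = orderOf e := by
          rw [← Subgroup.orderOf_coe e]
          exact orderOf_injective (MulAut.conj c.out).toMonoidHom (MulAut.conj c.out).injective _
        have h2 : orderOf (c'.out * (e' : G) * c'.out⁻¹) = orderOf e' := by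
          rw [← Subgroup.orderOf_coe e']
          exact orderOf_injective (MulAut.conj c'.out).toMonoidHom (MulAut.conj c'.out).injective _
        rw [← h1, ← h2, heq]
      have h := congrArg (fun w => w ^ (orderOf e / 2)) heq
      simp only [conj_pow] at h
      rw [hpowz e hce.1 hce.2, hoe, hpowz e' hce'.1 hce'.2] at h
      have hcc : c = c' := by
        rw [← QuotientGroup.out_eq' c, ← QuotientGroup.out_eq' c', QuotientGroup.eq]
        refine hC.ge (mem_centralizer_singleton_iff.mpr ?_)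
        have h' := congrArg (fun w => c.out⁻¹ * w * c'.out) h
        simpa [mul_assoc] using h'.symm
      subst hcc
      exact Prod.ext rfl (Subtype.ext (mul_left_cancel (mul_right_cancel heq)))
    have hdisj : Disjoint XF E := by
      rw [Finset.disjoint_left]
      intro y hy hyE
      simp only [XF, Finset.mem_filter, Finset.mem_univ, true_and] at hy
      obtain ⟨⟨c, e⟩, hce, rfl⟩ := Finset.mem_image.mp hyE
      simp only [Finset.mem_product, EA, Finset.mem_filter, Finset.mem_univ, true_and] at hce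
      exact hconjN hy (hNn.conj_mem _ (hAN e hce.1) c.out)
    have hXval : ∀ y ∈ XF, ‖(θ : G → ℂ) y‖ ^ 2 = 1 := by
      intro y hy
      simp only [XF, Finset.mem_filter, Finset.mem_univ, true_and] at hy
      obtain ⟨g, rfl⟩ := isConj_iff.mp hy
      rw [CharCore.irr_isClassFunction θ x g, ha θ, Complex.norm_intCast, sq_abs]
      exact_mod_cast hθ
    have hEval : ∀ y ∈ E, ‖(θ : G → ℂ) y‖ ^ 2 = (q : ℝ) ^ 2 := by
      intro y hy
      obtain ⟨⟨c, e⟩, hce, rfl⟩ := Finset.mem_image.mp hy
      simp only [Finset.mem_product, EA, Finset.mem_filter, Finset.mem_univ, true_and] at hce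
      rw [CharCore.irr_isClassFunction θ (e : G) c.out, hθval e hce.1 hce.2, Complex.norm_intCast, sq_abs]
    have htot : ∑ g : G, ‖(θ : G → ℂ) g‖ ^ 2 = (Nat.card G : ℝ) := by
      have h := CharCore.classInner_irr_self θ
      rw [CharCore.classInner_def, inv_mul_eq_one₀ (Nat.cast_ne_zero.mpr Nat.card_pos.ne')] at h
      apply Complex.ofReal_injective
      push_cast
      rw [h]
      exact Finset.sum_congr rfl fun g _ => by rw [Complex.mul_conj']
    have hle : ∑ g ∈ XF ∪ E, ‖(θ : G → ℂ) g‖ ^ 2 ≤ (Nat.card G : ℝ) := by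
      rw [← htot]
      exact Finset.sum_le_sum_of_subset_of_nonneg (Finset.subset_univ _) fun g _ _ => sq_nonneg _
    have hXc : XF.card = k * Nat.card A := by
      rw [← hmk, hm, Nat.card_eq_fintype_card, Fintype.card_subtype]
    rw [Finset.sum_union hdisj, Finset.sum_congr rfl hXval, Finset.sum_congr rfl hEval,
      Finset.sum_const, Finset.sum_const, nsmul_eq_mul, nsmul_eq_mul, mul_one, hXc, hEcard, hG] at hle
    push_cast at hle
    have hk0 : (0 : ℝ) < k := Nat.cast_pos.mpr hodd.pos
    have hA0 : (0 : ℝ) < Nat.card A := Nat.cast_pos.mpr Nat.card_pos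
    have hh : (Nat.card A : ℝ) ≤ 2 * EA.card := by exact_mod_cast hhalf
    have : (q : ℝ) ^ 2 ≤ 6 := by
      have h1 : (k : ℝ) * Nat.card A * (q : ℝ) ^ 2 ≤ 2 * ((k : ℝ) * EA.card * (q : ℝ) ^ 2) := by
        nlinarith [mul_le_mul_of_nonneg_left hh (mul_nonneg hk0.le (sq_nonneg (q : ℝ)))]
      have h2 : (k : ℝ) * Nat.card A * (q : ℝ) ^ 2 ≤ (k : ℝ) * Nat.card A * 6 := by nlinarith
      exact le_of_mul_le_mul_left h2 (mul_pos hk0 hA0)
    exact_mod_cast this
  have hdodd : (d θ : ℤ) % 2 = 1 := by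
    have := hpar θ
    rcases sq_eq_one_iff.mp hθ with e | e <;> rw [e] at this <;> omega
  have hq1 : q = 1 ∨ q = -1 := by
    have h1 : -2 ≤ q := by nlinarith
    have h2 : q ≤ 2 := by nlinarith
    omega
  have hkodd : (k : ℤ) % 2 = 1 := by obtain ⟨j, hj⟩ := hodd; omega
  rcases hq1 with rfl | rfl
  · left
    have : (k : ℤ) < 2 := by
      by_contra h
      push Not at h
      nlinarith [hd0 θ]
    omega
  · right
    have h1 : ((d θ : ℤ) - 1) * ((k : ℤ) - 2) = 2 := by linear_combination hkq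
    have h0 : 0 ≤ (d θ : ℤ) - 1 := by have := hd0 θ; omega
    have hk2 : 0 < (k : ℤ) - 2 := by
      by_contra h
      push Not at h
      nlinarith
    have hdvd : (k : ℤ) - 2 ∣ 2 := ⟨(d θ : ℤ) - 1, by linear_combination -h1⟩
    have := Int.le_of_dvd (by norm_num) hdvd
    omega

variable {x : G} (hx : orderOf x = 2) (hC4 : Nat.card (centralizer ({x} : Set G)) = 4)
  (hexp : ∀ c ∈ centralizer ({x} : Set G), c ^ 2 = 1)
  (hne : ∀ E : Subgroup G, E.Normal → Cfsg.IsElementaryAbelian 2 E →
    Nat.card E ≠ 2 ∧ Nat.card E ≠ 4)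

include hx hC4 hexp hne in
/-- A Sylow 2-subgroup has order four. -/
theorem card_sylow (hnc : ¬ Cfsg.HasNormalPComplement 2 G) (S : Sylow 2 G)
    (hVS : centralizer ({x} : Set G) ≤ (S : Subgroup G)) :
    Nat.card (S : Subgroup G) ≤ 4 := by
  classical
  have : Fact (Nat.Prime 2) := ⟨Nat.prime_two⟩
  by_contra h8
  push Not at h8
  set V := centralizer ({x} : Set G) with hV
  have hxx := Involution.mul_self_of_orderOf hx
  have hx1 : x ≠ 1 := Involution.ne_one_of_orderOf hx
  have hxV : x ∈ V := mem_centralizer_singleton_iff.mpr rfl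
  have hxS : x ∈ (S : Subgroup G) := hVS hxV
  let x' : (S : Subgroup G) := ⟨x, hxS⟩
  have hcent : centralizer ({x'} : Set (S : Subgroup G)) = V.subgroupOf (S : Subgroup G) := by
    ext d
    simp only [hV, mem_centralizer_singleton_iff, mem_subgroupOf, x']
    exact Subtype.ext_iff
  have hC4' : Nat.card (centralizer ({x'} : Set (S : Subgroup G))) = 4 := by
    rw [hcent, Nat.card_congr (subgroupOfEquivOfLe hVS).toEquiv, hC4]
  obtain ⟨r', hri, hxr⟩ := exists_cyclic_index_two _ le_rfl S.2 (x := x')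
    (by rw [Subgroup.orderOf_mk, hx]) hC4' h8
  obtain ⟨hxc, z', hzo, hzc⟩ := exists_central_involution S.2 hC4' h8
  set r : G := (r' : G) with hr
  set z : G := (z' : G) with hzdef
  set R := zpowers r with hRdef
  have hrS : r ∈ (S : Subgroup G) := r'.2
  have hzS : z ∈ (S : Subgroup G) := z'.2
  have hRS : R ≤ (S : Subgroup G) := zpowers_le.mpr hrS
  have hz : orderOf z = 2 := by rw [hzdef, Subgroup.orderOf_coe, hzo]
  have hzz := Involution.mul_self_of_orderOf hz
  have hz1 : z ≠ 1 := Involution.ne_one_of_orderOf hz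
  have hzcomm : ∀ s ∈ (S : Subgroup G), s * z = z * s := fun s hs =>
    congrArg Subtype.val (mem_center_iff.mp hzc ⟨s, hs⟩)
  have hRmap : R.subgroupOf (S : Subgroup G) = zpowers r' := by
    rw [hRdef, hr, show zpowers (r' : G) = (zpowers r').map (S : Subgroup G).subtype from
      ((S : Subgroup G).subtype.map_zpowers r').symm]
    exact Subgroup.comap_map_eq_self_of_injective (Subgroup.subtype_injective _) _
  have hR2 : R.relIndex (S : Subgroup G) = 2 := by
    show (R.subgroupOf (S : Subgroup G)).index = 2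
    rw [hRmap, hri]
  have hxR : x ∉ R := fun h => hxr (hRmap ▸ mem_subgroupOf.mpr h)
  have hor : ∀ {s t : G}, s ∈ (S : Subgroup G) → t ∈ (S : Subgroup G) → s ∉ R → t ∉ R → s * t ∈ R := by
    intro s t hs ht hsR htR
    have h := (Subgroup.mul_mem_iff_of_index_two hR2 (a := ⟨s, hs⟩) (b := ⟨t, ht⟩))
    simp only [mem_subgroupOf, Subgroup.coe_mul] at h
    exact h.mpr (iff_of_false hsR htR)
  have hnot : ∀ {t : G}, t ∈ R → x * t ∉ R := fun ht h => hxR ((Subgroup.mul_mem_cancel_right R ht).mp h)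
  have hRnorm : ∀ s ∈ (S : Subgroup G), ∀ w ∈ R, s * w * s⁻¹ ∈ R := by
    intro s hs w hw
    have hn : (R.subgroupOf (S : Subgroup G)).Normal := Subgroup.normal_of_index_eq_two hR2
    exact hn.conj_mem ⟨w, hRS hw⟩ hw ⟨s, hs⟩
  have huniq : ∀ {w w' : G}, w ∈ R → w' ∈ R → orderOf w = 2 → orderOf w' = 2 → w = w' :=
    fun hw hw' ho ho' => Klein.involution_zpowers_unique hw hw' ho ho'
  have hRc : Nat.card R * 2 = Nat.card (S : Subgroup G) := by
    have h := (R.subgroupOf (S : Subgroup G)).index_mul_card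
    rw [show (R.subgroupOf (S : Subgroup G)).index = 2 from hR2,
      Nat.card_congr (subgroupOfEquivOfLe hRS).toEquiv] at h
    omega
  obtain ⟨e, he⟩ := IsPGroup.iff_card.mp (S.2.to_le hRS)
  have he2 : 2 ≤ e := by
    by_contra h
    have : 2 ^ e ≤ 2 ^ 1 := Nat.pow_le_pow_right (by norm_num) (by omega)
    omega
  have hro : orderOf r = 2 ^ e := by rw [← Nat.card_zpowers, ← hRdef, he]
  have hro4 : 4 ∣ orderOf r := hro ▸ (show (2 : ℕ) ^ 2 ∣ 2 ^ e from pow_dvd_pow 2 he2)
  set z0 := r ^ (orderOf r / 2) with hz0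
  have hz0o : orderOf z0 = 2 := Involution.orderOf_pow_half (even_iff_two_dvd.mpr (by omega))
    (orderOf_pos r).ne'
  have hz0R : z0 ∈ R := npow_mem_zpowers r _
  have hzR : z ∈ R := by
    by_contra h
    have hw : x * z ∈ R := hor hxS hzS hxR h
    have hxz : Commute x z := hzcomm x hxS
    have hwo : orderOf (x * z) = 2 := by
      rw [Involution.orderOf_eq_two_iff']
      refine ⟨by rw [← pow_two, hxz.mul_pow, pow_two, pow_two, hxx, hzz, one_mul], fun h1 => hxc ?_⟩
      have hzx : z' = x' :=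
        Subtype.ext ((eq_inv_of_mul_eq_one_right h1).trans (inv_eq_of_mul_eq_one_right hxx))
      exact hzx ▸ hzc
    apply hxc
    rw [mem_center_iff]
    rintro ⟨s, hs⟩
    apply Subtype.ext
    show s * x = x * s
    have hcw : s * (x * z) * s⁻¹ = x * z := huniq (hRnorm s hs _ hw) hw
      ((orderOf_injective (MulAut.conj s).toMonoidHom (MulAut.conj s).injective _).trans hwo) hwo
    have h2 : s * x * s⁻¹ = x := by
      have h3 : s * z * s⁻¹ = z := by rw [hzcomm s hs, mul_inv_cancel_right]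
      calc s * x * s⁻¹ = (s * (x * z) * s⁻¹) * (s * z * s⁻¹)⁻¹ := by group
        _ = x := by rw [hcw, h3, mul_inv_cancel_right]
    exact mul_inv_eq_iff_eq_mul.mp h2
  have hzz0 : z = z0 := huniq hzR hz0R hz hz0o
  -- the subgroup of index two
  have hno : ∀ g : G, g * x * g⁻¹ ∈ (S : Subgroup G) → g * x * g⁻¹ ∉ R := by
    intro g _ hgR
    have hgz : g * x * g⁻¹ = z := huniq hgR hzR
      ((orderOf_injective (MulAut.conj g).toMonoidHom (MulAut.conj g).injective x).trans hx) hz
    have hle : (S : Subgroup G) ≤ V.map (MulAut.conj g).toMonoidHom := by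
      intro s hs
      refine ⟨g⁻¹ * s * g, ?_, by simp [mul_assoc]⟩
      rw [hV, SetLike.mem_coe, mem_centralizer_singleton_iff]
      have hc := hzcomm s hs
      rw [← hgz] at hc
      have := congrArg (fun w => g⁻¹ * w * g) hc
      simpa [mul_assoc] using this
    have h := card_le_of_le hle
    rw [card_map_of_injective (MulAut.conj g).injective, hC4] at h
    omega
  obtain ⟨N, hNn, hN2, hxN⟩ := thompson_transfer S R hR2 hx hxS hno
  have hNmul : ∀ {u v : G}, (u * v ∈ N ↔ (u ∈ N ↔ v ∈ N)) := fun {u v} =>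
    Subgroup.mul_mem_iff_of_index_two hN2
  have hzN : z ∈ N := by
    rw [hzz0, hz0, show orderOf r / 2 = 2 * (orderOf r / 4) by omega, mul_comm, pow_mul]
    exact Subgroup.sq_mem_of_index_two hN2 _
  have hVR : ∀ v ∈ V, v ∈ R → v = 1 ∨ v = z := by
    intro v hv hvR
    by_cases h1 : v = 1
    · exact Or.inl h1
    · exact Or.inr (huniq hvR hzR (orderOf_eq_prime (hexp v hv) h1) hz)
  have hVN : ∀ v ∈ V, v ∈ N → v = 1 ∨ v = z := by
    intro v hv hvN
    by_cases hvR : v ∈ R
    · exact hVR v hv hvR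
    · exfalso
      rcases hVR (x * v) (mul_mem hxV hv) (hor hxS (hVS hv) hxR hvR) with h | h
      · rw [eq_inv_of_mul_eq_one_right h] at hvN
        exact hxN (by simpa using hvN)
      · exact hxN ((Subgroup.mul_mem_cancel_right N hvN).mp (h ▸ hzN))
  have hrV : r ∉ V := by
    intro h
    have h2 := Nat.le_of_dvd (by norm_num) (hro4.trans (orderOf_dvd_of_pow_eq_one (hexp r h)))
    omega
  -- `z` is not isolated
  by_cases hiso : ∀ g : G, g * z * g⁻¹ ∈ (S : Subgroup G) → g * z * g⁻¹ = z
  · have hsup := sup_oddCore_eq_top S z hz hzS hiso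
    set O := Cfsg.oddCore G with hO
    have hOn : O.Normal := Thompson.sSup_normal fun _ h => h.1
    have hOodd : ¬ 2 ∣ Nat.card O := Thompson.not_dvd_card_pPrimeCore
    have hOinv := inverts_of_fixed hxx O (fun a ha => hOn.conj_mem a ha x) (fun a ha h => by
      have haV : a ∈ V := mem_centralizer_singleton_iff.mpr (mul_inv_eq_iff_eq_mul.mp h).symm
      rcases (Nat.dvd_prime Nat.prime_two).mp (orderOf_dvd_of_pow_eq_one (hexp a haV)) with h1 | h1
      · exact orderOf_eq_one_iff.mp h1
      · exact absurd (h1 ▸ Subgroup.orderOf_dvd_natCard O ha) hOodd)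
    set w := x * (r * x * r⁻¹) with hw
    have hwR : w ∈ R := hor hxS (mul_mem (mul_mem hrS hxS) (inv_mem hrS)) hxR (fun h => hxR (by
      have := hRnorm r⁻¹ (inv_mem hrS) _ h
      simpa [mul_assoc] using this))
    have hw1 : w ≠ 1 := by
      intro h
      apply hrV
      rw [hV, mem_centralizer_singleton_iff]
      have h2 : r * x * r⁻¹ = x := by
        rw [eq_inv_of_mul_eq_one_right h, inv_eq_of_mul_eq_one_right hxx]
      exact mul_inv_eq_iff_eq_mul.mp h2
    have hwc : ∀ a ∈ O, Commute w a := by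
      intro a ha
      have h1 : r * x * r⁻¹ * a * (r * x * r⁻¹)⁻¹ = a⁻¹ := by
        have h3 := hOinv (r⁻¹ * a * r) (by simpa using hOn.conj_mem a ha r⁻¹)
        calc r * x * r⁻¹ * a * (r * x * r⁻¹)⁻¹
            = r * (x * (r⁻¹ * a * r) * x⁻¹) * r⁻¹ := by group
          _ = a⁻¹ := by rw [h3]; group
      have h2 : w * a * w⁻¹ = a := by
        calc w * a * w⁻¹ = x * (r * x * r⁻¹ * a * (r * x * r⁻¹)⁻¹) * x⁻¹ := by rw [hw]; group
          _ = a := by rw [h1, hOinv _ (inv_mem ha), inv_inv]
      exact mul_inv_eq_iff_eq_mul.mp h2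
    obtain ⟨ew, hew⟩ := (Nat.dvd_prime_pow Nat.prime_two).mp
      (hro ▸ orderOf_dvd_of_mem_zpowers hwR)
    have hwev : Even (orderOf w) := by
      rw [hew.2]
      refine (Nat.even_pow' ?_).mpr even_two
      rintro rfl
      exact hw1 (orderOf_eq_one_iff.mp (by simpa using hew.2))
    have hwz : w ^ (orderOf w / 2) = z := huniq (pow_mem hwR _) hzR
      (Involution.orderOf_pow_half hwev (orderOf_pos w).ne') hz
    have hOC : O ≤ centralizer ({z} : Set G) := fun a ha =>
      mem_centralizer_singleton_iff.mpr (by rw [← hwz]; exact ((hwc a ha).pow_left _).eq.symm)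
    rw [sup_eq_left.mpr hOC] at hsup
    have hcen : ∀ g : G, g * z = z * g := fun g =>
      mem_centralizer_singleton_iff.mp (hsup ▸ mem_top g)
    have hn : (zpowers z).Normal := ⟨fun a ha g => by
      obtain ⟨i, rfl⟩ := mem_zpowers_iff.mp ha
      rw [((show Commute g z from hcen g).zpow_right i).eq, mul_inv_cancel_right]
      exact zpow_mem_zpowers z i⟩
    refine (hne _ hn ⟨inferInstance, fun a ha => ?_⟩).1 (by rw [Nat.card_zpowers, hz])
    exact orderOf_dvd_iff_pow_eq_one.mp (hz ▸ orderOf_dvd_of_mem_zpowers ha)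
  push Not at hiso
  obtain ⟨g0, hyS, hyz⟩ := hiso
  set y := g0 * z * g0⁻¹ with hydef
  have hy : orderOf y = 2 :=
    (orderOf_injective (MulAut.conj g0).toMonoidHom (MulAut.conj g0).injective z).trans hz
  have hyy := Involution.mul_self_of_orderOf hy
  have hy1 : y ≠ 1 := Involution.ne_one_of_orderOf hy
  have hyR : y ∉ R := fun h => hyz (huniq h hzR hy hz)
  have hyN : y ∈ N := hNn.conj_mem z hzN g0
  have hxyR : x * y ∈ R := hor hxS hyS hxR hyR
  have hxyN : x * y ∉ N := fun h => hxN ((Subgroup.mul_mem_cancel_right N hyN).mp h)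
  have hrN : r ∉ N := fun h => hxyN ((zpowers_le.mpr h) hxyR)
  have hpowN : ∀ i : ℕ, r ^ i ∈ N ↔ Even i := by
    intro i
    induction i with
    | zero => simp
    | succ i ih => rw [pow_succ, hNmul, ih, Nat.even_add_one]; simp [hrN]
  have hmemR : ∀ {w : G}, w ∈ R → ∃ i : ℕ, r ^ i = w := fun {w} hw => by
    rw [hRdef, ← mem_powers_iff_mem_zpowers] at hw
    exact hw
  have hinvr : x * r * x⁻¹ = r⁻¹ := by
    obtain ⟨i, hi⟩ := hmemR hxyR
    have hiodd : Odd i := Nat.not_even_iff_odd.mp (fun h => hxyN (hi ▸ (hpowN i).mpr h))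
    obtain ⟨l, hl⟩ := exists_pow_eq_self_of_coprime (x := r) (n := i)
      (by rw [hro]; exact Nat.Coprime.pow_right e hiodd.coprime_two_right)
    rw [hi] at hl
    have h1 : x * (x * y) * x⁻¹ = (x * y)⁻¹ := Involution.inverts_mul hxx hyy
    rw [← hl, ← conj_pow, h1, inv_pow]
  have hxi : x⁻¹ = x := inv_eq_of_mul_eq_one_right hxx
  have hrx : ∀ j : ℕ, x * r ^ j = (r ^ j)⁻¹ * x := by
    intro j
    have h : (x * r * x⁻¹) ^ j = (r ^ j)⁻¹ := by rw [hinvr, inv_pow]
    rw [conj_pow, mul_inv_eq_iff_eq_mul] at h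
    exact h
  have hform : ∀ s ∈ (S : Subgroup G), s ∉ R → ∃ i : ℕ, s = x * r ^ i := by
    intro s hs hsR
    obtain ⟨i, hi⟩ := hmemR (hor hxS hs hxR hsR)
    exact ⟨i, by rw [hi, ← mul_assoc, hxx, one_mul]⟩
  have hshift : ∀ i j : ℕ, r ^ j * (x * r ^ (i + 2 * j)) * (r ^ j)⁻¹ = x * r ^ i := by
    intro i j
    calc r ^ j * (x * r ^ (i + 2 * j)) * (r ^ j)⁻¹
        = r ^ j * ((x * r ^ j) * r ^ i) := by rw [pow_add, two_mul, pow_add]; group
      _ = x * r ^ i := by rw [hrx j]; group
  have hreflect : ∀ s ∈ (S : Subgroup G), orderOf s = 2 → s ∉ N →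
      ∃ c ∈ (S : Subgroup G), c * s * c⁻¹ = x := by
    intro s hs hso hsN
    have hsR : s ∉ R := fun h => hsN (by rw [huniq h hzR hso hz]; exact hzN)
    obtain ⟨i, rfl⟩ := hform s hs hsR
    have hi : Even i := (hpowN i).mp (by
      by_contra h
      exact hsN (hNmul.mpr (iff_of_false hxN h)))
    obtain ⟨j, rfl⟩ := hi
    refine ⟨r ^ j, pow_mem hrS j, ?_⟩
    have := hshift 0 j
    rwa [zero_add, two_mul, pow_zero, mul_one] at this
  have hout : ∀ a : G, orderOf a = 2 → a ∉ N → IsConj x a := by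
    intro a ha haN
    obtain ⟨s, hs, has, hso⟩ := Involution.exists_isConj_mem_sylow S ha
    obtain ⟨g, hg⟩ := isConj_iff.mp has
    have hsN : s ∉ N := by
      intro h
      apply haN
      have := hNn.conj_mem s h g⁻¹
      rw [← hg] at this
      simpa [mul_assoc] using this
    obtain ⟨c, -, hc⟩ := hreflect s hs hso hsN
    exact ((isConj_iff.mpr ⟨g, hg⟩).trans (isConj_iff.mpr ⟨c, hc⟩)).symm
  -- the centralizer of `z`
  set C := centralizer ({z} : Set G) with hC
  have hSC : (S : Subgroup G) ≤ C := fun s hs => mem_centralizer_singleton_iff.mpr (hzcomm s hs)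
  let P : Sylow 2 C := S.subtype hSC
  have hP : ∀ c : C, c ∈ (P : Subgroup C) ↔ (c : G) ∈ (S : Subgroup G) := fun c => Iff.rfl
  let xC : C := ⟨x, hSC hxS⟩
  let yC : C := ⟨y, hSC hyS⟩
  let rC : C := ⟨r, hSC hrS⟩
  have hMrel : (R.subgroupOf C).relIndex (P : Subgroup C) = 2 := by
    rw [show (P : Subgroup C) = (S : Subgroup G).subgroupOf C from rfl, relIndex_subgroupOf hSC, hR2]
  obtain ⟨N2, hN2n, hN22, hyN2⟩ := thompson_transfer P (R.subgroupOf C) hMrel (u := yC)
    (by rw [Subgroup.orderOf_mk, hy]) hyS (by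
      intro c _ hcR
      have ho : orderOf (((c * yC * c⁻¹ : C)) : G) = 2 := by
        rw [Subgroup.orderOf_coe,
          show orderOf (c * yC * c⁻¹) = orderOf yC from
            orderOf_injective (MulAut.conj c).toMonoidHom (MulAut.conj c).injective yC,
          Subgroup.orderOf_mk, hy]
      have h1 : ((c * yC * c⁻¹ : C) : G) = z := huniq hcR hzR ho hz
      apply hyz
      simp only [Subgroup.coe_mul, Subgroup.coe_inv, yC] at h1
      have hcz : (c : G) * z = z * c := mem_centralizer_singleton_iff.mp c.2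
      calc y = (c : G)⁻¹ * ((c : G) * y * (c : G)⁻¹) * c := by group
        _ = z := by rw [h1, mul_assoc, ← hcz, inv_mul_cancel_left])
  let N' := N.subgroupOf C
  have hN'n : N'.Normal := hNn.subgroupOf C
  have hN'2 : N'.index = 2 := by
    rcases (Nat.dvd_prime Nat.prime_two).mp (hN2 ▸ relIndex_dvd_index_of_normal N C) with h | h
    · exact absurd ((relIndex_eq_one.mp h) (hSC hxS)) hxN
    · exact h
  let A : Subgroup C := N' ⊓ N2
  have hAn : A.Normal := inferInstanceAs (N' ⊓ N2).Normal
  have hA4 : A.index = 4 := by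
    have h1 : N2.relIndex N' = 2 := by
      rcases (Nat.dvd_prime Nat.prime_two).mp (hN22 ▸ relIndex_dvd_index_of_normal N2 N') with h | h
      · exact absurd ((relIndex_eq_one.mp h) (show yC ∈ N' from hyN)) hyN2
      · exact h
    show (N' ⊓ N2).index = 4
    rw [← relIndex_mul_index (inf_le_left : N' ⊓ N2 ≤ N'), inf_relIndex_left, h1, hN'2]
  have hAN : ∀ a ∈ A, (a : G) ∈ N := fun a ha => ha.1
  have hAS : ∀ a ∈ A, (a : G) ∈ (S : Subgroup G) → (a : G) ∈ R := by
    intro a ha haS
    by_contra haR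
    obtain ⟨i, hi⟩ := hform _ haS haR
    have hiodd : ¬ Even i := fun h => hxN (by
      have h2 := hAN a ha
      rw [hi, Subgroup.mul_mem_cancel_right N ((hpowN i).mpr h)] at h2
      exact h2)
    obtain ⟨i0, hi0⟩ := hform y hyS hyR
    have hi0odd : ¬ Even i0 := fun h => hxN (by
      have h2 := hyN
      rw [hi0, Subgroup.mul_mem_cancel_right N ((hpowN i0).mpr h)] at h2
      exact h2)
    obtain ⟨j, hj⟩ : ∃ j, i + 2 * j = i0 + orderOf r * (i + 1) := by
      obtain ⟨p, hp⟩ := Nat.not_even_iff_odd.mp hiodd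
      obtain ⟨q, hq⟩ := Nat.not_even_iff_odd.mp hi0odd
      obtain ⟨t, ht⟩ := hro4
      refine ⟨q + 2 * t * (i + 1) - p, ?_⟩
      have hle : p ≤ 2 * t * (i + 1) := by
        have := orderOf_pos r
        nlinarith
      rw [ht, show 4 * t * (i + 1) = 2 * (2 * t * (i + 1)) by ring]
      omega
    have h1 := hshift i j
    rw [hj, pow_add, pow_mul, pow_orderOf_eq_one, one_pow, mul_one, ← hi0, ← hi] at h1
    have h2 : rC ^ j * yC * (rC ^ j)⁻¹ = a := Subtype.ext (by simpa [rC, yC] using h1)
    have h3 := hN2n.conj_mem a ha.2 (rC ^ j)⁻¹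
    rw [← h2] at h3
    exact hyN2 (by simpa [mul_assoc] using h3)
  have hr2A : rC ^ 2 ∈ A :=
    ⟨by show ((rC ^ 2 : C) : G) ∈ N; exact (hpowN 2).mpr even_two, Subgroup.sq_mem_of_index_two hN22 _⟩
  have hzA : ⟨z, mem_centralizer_singleton_iff.mpr rfl⟩ ∈ A := by
    have : (⟨z, mem_centralizer_singleton_iff.mpr rfl⟩ : C) = (rC ^ 2) ^ (orderOf r / 4) :=
      Subtype.ext (by
        simp only [Subgroup.coe_pow, rC, ← pow_mul]
        rw [show 2 * (orderOf r / 4) = orderOf r / 2 by omega, ← hz0, hzz0])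
    rw [this]; exact pow_mem hr2A _
  -- `x` inverts `A`
  let Q0 : Subgroup A := zpowers ⟨rC ^ 2, hr2A⟩
  have hQ0 : IsPGroup 2 Q0 := by
    refine IsPGroup.of_card (n := e - 1) ?_
    rw [Nat.card_zpowers, Subgroup.orderOf_mk, orderOf_pow' _ two_ne_zero,
      show orderOf rC = 2 ^ e by rw [Subgroup.orderOf_mk, hro],
      Nat.gcd_eq_right (dvd_pow_self 2 (by omega)), Nat.pow_div (by omega : 1 ≤ e) two_pos |>.symm]
    simp
  obtain ⟨Q, hQ⟩ := hQ0.exists_le_sylow
  have hQR : ∀ q : A, q ∈ (Q : Subgroup A) → q ∈ Q0 := by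
    -- `Q` is conjugate into `S ∩ A`, a cyclic group
    obtain ⟨P', hP'⟩ := (Q.2.map A.subtype).exists_le_sylow
    obtain ⟨c, hc⟩ := MulAction.exists_smul_eq C P' P
    have hcard : Nat.card (Q : Subgroup A) ≤ Nat.card Q0 := by
      let f : ↥(Q : Subgroup A) → Q0 := fun (q : (Q : Subgroup A)) => ⟨⟨c * (q.1 : C) * c⁻¹, hAn.conj_mem _ q.1.2 c⟩, by
        have h1 : c * (q.1 : C) * c⁻¹ ∈ (P : Subgroup C) := by
          rw [← hc]; exact Involution.conj_mem_sylow_smul c (hP' (mem_map_of_mem A.subtype q.2))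
        have h2 := hAS _ (hAn.conj_mem _ q.1.2 c) h1
        obtain ⟨i, hi⟩ := hmemR h2
        obtain ⟨j, hj⟩ : Even i := (hpowN i).mp (hi ▸ hAN _ (hAn.conj_mem _ q.1.2 c))
        refine mem_zpowers_iff.mpr ⟨j, Subtype.ext (Subtype.ext ?_)⟩
        rw [zpow_natCast]
        simp only [Subgroup.coe_pow, rC, ← pow_mul]
        rw [show 2 * j = i by omega]; exact hi⟩
      refine Nat.card_le_card_of_injective f fun p q h => ?_
      have h' := congrArg (fun w : Q0 => ((w : A) : C)) h
      simp only [f] at h'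
      exact Subtype.ext (Subtype.ext (mul_left_cancel (mul_right_cancel h')))
    intro q hq
    rw [Subgroup.eq_of_le_of_card_ge hQ hcard]; exact hq
  have hAeven : 2 ∣ Nat.card A := by
    have h := Subgroup.orderOf_dvd_natCard A hzA
    rwa [Subgroup.orderOf_mk, hz] at h
  have hQcyc : IsCyclic (Q : Subgroup A) :=
    Subgroup.isCyclic_of_le (show (Q : Subgroup A) ≤ zpowers ⟨rC ^ 2, hr2A⟩ from hQR)
  have hmin : (Nat.card A).minFac = 2 := (Nat.minFac_eq_two_iff _).mpr hAeven
  have hcomp := hQcyc.isComplement' hmin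
  set K := (MonoidHom.transferSylow Q (hQcyc.normalizer_le_centralizer hmin)).ker with hKdef
  obtain ⟨eK, heK⟩ : ∃ eK : ℕ, K.index = 2 ^ eK := by
    rw [hcomp.symm.index_eq_card]; exact IsPGroup.iff_card.mp Q.2
  have hKodd : ¬ 2 ∣ Nat.card K := MonoidHom.not_dvd_card_ker_transferSylow Q _
  have hKiff : ∀ a : A, a ∈ K ↔ ¬ 2 ∣ orderOf a := by
    intro a
    refine ⟨fun h h2 => hKodd (h2.trans (Subgroup.orderOf_dvd_natCard K h)), fun h => ?_⟩
    exact BlocksDefect.mem_of_not_dvd_orderOf heK h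
  let O : Subgroup C := K.map A.subtype
  have hOn : O.Normal := ⟨by
    rintro _ ⟨a, ha, rfl⟩ c
    refine ⟨⟨c * (a : C) * c⁻¹, hAn.conj_mem _ a.2 c⟩, ?_, rfl⟩
    rw [SetLike.mem_coe, hKiff, Subgroup.orderOf_mk]
    rw [show orderOf (c * (a : C) * c⁻¹) = orderOf (a : C) from
      orderOf_injective (MulAut.conj c).toMonoidHom (MulAut.conj c).injective _, Subgroup.orderOf_coe]
    exact (hKiff a).mp ha⟩
  have hxxC : xC * xC = 1 := Subtype.ext hxx
  have hOinv := inverts_of_fixed hxxC O (fun a ha => hOn.conj_mem a ha xC) (by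
    rintro _ ⟨a, ha, rfl⟩ h
    have h' := congrArg Subtype.val h
    simp only [Subgroup.coe_subtype, Subgroup.coe_mul, Subgroup.coe_inv, xC] at h'
    have haV : (((a : C)) : G) ∈ V :=
      mem_centralizer_singleton_iff.mpr (mul_inv_eq_iff_eq_mul.mp h').symm
    have h2 : orderOf a ∣ 2 := by
      rw [← Subgroup.orderOf_coe a, ← Subgroup.orderOf_coe (a : C)]
      exact orderOf_dvd_of_pow_eq_one (hexp _ haV)
    rcases (Nat.dvd_prime Nat.prime_two).mp h2 with h1 | h1
    · rw [orderOf_eq_one_iff.mp h1]; rfl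
    · exact absurd (h1 ▸ dvd_rfl) ((hKiff a).mp ha))
  have hr2O : ∀ a ∈ O, Commute (rC ^ 2) a := by
    intro a ha
    have h1 : ∀ b ∈ O, rC * xC * rC⁻¹ * b * (rC * xC * rC⁻¹)⁻¹ = b⁻¹ := by
      intro b hb
      calc rC * xC * rC⁻¹ * b * (rC * xC * rC⁻¹)⁻¹
          = rC * (xC * (rC⁻¹ * b * rC) * xC⁻¹) * rC⁻¹ := by group
        _ = b⁻¹ := by rw [hOinv _ (by simpa using hOn.conj_mem b hb rC⁻¹)]; group
    have hprod : (rC * xC * rC⁻¹) * xC = rC ^ 2 := Subtype.ext (by
      simp only [Subgroup.coe_mul, Subgroup.coe_inv, Subgroup.coe_pow, xC, rC]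
      have h2 := hrx 1
      rw [pow_one] at h2
      calc r * x * r⁻¹ * x = r * (x * r⁻¹ * x⁻¹) := by rw [hxi]; group
        _ = r * (x * r * x⁻¹)⁻¹ := by group
        _ = r ^ 2 := by rw [hinvr, inv_inv, pow_two])
    have h3 : rC ^ 2 * a * (rC ^ 2)⁻¹ = a := by
      rw [← hprod]
      calc rC * xC * rC⁻¹ * xC * a * (rC * xC * rC⁻¹ * xC)⁻¹
          = rC * xC * rC⁻¹ * (xC * a * xC⁻¹) * (rC * xC * rC⁻¹)⁻¹ := by group
        _ = a := by rw [hOinv a ha, h1 _ (inv_mem ha), inv_inv]
    exact mul_inv_eq_iff_eq_mul.mp h3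
  have hAinv : ∀ a ∈ A, xC * a * xC⁻¹ = a⁻¹ := by
    intro a ha
    obtain ⟨⟨⟨o, ho⟩, ⟨q, hq⟩⟩, hoq⟩ := hcomp.2 ⟨a, ha⟩
    obtain ⟨i, hi⟩ := mem_zpowers_iff.mp (hQR q hq)
    have hq' : (q : C) = (rC ^ 2) ^ i := by rw [← hi]; rfl
    have hoO : (o : C) ∈ O := mem_map_of_mem A.subtype ho
    have hxq : xC * (q : C) * xC⁻¹ = ((q : C))⁻¹ := by
      rw [hq', ← conj_zpow, ← inv_zpow, ← conj_pow,
        show xC * rC * xC⁻¹ = rC⁻¹ from Subtype.ext hinvr, inv_pow]
    have hcm : Commute (q : C) (o : C) := by rw [hq']; exact (hr2O _ hoO).zpow_left i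
    have hao : a = (o : C) * (q : C) := (congrArg Subtype.val hoq).symm
    rw [hao]
    calc xC * ((o : C) * (q : C)) * xC⁻¹ = (xC * o * xC⁻¹) * (xC * q * xC⁻¹) := by group
      _ = ((o : C) * q)⁻¹ := by
        rw [hOinv _ hoO, hxq, mul_inv_rev, hcm.inv_inv.eq]
  have hz1A : ∀ a ∈ A, orderOf a = 2 → (a : G) = z := by
    intro a ha hao
    have h := hAinv a ha
    rw [Involution.inv_of_orderOf hao] at h
    have h' := congrArg Subtype.val h
    simp only [Subgroup.coe_mul, Subgroup.coe_inv, xC] at h'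
    refine (hVN _ (mem_centralizer_singleton_iff.mpr (mul_inv_eq_iff_eq_mul.mp h').symm)
      (hAN a ha)).resolve_left fun h1 => ?_
    rw [show a = 1 from Subtype.ext h1, orderOf_one] at hao
    omega
  have hconjC : ∀ c : C, IsConj x (c : G) → IsConj xC c := by
    intro c hc
    have hco : orderOf c = 2 := by
      obtain ⟨g, hg⟩ := isConj_iff.mp hc
      rw [← Subgroup.orderOf_coe, ← hg, ← hx]
      exact orderOf_injective (MulAut.conj g).toMonoidHom (MulAut.conj g).injective x
    have hcN : c ∉ N' := by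
      intro h
      obtain ⟨g, hg⟩ := isConj_iff.mp hc
      apply hxN
      have h3 := hNn.conj_mem (c : G) h g⁻¹
      rw [← hg] at h3
      simpa [mul_assoc] using h3
    obtain ⟨s, hs, hcs, hso⟩ := Involution.exists_isConj_mem_sylow P hco
    obtain ⟨g, hg⟩ := isConj_iff.mp hcs
    have hsN : (s : G) ∉ N := by
      intro h
      apply hcN
      have h3 := hN'n.conj_mem s h g⁻¹
      rw [← hg] at h3
      simpa [mul_assoc] using h3
    obtain ⟨t, ht, hts⟩ := hreflect (s : G) hs (by rw [Subgroup.orderOf_coe, hso]) hsN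
    exact ((isConj_iff.mpr ⟨g, hg⟩).trans (isConj_iff.mpr ⟨⟨t, hSC ht⟩, Subtype.ext hts⟩)).symm
  have hinvA : ∀ c : C, IsConj x (c : G) → ∀ a ∈ A, c * a * c⁻¹ = a⁻¹ := by
    intro c hc a ha
    obtain ⟨g, rfl⟩ := isConj_iff.mp (hconjC c hc)
    calc g * xC * g⁻¹ * a * (g * xC * g⁻¹)⁻¹ = g * (xC * (g⁻¹ * a * g) * xC⁻¹) * g⁻¹ := by group
      _ = a⁻¹ := by rw [hAinv _ (by simpa using hAn.conj_mem a ha g⁻¹)]; group
  have hT : Nat.card {c : C // IsConj x (c : G)} * 4 = Nat.card C := by
    rw [← card_isConj_mul_card_centralizer xC]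
    congr 1
    · exact Nat.card_congr (Equiv.subtypeEquivRight fun c =>
        ⟨hconjC c, fun h => C.subtype.map_isConj h⟩)
    · rw [show centralizer ({xC} : Set C) = V.subgroupOf C by
          ext d
          simp only [hV, mem_centralizer_singleton_iff, mem_subgroupOf, xC]
          exact Subtype.ext_iff,
        Nat.card_congr (subgroupOfEquivOfLe (hVS.trans hSC)).toEquiv, hC4]
  have hCodd : Odd C.index := by
    rw [← Nat.not_even_iff_odd, even_iff_two_dvd]
    exact fun h => S.not_dvd_index (h.trans (index_dvd_of_le hSC))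
  rcases index_mem_one_three hx hC4 N hN2 hxN hz hout hC (mem_centralizer_singleton_iff.mpr rfl) A hA4 hAN hzA hz1A hinvA hT hCodd with h | h
  · rw [index_eq_one] at h
    apply hyz
    have hgz : g0 * z = z * g0 := mem_centralizer_singleton_iff.mp (show g0 ∈ C from h.symm ▸ mem_top g0)
    rw [hydef, hgz, mul_inv_cancel_right]
  · -- three conjugates of `z`
    obtain ⟨i0, hi0⟩ := hform y hyS hyR
    have hyzc : IsConj z (y * z) := by
      refine (isConj_iff.mpr ⟨g0, rfl⟩ : IsConj z y).trans (isConj_iff.mpr ⟨r ^ (orderOf r / 4), ?_⟩)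
      have h1 := hshift (i0 + orderOf r / 2) (orderOf r / 4)
      rw [show i0 + orderOf r / 2 + 2 * (orderOf r / 4) = i0 + orderOf r by omega, pow_add,
        pow_orderOf_eq_one, mul_one, pow_add, ← hz0, ← hzz0, ← mul_assoc x (r ^ i0) z, ← hi0] at h1
      exact h1
    have hzy : Commute z y := (hzcomm y hyS).symm
    have hyz1 : y * z ≠ 1 := fun h1 => hyz (by
      rw [eq_inv_of_mul_eq_one_left h1, inv_eq_of_mul_eq_one_right hzz])
    let E : Subgroup G :=
      { carrier := {1, z, y, y * z}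
        one_mem' := by simp
        mul_mem' := by
          have h1 : z * y = y * z := hzy.eq
          have h2 : z * (y * z) = y := by rw [← mul_assoc, h1, mul_assoc, hzz, mul_one]
          have h3 : y * (y * z) = z := by rw [← mul_assoc, hyy, one_mul]
          have h4 : y * z * z = y := by rw [mul_assoc, hzz, mul_one]
          have h5 : y * z * y = z := by rw [mul_assoc, h1, h3]
          have h6 : y * z * (y * z) = 1 := by rw [mul_assoc, h2, hyy]
          intro a b ha hb
          simp only [Set.mem_insert_iff, Set.mem_singleton_iff] at ha hb ⊢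
          rcases ha with rfl | rfl | rfl | rfl <;> rcases hb with rfl | rfl | rfl | rfl <;>
            simp [hzz, hyy, h1, h2, h3, h4, h5, h6]
        inv_mem' := by
          intro a ha
          simp only [Set.mem_insert_iff, Set.mem_singleton_iff] at ha ⊢
          rcases ha with rfl | rfl | rfl | rfl
          · simp
          · simp [inv_eq_of_mul_eq_one_right hzz]
          · simp [inv_eq_of_mul_eq_one_right hyy]
          · simp [inv_eq_of_mul_eq_one_right hzz, inv_eq_of_mul_eq_one_right hyy, hzy.eq] }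
    have hmemE : ∀ a, a ∈ E ↔ a = 1 ∨ a = z ∨ a = y ∨ a = y * z := fun a => Iff.rfl
    have h3c : Nat.card {a : G // IsConj z a} = 3 := by rw [card_isConj_eq, h]
    have : Fintype G := Fintype.ofFinite G
    have hclass : ∀ a : G, IsConj z a → a = z ∨ a = y ∨ a = y * z := by
      intro a ha
      have hsub : ({z, y, y * z} : Finset G) = Finset.univ.filter (fun b => IsConj z b) := by
        refine Finset.eq_of_subset_of_card_le ?_ ?_
        · intro b hb
          simp only [Finset.mem_insert, Finset.mem_singleton] at hb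
          simp only [Finset.mem_filter, Finset.mem_univ, true_and]
          rcases hb with rfl | rfl | rfl
          · exact IsConj.refl _
          · exact isConj_iff.mpr ⟨g0, rfl⟩
          · exact hyzc
        · rw [← Fintype.card_subtype, ← Nat.card_eq_fintype_card, h3c,
            Finset.card_insert_of_notMem, Finset.card_pair]
          · exact fun he => hz1 (left_eq_mul.mp he)
          · simp only [Finset.mem_insert, Finset.mem_singleton, not_or]
            exact ⟨hyz.symm, fun he => hy1 (right_eq_mul.mp he)⟩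
      have hain : a ∈ Finset.univ.filter (fun b => IsConj z b) := Finset.mem_filter.mpr ⟨Finset.mem_univ a, ha⟩
      rw [← hsub] at hain
      simpa using hain
    have hEn : E.Normal := ⟨fun a ha g => by
      rcases (hmemE a).mp ha with rfl | h1
      · simp [one_mem]
      · refine (hmemE _).mpr (Or.inr (hclass _ ?_))
        have hza : IsConj z a := by
          rcases h1 with rfl | rfl | rfl
          · exact IsConj.refl _
          · exact isConj_iff.mpr ⟨g0, rfl⟩
          · exact hyzc
        exact hza.trans (isConj_iff.mpr ⟨g, rfl⟩)⟩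
    have hEsq : ∀ a ∈ E, a ^ 2 = 1 := by
      intro a ha
      rw [pow_two]
      rcases (hmemE a).mp ha with rfl | rfl | rfl | rfl
      · simp
      · exact hzz
      · exact hyy
      · rw [← pow_two, hzy.symm.mul_pow, pow_two, pow_two, hyy, hzz, one_mul]
    have hEe : Cfsg.IsElementaryAbelian 2 E := by
      refine ⟨⟨⟨fun a b => Subtype.ext ?_⟩⟩, hEsq⟩
      have h1 : ((a * b : E) : G) * (a * b : E) = 1 := by rw [← pow_two]; exact hEsq _ (a * b).2
      have h2 : (a : G) * a = 1 := by rw [← pow_two]; exact hEsq _ a.2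
      have h3 : (b : G) * b = 1 := by rw [← pow_two]; exact hEsq _ b.2
      simp only [Subgroup.coe_mul] at h1 ⊢
      calc (a : G) * b = ((a : G) * b)⁻¹ := eq_inv_of_mul_eq_one_right h1
        _ = b * a := by rw [mul_inv_rev, inv_eq_of_mul_eq_one_right h2, inv_eq_of_mul_eq_one_right h3]
    refine (hne E hEn hEe).2 ?_
    show Nat.card ({1, z, y, y * z} : Set G) = 4
    rw [Nat.card_coe_set_eq, Set.ncard_insert_of_notMem, Set.ncard_insert_of_notMem, Set.ncard_pair]
    · exact fun he => hz1 (left_eq_mul.mp he)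
    · simp only [Set.mem_insert_iff, Set.mem_singleton_iff, not_or]
      exact ⟨hyz.symm, fun he => hy1 (right_eq_mul.mp he)⟩
    · simp only [Set.mem_insert_iff, Set.mem_singleton_iff, not_or]
      exact ⟨hz1.symm, hy1.symm, hyz1.symm⟩

include hx hC4 hexp hne in
/-- A group with a four group as involution centralizer. -/
theorem equiv_alternating (hnc : ¬ Cfsg.HasNormalPComplement 2 G) :
    Nonempty (G ≃* alternatingGroup (Fin 5)) := by
  classical
  have : Fact (Nat.Prime 2) := ⟨Nat.prime_two⟩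
  set V := centralizer ({x} : Set G) with hV
  have hV2 : IsPGroup 2 V := IsPGroup.of_card (n := 2) (by rw [hC4]; norm_num)
  obtain ⟨S, hS⟩ := hV2.exists_le_sylow
  have hS4 := card_sylow hx hC4 hexp hne hnc S hS
  have hSV : (S : Subgroup G) = V := (Subgroup.eq_of_le_of_card_ge hS (by rw [hC4]; exact hS4)).symm
  have hk : IsKleinFour (S : Subgroup G) := by
    rw [hSV]
    refine ⟨hC4, ?_⟩
    apply Nat.dvd_antisymm
    · exact Monoid.exponent_dvd_iff_forall_pow_eq_one.mpr fun d => Subtype.ext (hexp d d.2)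
    · have h1 : orderOf (⟨x, mem_centralizer_singleton_iff.mpr rfl⟩ : V) = 2 := by
        rw [Subgroup.orderOf_mk, hx]
      exact h1 ▸ Monoid.order_dvd_exponent _
  rcases Involution.klein_sylow_dichotomy S hk with h | h
  · exact absurd ⟨S, _, inferInstance, MonoidHom.ker_transferSylow_isComplement' S h⟩ hnc
  have hconj : ∀ u : G, orderOf u = 2 → IsConj x u := fun u hu => h x u hx hu
  rcases V4.card_eq hx hC4 hexp hconj with h12 | h60
  · exfalso
    have := Fintype.ofFinite G
    have h3 : Nat.card {u : G // IsConj x u} = 3 := by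
      have h2 := card_isConj_mul_card_centralizer x
      rw [hC4, h12] at h2
      omega
    have hall : ∀ u : G, orderOf u = 2 → u ∈ V := by
      intro u hu
      have hsub : (Finset.univ.filter (fun b => b ∈ V ∧ b ≠ 1)) =
          Finset.univ.filter (fun b => IsConj x b) := by
        refine Finset.eq_of_subset_of_card_le (fun b hb => ?_) ?_
        · simp only [Finset.mem_filter, Finset.mem_univ, true_and] at hb ⊢
          exact hconj b (orderOf_eq_prime (hexp b hb.1) hb.2)
        · rw [← Fintype.card_subtype, ← Nat.card_eq_fintype_card, h3,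
            show (Finset.univ.filter (fun b : G => b ∈ V ∧ b ≠ 1)) =
              (Finset.univ.filter (fun b : G => b ∈ V)).erase 1 by ext b; simp [and_comm],
            Finset.card_erase_of_mem (by simp [one_mem]), ← Fintype.card_subtype,
            ← Nat.card_eq_fintype_card, hC4]
      have hu' : u ∈ Finset.univ.filter (fun b => IsConj x b) := Finset.mem_filter.mpr ⟨Finset.mem_univ u, hconj u hu⟩
      rw [← hsub] at hu'
      exact (Finset.mem_filter.mp hu').2.1
    have hVn : V.Normal := ⟨fun a ha g => by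
      by_cases h1 : a = 1
      · simp [h1, one_mem]
      · exact hall _ ((orderOf_injective (MulAut.conj g).toMonoidHom (MulAut.conj g).injective a).trans
          (orderOf_eq_prime (hexp a ha) h1))⟩
    refine (hne V hVn ⟨⟨⟨fun a b => ?_⟩⟩, hexp⟩).2 hC4
    have := hk
    rw [hSV] at this
    exact (IsKleinFour.isMulCommutative (G := V)).is_comm.comm a b
  · have := V4.isSimpleGroup hx hC4 hexp hconj h60
    exact S0494.result h60

end Cfsg.Agent.InvChar68.FourCent
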