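import Cfsg.Agent.InvChar68.V4Centralizer
import Cfsg.Agent.InvChar68.MaximalClass
import Cfsg.Agent.InvChar68.IndexTwoTransfer
import Cfsg.Agent.Lib.BlocksDefect.PrincipalSection
import Cfsg.Agent.Lib.CharCore.Linear
import Cfsg.Agent.S0939
import Cfsg.Agent.S0942
import Cfsg.Agent.S0947
import Cfsg.Agent.BC86.Modular
import Cfsg.Agent.Lib.Involution.KleinSylow
import Cfsg.Agent.Lib.Thompson.Cores
import Mathlib.GroupTheory.Transfer

/-!
# A simple group with an involution centralizer having a normal four Sylow 2-subgroup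

By the principal block: if `C(u) = V × D` for a four group `V` then `G` has order 60.
-/

set_option autoImplicit false

namespace Cfsg.Agent.InvChar68.Klein

open Subgroup
open scoped ComplexConjugate

set_option maxRecDepth 100000 in
/-- Finite search, two negative degrees. -/
theorem search_neg : ∀ (m : Fin 24) (b : Fin 18) (a : Fin 80), 9 ≤ (m : ℕ) → 3 ≤ (b : ℕ) →
    (b : ℕ) ≤ a → Odd (m : ℕ) →
    ((a : ℕ) : ℤ) * (((a : ℕ) : ℤ) + ((b : ℕ) : ℤ) - 1) *
      ((((m : ℕ) : ℤ) - 8) * ((b : ℕ) : ℤ) - ((m : ℕ) : ℤ)) =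
      ((m : ℕ) : ℤ) * (((b : ℕ) : ℤ) * (((b : ℕ) : ℤ) - 1)) → (m : ℕ) = 15 ∧ (a : ℕ) = 3 := by
  decide +kernel

set_option maxRecDepth 100000 in
/-- Finite search, one negative degree. -/
theorem search_pos : ∀ (m : Fin 8) (b : Fin 14) (c : Fin 36), 3 ≤ (b : ℕ) →
    (b : ℕ) ≤ c → Odd (m : ℕ) →
    ((c : ℕ) : ℤ) * (((b : ℕ) : ℤ) + ((c : ℕ) : ℤ) + 1) *
      ((8 - ((m : ℕ) : ℤ)) * ((b : ℕ) : ℤ) - ((m : ℕ) : ℤ)) =
      ((m : ℕ) : ℤ) * (((b : ℕ) : ℤ) * (((b : ℕ) : ℤ) + 1)) → False := by
  decide +kernel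

/-- The structure constant equation, solved. -/
theorem solve_sorted {m : ℕ} (hm : Odd m) {D E F : ℤ} (hD : Odd D) (hE : Odd E) (hF : Odd F)
    (hDE : D ≤ E) (hEF : E ≤ F) (hsum : 1 + D + E + F = 0)
    (hstr : (m : ℤ) * (D * E * F + E * F + D * F + D * E) = 8 * (D * E * F)) :
    m = 3 ∨ (m = 15 ∧ D = -3) := by
  have hm0 : (0 : ℤ) < m := by obtain ⟨j, hj⟩ := hm; omega
  have hD' := Int.odd_iff.mp hD
  have hE' := Int.odd_iff.mp hE
  have hF' := Int.odd_iff.mp hF
  have hm' : (m : ℤ) % 2 = 1 := by obtain ⟨j, hj⟩ := hm; omega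
  have hFpos : 0 < F := by omega
  have hDneg : D < 0 := by omega
  have hD0 : D ≠ 0 := by omega
  rcases lt_trichotomy E 0 with hEn | hE00 | hEp
  · rcases (show E = -1 ∨ E ≤ -3 by omega) with rfl | hE3
    · exfalso
      obtain rfl : F = -D := by omega
      have : 8 * (D * -1 * -D) = 0 := by rw [← hstr]; ring
      simp [hD0] at this
    · obtain ⟨a, rfl⟩ : ∃ a : ℤ, D = -a := ⟨-D, (neg_neg D).symm⟩
      obtain ⟨b, rfl⟩ : ∃ b : ℤ, E = -b := ⟨-E, (neg_neg E).symm⟩
      obtain rfl : F = a + b - 1 := by omega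
      have hb : 3 ≤ b := by omega
      have ha : b ≤ a := by omega
      set F := a + b - 1 with hF0
      have hFa : a + 2 ≤ F := by omega
      have heq : (m : ℤ) * (F * (a + b) - a * b) = ((m : ℤ) - 8) * (a * b * F) := by
        linear_combination -hstr
      have hq : 0 < F * (a + b) - a * b := by nlinarith
      have haF : 0 < a * F := mul_pos (by omega) (by omega)
      have hP : 0 < a * b * F := mul_pos (mul_pos (by omega) (by omega)) (by omega)
      have hm9 : 9 ≤ (m : ℤ) := by
        have h1 : 0 < ((m : ℤ) - 8) * (a * b * F) := heq ▸ mul_pos hm0 hq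
        have := (mul_pos_iff_of_pos_right hP).mp h1
        omega
      have hm23 : (m : ℤ) ≤ 23 := by
        have h1 : 3 * (F * (a + b) - a * b) < 2 * (a * b * F) := by
          nlinarith [mul_nonneg (show (0:ℤ) ≤ F * a by exact mul_nonneg (by omega) (by omega)) (show (0:ℤ) ≤ b - 3 by omega),
            mul_nonneg (show (0:ℤ) ≤ F * b by exact mul_nonneg (by omega) (by omega)) (show (0:ℤ) ≤ a - 3 by omega)]
        have h2 : ((m : ℤ) - 8) * 3 * (a * b * F) < 2 * (m : ℤ) * (a * b * F) := by nlinarith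
        have := lt_of_mul_lt_mul_right h2 hP.le
        omega
      have hb17 : b ≤ 17 := by
        have h2 : (((m : ℤ) - 8) * b) * (a * F) < (2 * (m : ℤ)) * (a * F) := by
          nlinarith [mul_nonneg (show (0:ℤ) ≤ (m : ℤ) * F by exact mul_nonneg hm0.le (by omega)) (show (0:ℤ) ≤ a - b by omega),
            mul_pos hm0 (show (0:ℤ) < a * b by exact mul_pos (by omega) (by omega))]
        have h3 := lt_of_mul_lt_mul_right h2 haF.le
        nlinarith
      have hkey : a * F * (((m : ℤ) - 8) * b - m) = (m : ℤ) * (b * (b - 1)) := by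
        rw [hF0] at heq ⊢; linear_combination -heq
      have ha79 : a ≤ 79 := by
        have hk : 0 < ((m : ℤ) - 8) * b - m := by
          have h1 : 0 < a * F * (((m : ℤ) - 8) * b - m) := by
            rw [hkey]; exact mul_pos hm0 (mul_pos (by omega) (by omega))
          exact (mul_pos_iff_of_pos_left haF).mp h1
        have h1 : a * F ≤ a * F * (((m : ℤ) - 8) * b - m) :=
          le_mul_of_one_le_right haF.le hk
        nlinarith [mul_le_mul hm23 (mul_le_mul hb17 (show b - 1 ≤ 16 by omega) (by omega) (by norm_num))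
          (mul_nonneg (by omega) (by omega)) (by norm_num), mul_le_mul_of_nonneg_left hFa (show (0:ℤ) ≤ a by omega)]
      obtain ⟨a', rfl⟩ : ∃ a' : ℕ, (a' : ℤ) = a := ⟨a.toNat, by omega⟩
      obtain ⟨b', rfl⟩ : ∃ b' : ℕ, (b' : ℤ) = b := ⟨b.toNat, by omega⟩
      have hcheck := search_neg ⟨m, by omega⟩ ⟨b', by omega⟩ ⟨a', by omega⟩ (by simpa using hm9)
        (by simpa using hb) (by simpa using ha) hm (by
          have h : (m : ℤ) % 2 = 1 := hm'
          exact hkey)
      right
      have h15 := hcheck.1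
      have h3 := hcheck.2
      simp only at h15 h3
      exact ⟨h15, by omega⟩
  · omega
  · rcases (show E = 1 ∨ 3 ≤ E by omega) with rfl | hE3
    · obtain rfl : F = -2 - D := by omega
      have hkey : (m : ℤ) * (D + 1) ^ 2 = 4 * ((D + 1) ^ 2 - 1) := by
        have h2 : 2 * ((m : ℤ) * (D + 1) ^ 2) = 2 * (4 * ((D + 1) ^ 2 - 1)) := by
          linear_combination -hstr
        linarith
      have hs : (D + 1) ^ 2 ∣ 4 := ⟨4 - m, by linear_combination hkey⟩
      have hle : (D + 1) ^ 2 ≤ 4 := Int.le_of_dvd (by norm_num) hs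
      have hDb : -3 ≤ D := by nlinarith
      interval_cases D <;> first | omega | (ring_nf at hkey; omega)
    · exfalso
      obtain ⟨a, rfl⟩ : ∃ a : ℤ, D = -a := ⟨-D, (neg_neg D).symm⟩
      obtain rfl : a = E + F + 1 := by omega
      set a := E + F + 1 with ha0
      have heq : (m : ℤ) * (a * F + a * E - E * F) = (8 - (m : ℤ)) * (a * E * F) := by
        linear_combination -hstr
      have haF : 0 < a * F := mul_pos (by omega) (by omega)
      have hP : 0 < a * E * F := mul_pos (mul_pos (by omega) (by omega)) (by omega)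
      have hq : 0 < a * F + a * E - E * F := by nlinarith
      have hm7 : (m : ℤ) ≤ 7 := by
        have h1 : 0 < (8 - (m : ℤ)) * (a * E * F) := heq ▸ mul_pos hm0 hq
        have := (mul_pos_iff_of_pos_right hP).mp h1
        omega
      have hb13 : E ≤ 13 := by
        have h2 : ((8 - (m : ℤ)) * E) * (a * F) < (2 * (m : ℤ)) * (a * F) := by
          nlinarith [mul_nonneg (show (0:ℤ) ≤ (m : ℤ) * a by exact mul_nonneg hm0.le (by omega)) (show (0:ℤ) ≤ F - E by omega),
            mul_pos hm0 (show (0:ℤ) < E * F by exact mul_pos (by omega) (by omega))]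
        have h3 := lt_of_mul_lt_mul_right h2 haF.le
        nlinarith
      have hkey : F * a * ((8 - (m : ℤ)) * E - m) = (m : ℤ) * (E * (E + 1)) := by
        rw [ha0] at heq ⊢; linear_combination -heq
      have hc35 : F ≤ 35 := by
        have hk : 0 < (8 - (m : ℤ)) * E - m := by
          have h1 : 0 < F * a * ((8 - (m : ℤ)) * E - m) := by
            rw [hkey]; exact mul_pos hm0 (mul_pos (by omega) (by omega))
          exact (mul_pos_iff_of_pos_left (by nlinarith)).mp h1
        have h1 : F * a ≤ F * a * ((8 - (m : ℤ)) * E - m) :=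
          le_mul_of_one_le_right (by nlinarith) hk
        nlinarith [mul_le_mul hm7 (mul_le_mul hb13 (show E + 1 ≤ 14 by omega) (by omega) (by norm_num))
          (mul_nonneg (by omega) (by omega)) (by norm_num), mul_le_mul_of_nonneg_left (show F + 4 ≤ a by omega) (show (0:ℤ) ≤ F by omega)]
      obtain ⟨b', rfl⟩ : ∃ b' : ℕ, (b' : ℤ) = E := ⟨E.toNat, by omega⟩
      obtain ⟨c', rfl⟩ : ∃ c' : ℕ, (c' : ℤ) = F := ⟨F.toNat, by omega⟩
      exact search_pos ⟨m, by omega⟩ ⟨b', by omega⟩ ⟨c', by omega⟩ (by simpa using hE3)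
        (by simpa using hEF) hm hkey

theorem solve {m : ℕ} (hm : Odd m) {D E F : ℤ} (hD : Odd D) (hE : Odd E) (hF : Odd F)
    (hsum : 1 + D + E + F = 0)
    (hstr : (m : ℤ) * (D * E * F + E * F + D * F + D * E) = 8 * (D * E * F)) :
    m = 3 ∨ (m = 15 ∧ (D = -3 ∨ E = -3 ∨ F = -3)) := by
  have key : ∀ {A B C : ℤ}, (A = D ∨ A = E ∨ A = F) → Odd A → Odd B → Odd C → A ≤ B → B ≤ C →
      1 + A + B + C = 0 → (m : ℤ) * (A * B * C + B * C + A * C + A * B) = 8 * (A * B * C) →
      m = 3 ∨ (m = 15 ∧ (D = -3 ∨ E = -3 ∨ F = -3)) := by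
    intro A B C hA hAo hBo hCo hAB hBC hs he
    rcases solve_sorted hm hAo hBo hCo hAB hBC hs he with h | ⟨h, hA3⟩
    · exact Or.inl h
    · refine Or.inr ⟨h, ?_⟩
      rcases hA with rfl | rfl | rfl
      · exact Or.inl hA3
      · exact Or.inr (Or.inl hA3)
      · exact Or.inr (Or.inr hA3)
  rcases le_total D E with h1 | h1 <;> rcases le_total E F with h2 | h2 <;>
    rcases le_total D F with h3 | h3
  · exact key (Or.inl rfl) hD hE hF h1 h2 hsum hstr
  · exact key (Or.inl rfl) hD hE hF h1 h2 hsum hstr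
  · exact key (Or.inl rfl) hD hF hE h3 h2 (by linarith) (by linear_combination hstr)
  · exact key (Or.inr (Or.inr rfl)) hF hD hE h3 h1 (by linarith) (by linear_combination hstr)
  · exact key (Or.inr (Or.inl rfl)) hE hD hF h1 h3 (by linarith) (by linear_combination hstr)
  · exact key (Or.inr (Or.inl rfl)) hE hF hD h2 h3 (by linarith) (by linear_combination hstr)
  · exact key (Or.inr (Or.inr rfl)) hF hE hD h2 h1 (by linarith) (by linear_combination hstr)
  · exact key (Or.inr (Or.inr rfl)) hF hE hD h2 h1 (by linarith) (by linear_combination hstr)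

/-- A group with a central involution and a normal four group of odd index containing it. -/
theorem four_structure {C : Type*} [Group C] [Finite C] {x : C} (hx : orderOf x = 2)
    (hxc : ∀ c : C, c * x = x * c) (V : Subgroup C) [hV : V.Normal] (hK : IsKleinFour V)
    (hodd : ¬ 2 ∣ V.index) :
    (∀ c : C, c ^ 2 = 1 → c ∈ V) ∧ (∀ c : C, ∀ v ∈ V, c * v = v * c) ∧
      (Cfsg.pPrimeCore 2 C).index = 4 := by
  classical
  have : Fact (Nat.Prime 2) := ⟨Nat.prime_two⟩
  have hinv : ∀ c : C, c ^ 2 = 1 → c ∈ V := by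
    intro c hc
    rw [← QuotientGroup.eq_one_iff]
    apply orderOf_eq_one_iff.mp
    have h1 : orderOf (c : C ⧸ V) ∣ V.index := orderOf_dvd_natCard _
    have h2 : orderOf (c : C ⧸ V) ∣ 2 :=
      orderOf_dvd_of_pow_eq_one (by rw [← QuotientGroup.mk_pow, hc, QuotientGroup.mk_one])
    rcases (Nat.dvd_prime Nat.prime_two).mp h2 with h | h
    · exact h
    · exact absurd (h ▸ h1) hodd
  have hxV : x ∈ V := hinv x (by rw [← hx]; exact pow_orderOf_eq_one x)
  have hx1 : x ≠ 1 := Involution.ne_one_of_orderOf hx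
  have hsq : ∀ v ∈ V, v * v = 1 := fun v hv => by
    exact Involution.klein_sq hK hv
  have hcent : ∀ c : C, ∀ v ∈ V, c * v = v * c := by
    intro c v hv
    by_cases h1 : v = 1
    · subst h1; simp
    by_cases h2 : v = x
    · subst h2; exact hxc c
    let v' : V := ⟨c * v * c⁻¹, hV.conj_mem v hv c⟩
    have : Fintype V := Fintype.ofFinite _
    have hfour : ({1, ⟨x, hxV⟩, ⟨v, hv⟩, ⟨v, hv⟩ * ⟨x, hxV⟩} : Finset V) = Finset.univ := by
      refine Finset.eq_univ_of_card _ ?_
      rw [← Nat.card_eq_fintype_card, IsKleinFour.card_four, Finset.card_insert_of_notMem,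
        Finset.card_insert_of_notMem, Finset.card_pair]
      · intro h
        exact hx1 (by simpa using (mul_eq_left.mp (congrArg Subtype.val h).symm))
      · simp only [Finset.mem_insert, Finset.mem_singleton, not_or, Subtype.ext_iff,
          Subgroup.coe_mul]
        exact ⟨Ne.symm h2, fun h => h1 (mul_eq_right.mp h.symm)⟩
      · simp only [Finset.mem_insert, Finset.mem_singleton, not_or, Subtype.ext_iff,
          Subgroup.coe_mul, Subgroup.coe_one]
        refine ⟨Ne.symm hx1, Ne.symm h1, fun h => h2 ?_⟩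
        rw [eq_inv_of_mul_eq_one_left h.symm, inv_eq_of_mul_eq_one_right (hsq x hxV)]
    have hmem : v' ∈ ({1, ⟨x, hxV⟩, ⟨v, hv⟩, ⟨v, hv⟩ * ⟨x, hxV⟩} : Finset V) :=
      hfour ▸ Finset.mem_univ _
    simp only [Finset.mem_insert, Finset.mem_singleton, v', Subtype.ext_iff, Subgroup.coe_mul,
      Subgroup.coe_one] at hmem
    rcases hmem with h | h | h | h
    · exact absurd (conj_eq_one_iff.mp h) h1
    · exfalso
      apply h2
      have h' := congrArg (fun w => c⁻¹ * w * c) h
      simp only [mul_assoc] at h'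
      rw [← hxc c] at h'
      simpa [mul_assoc] using h'
    · exact mul_inv_eq_iff_eq_mul.mp h
    · exfalso
      apply hx1
      have hpow : ∀ j : ℕ, c ^ j * v * (c ^ j)⁻¹ = v * x ^ j := by
        intro j
        induction j with
        | zero => simp
        | succ j ih =>
          calc c ^ (j + 1) * v * (c ^ (j + 1))⁻¹
              = c * (c ^ j * v * (c ^ j)⁻¹) * c⁻¹ := by rw [pow_succ']; group
            _ = c * v * c⁻¹ * (c * x ^ j * c⁻¹) := by rw [ih]; group
            _ = v * x * x ^ j := by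
              rw [h, ((show Commute c x from hxc c).pow_right j).eq, mul_inv_cancel_right]
            _ = v * x ^ (j + 1) := by rw [pow_succ', mul_assoc]
      have hcV : c ^ V.index ∈ V := pow_index_mem V c
      have h3 := hpow V.index
      rw [show c ^ V.index * v = v * c ^ V.index by
        have h5 := hsq _ (mul_mem hcV hv)
        calc c ^ V.index * v = (c ^ V.index * v)⁻¹ := eq_inv_of_mul_eq_one_right h5
          _ = v * c ^ V.index := by
            rw [mul_inv_rev, inv_eq_of_mul_eq_one_right (hsq v hv),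
              inv_eq_of_mul_eq_one_right (hsq _ hcV)],
        mul_inv_cancel_right] at h3
      obtain ⟨i, hi⟩ : Odd V.index := Nat.not_even_iff_odd.mp (fun he => hodd he.two_dvd)
      rw [hi, pow_succ, pow_mul, pow_two, hsq x hxV, one_pow, one_mul] at h3
      exact (mul_eq_left.mp h3.symm)
  refine ⟨hinv, hcent, ?_⟩
  have hV2 : IsPGroup 2 V := IsPGroup.of_card (n := 2) (by rw [IsKleinFour.card_four]; norm_num)
  let P : Sylow 2 C := hV2.toSylow hodd
  have hNC : normalizer ((P : Subgroup C) : Set C) ≤ centralizer ((P : Subgroup C) : Set C) := by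
    intro c _
    rw [mem_centralizer_iff]
    intro v hv
    exact (hcent c v (by simpa [P] using hv)).symm
  have hcomp := MonoidHom.ker_transferSylow_isComplement' P hNC
  set K := (MonoidHom.transferSylow P hNC).ker with hKdef
  have hKi : K.index = 4 := by
    have h5 := IsKleinFour.card_four (G := V)
    exact hcomp.symm.index_eq_card.trans h5
  have hKc := K.index_mul_card
  have hKodd : ¬ 2 ∣ Nat.card K := MonoidHom.not_dvd_card_ker_transferSylow P hNC
  have hle : K ≤ Cfsg.pPrimeCore 2 C :=
    Thompson.le_pPrimeCore inferInstance ((Nat.Prime.coprime_iff_not_dvd Nat.prime_two).mpr hKodd).symm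
  have hd : (Cfsg.pPrimeCore 2 C).index ∣ 4 := hKi ▸ Subgroup.index_dvd_of_le hle
  have h4 : 4 ∣ (Cfsg.pPrimeCore 2 C).index * Nat.card (Cfsg.pPrimeCore 2 C) := by
    rw [Subgroup.index_mul_card, ← hKc, hKi]; exact dvd_mul_right _ _
  have hco : Nat.Coprime 4 (Nat.card (Cfsg.pPrimeCore 2 C)) := by
    rw [show (4 : ℕ) = 2 ^ 2 by norm_num]
    exact Nat.Coprime.pow_left 2
      ((Nat.Prime.coprime_iff_not_dvd Nat.prime_two).mpr Thompson.not_dvd_card_pPrimeCore)
  exact Nat.dvd_antisymm hd (hco.dvd_of_dvd_mul_right h4)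

variable {G : Type*} [Group G] [Finite G] {x : G}

/-- The number of ways to write `x * k` as a product of two involutions. -/
theorem card_pairs (hx : orderOf x = 2) (V : Subgroup G) (hVC : V ≤ centralizer ({x} : Set G))
    (hV : IsKleinFour V) (hinv : ∀ c ∈ centralizer ({x} : Set G), c ^ 2 = 1 → c ∈ V)
    (hcomm : ∀ c ∈ centralizer ({x} : Set G), ∀ v ∈ V, c * v = v * c)
    (hconj : ∀ u : G, orderOf u = 2 → IsConj x u) {k : G} (hk : k ∈ centralizer ({x} : Set G))
    (hkodd : Odd (orderOf k)) :
    (k = 1 → Nat.card {w : G × G // IsConj x w.1 ∧ IsConj x w.2 ∧ w.1 * w.2 = x * k} = 2) ∧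
    (k ≠ 1 → Nat.card {w : G × G // IsConj x w.1 ∧ IsConj x w.2 ∧ w.1 * w.2 = x * k} = 0) := by
  classical
  have hxx := Involution.mul_self_of_orderOf hx
  have hx1 : x ≠ 1 := Involution.ne_one_of_orderOf hx
  have hxV : x ∈ V := hinv x (mem_centralizer_singleton_iff.mpr rfl) (by rw [pow_two, hxx])
  have hsqV : ∀ v ∈ V, v * v = 1 := fun v hv => by
    exact Involution.klein_sq hV hv
  have hxk : Commute x k := (mem_centralizer_singleton_iff.mp hk).symm
  have hsq : ∀ {u : G}, IsConj x u → u * u = 1 ∧ u ≠ 1 := by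
    intro u hu
    obtain ⟨g, hg⟩ := isConj_iff.mp hu
    subst hg
    exact ⟨by rw [show g * x * g⁻¹ * (g * x * g⁻¹) = g * (x * x) * g⁻¹ by group, hxx]; group,
      fun h => hx1 (conj_eq_one_iff.mp h)⟩
  have hpow : (x * k) ^ orderOf k = x := by
    obtain ⟨i, hi⟩ := hkodd
    rw [hxk.mul_pow, pow_orderOf_eq_one, mul_one, hi, pow_succ, pow_mul, pow_two, hxx, one_pow,
      one_mul]
  have hmem : ∀ {u v : G}, IsConj x u → IsConj x v → u * v = x * k → u ∈ V ∧ k = 1 := by
    intro u v hu hv huv
    have hui : u⁻¹ = u := inv_eq_of_mul_eq_one_right (hsq hu).1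
    have hvi : v⁻¹ = v := inv_eq_of_mul_eq_one_right (hsq hv).1
    have hg : u * (x * k) * u⁻¹ = (x * k)⁻¹ := by
      rw [← huv, mul_inv_rev, hui, hvi, ← mul_assoc u u v, (hsq hu).1, one_mul]
    have hux : u * x * u⁻¹ = x := by
      have h := congrArg (fun w => w ^ orderOf k) hg
      simp only [conj_pow, inv_pow, hpow, inv_eq_of_mul_eq_one_right hxx] at h
      exact h
    have huC : u ∈ centralizer ({x} : Set G) :=
      mem_centralizer_singleton_iff.mpr (mul_inv_eq_iff_eq_mul.mp hux)
    have huV := hinv u huC (by rw [pow_two, (hsq hu).1])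
    refine ⟨huV, ?_⟩
    have h3 : u * (x * k) * u⁻¹ = x * k := by
      rw [mul_inv_eq_iff_eq_mul]
      exact (hcomm _ (mul_mem (mem_centralizer_singleton_iff.mpr rfl) hk) u huV).symm
    rw [h3] at hg
    have h4 : k ^ 2 = 1 := by
      have h5 := mul_eq_one_iff_eq_inv.mpr hg
      rw [← pow_two, hxk.mul_pow, pow_two x, hxx, one_mul] at h5
      exact h5
    rcases (Nat.dvd_prime Nat.prime_two).mp (orderOf_dvd_of_pow_eq_one h4) with h | h
    · exact orderOf_eq_one_iff.mp h
    · rw [h] at hkodd; exact absurd hkodd (by decide)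
  refine ⟨fun hk1 => ?_, fun hk1 => ?_⟩
  · subst hk1
    have : Fintype V := Fintype.ofFinite _
    rw [show (2 : ℕ) = (Finset.univ \ ({1, ⟨x, hxV⟩} : Finset V)).card by
      rw [Finset.card_univ_diff, Finset.card_pair, Fintype.card_eq_nat_card, IsKleinFour.card_four]
      exact fun h => hx1 (congrArg Subtype.val h).symm]
    rw [← Nat.card_eq_finsetCard]
    refine Nat.card_congr
      { toFun := fun w => ⟨⟨w.1.1, (hmem w.2.1 w.2.2.1 w.2.2.2).1⟩, ?_⟩
        invFun := fun u => ⟨((u.1 : G), (u.1 : G) * x), ?_⟩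
        left_inv := ?_
        right_inv := fun u => Subtype.ext rfl }
    · simp only [Finset.mem_sdiff, Finset.mem_univ, Finset.mem_insert, Finset.mem_singleton,
        true_and]
      rintro (h | h)
      · exact (hsq w.2.1).2 (congrArg Subtype.val h)
      · have h1 : w.1.1 = x := congrArg Subtype.val h
        have h2 := w.2.2.2
        replace h2 : x * w.1.2 = x := by simpa [h1] using h2
        exact (hsq w.2.2.1).2 (mul_eq_left.mp h2)
    · obtain ⟨u, hu⟩ := u
      simp only [Finset.mem_sdiff, Finset.mem_univ, Finset.mem_insert, Finset.mem_singleton,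
        true_and, not_or] at hu
      have hu2 : (u : G) * u = 1 := hsqV _ u.2
      refine ⟨hconj _ (orderOf_eq_prime (by rw [pow_two, hu2]) fun h => hu.1 (Subtype.ext h)),
        hconj _ (orderOf_eq_prime (by rw [pow_two, hsqV _ (mul_mem u.2 hxV)]) fun h =>
          hu.2 (Subtype.ext ?_)), ?_⟩
      · show (u : G) = x
        rw [eq_inv_of_mul_eq_one_left h, inv_eq_of_mul_eq_one_right hxx]
      · rw [← mul_assoc, hu2, one_mul, mul_one]
    · rintro ⟨⟨u, v⟩, hu, hv, huv⟩
      apply Subtype.ext
      refine Prod.ext rfl ?_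
      show u * x = v
      rw [mul_one] at huv
      rw [← huv, ← mul_assoc, (hsq hu).1, one_mul]
  · rw [Nat.card_eq_zero]
    exact Or.inl ⟨fun w => hk1 (hmem w.2.1 w.2.2.1 w.2.2.2).2⟩

/-- The involutions of a cyclic group coincide. -/
theorem involution_zpowers_unique {r w w' : G} (hw : w ∈ zpowers r) (hw' : w' ∈ zpowers r)
    (ho : orderOf w = 2) (ho' : orderOf w' = 2) : w = w' := by
  classical
  by_contra hne
  have : Fintype (zpowers r) := Fintype.ofFinite _
  have h := IsCyclic.card_pow_eq_one_le (α := zpowers r) (n := 2) (by norm_num)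
  have hsub : ({1, ⟨w, hw⟩, ⟨w', hw'⟩} : Finset (zpowers r)) ⊆
      Finset.univ.filter (fun a => a ^ 2 = 1) := by
    intro a ha
    simp only [Finset.mem_insert, Finset.mem_singleton] at ha
    simp only [Finset.mem_filter, Finset.mem_univ, true_and]
    rcases ha with rfl | rfl | rfl
    · exact one_pow _
    · exact Subtype.ext (by simp [← ho, pow_orderOf_eq_one])
    · exact Subtype.ext (by simp [← ho', pow_orderOf_eq_one])
  have h3 := (Finset.card_le_card hsub).trans h
  rw [Finset.card_insert_of_notMem, Finset.card_pair] at h3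
  · omega
  · exact fun hh => hne (congrArg Subtype.val hh)
  · simp only [Finset.mem_insert, Finset.mem_singleton, not_or, Subtype.ext_iff, Subgroup.coe_one]
    exact ⟨(Involution.ne_one_of_orderOf ho).symm, (Involution.ne_one_of_orderOf ho').symm⟩

/-- In a simple group, the four group is a Sylow 2-subgroup. -/
theorem exists_sylow_eq [IsSimpleGroup G] (hx : orderOf x = 2) (V : Subgroup G)
    (hVC : V ≤ centralizer ({x} : Set G)) (hV : IsKleinFour V) (hxV : x ∈ V)
    (hodd : ¬ 2 ∣ V.relIndex (centralizer ({x} : Set G))) :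
    ∃ S : Sylow 2 G, (S : Subgroup G) = V := by
  classical
  have : Fact (Nat.Prime 2) := ⟨Nat.prime_two⟩
  have hV4 : Nat.card V = 4 := IsKleinFour.card_four
  have hV2 : IsPGroup 2 V := IsPGroup.of_card (n := 2) (by rw [hV4]; norm_num)
  obtain ⟨S, hS⟩ := hV2.exists_le_sylow
  refine ⟨S, ?_⟩
  by_contra hne
  set C := centralizer ({x} : Set G) with hC
  have hCcard : Nat.card C = 4 * V.relIndex C := by
    rw [← hV4, ← Nat.card_congr (subgroupOfEquivOfLe hVC).toEquiv]
    exact (Subgroup.card_mul_index _).symm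
  have hsmall : ∀ T : Subgroup G, IsPGroup 2 T → T ≤ C → Nat.card T ∣ 4 := by
    intro T hT hTC
    obtain ⟨i, hi⟩ := IsPGroup.iff_card.mp hT
    have hd := card_dvd_of_le hTC
    rw [hCcard] at hd
    have hco : Nat.Coprime (Nat.card T) (V.relIndex C) := by
      rw [hi]
      exact Nat.Coprime.pow_left i ((Nat.Prime.coprime_iff_not_dvd Nat.prime_two).mpr hodd)
    exact hco.dvd_of_dvd_mul_right hd
  have h8 : 4 < Nat.card (S : Subgroup G) := by
    by_contra hle
    exact hne (Subgroup.eq_of_le_of_card_ge hS (by omega)).symm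
  have hxS : x ∈ (S : Subgroup G) := hS hxV
  let x' : (S : Subgroup G) := ⟨x, hxS⟩
  have hcent : centralizer ({x'} : Set (S : Subgroup G)) = C.subgroupOf (S : Subgroup G) := by
    ext d
    simp only [hC, mem_centralizer_singleton_iff, mem_subgroupOf, x']
    exact Subtype.ext_iff
  have hC4 : Nat.card (centralizer ({x'} : Set (S : Subgroup G))) = 4 := by
    rw [hcent]
    have e : Nat.card (C.subgroupOf (S : Subgroup G)) = Nat.card (C ⊓ (S : Subgroup G) : Subgroup G) := by
      rw [← Subgroup.inf_subgroupOf_right,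
        Nat.card_congr (subgroupOfEquivOfLe inf_le_right).toEquiv]
    rw [e]
    refine Nat.dvd_antisymm (hsmall _ (S.2.to_le inf_le_right) inf_le_left) ?_
    rw [← hV4]; exact card_dvd_of_le (le_inf hVC hS)
  obtain ⟨r, hr, -⟩ := exists_cyclic_index_two _ le_rfl S.2 (x := x')
    (by rw [Subgroup.orderOf_mk, hx]) hC4 h8
  let M : Subgroup G := (zpowers r).map (S : Subgroup G).subtype
  have hM : M.relIndex (S : Subgroup G) = 2 := by
    show (M.subgroupOf (S : Subgroup G)).index = 2
    rw [show M.subgroupOf (S : Subgroup G) = zpowers r from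
      Subgroup.comap_map_eq_self_of_injective (Subgroup.subtype_injective _) _]
    exact hr
  have hno : ∀ g : G, g * x * g⁻¹ ∈ (S : Subgroup G) → g * x * g⁻¹ ∉ M := by
    intro g _ hgM
    obtain ⟨w, hw, hwe⟩ := Subgroup.mem_map.mp hgM
    have ho : orderOf w = 2 := by
      rw [← Subgroup.orderOf_coe, ← Subgroup.coe_subtype, hwe, ← hx]
      exact orderOf_injective (MulAut.conj g).toMonoidHom (MulAut.conj g).injective x
    have hn : (zpowers r).Normal := Subgroup.normal_of_index_eq_two hr
    have hcen : ∀ s ∈ (S : Subgroup G), g⁻¹ * s * g ∈ C := by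
      intro s hs
      have h1 : (⟨s, hs⟩ : (S : Subgroup G)) * w * ⟨s, hs⟩⁻¹ = w :=
        involution_zpowers_unique (hn.conj_mem w hw _) hw
          ((orderOf_injective (MulAut.conj _).toMonoidHom (MulAut.conj _).injective w).trans ho) ho
      have h2 : s * (g * x * g⁻¹) * s⁻¹ = g * x * g⁻¹ := by
        rw [← hwe]; exact congrArg Subtype.val h1
      rw [hC, mem_centralizer_singleton_iff]
      have h3 := congrArg (fun t => g⁻¹ * t * (s * g)) h2
      simpa [mul_assoc] using h3
    let T : Subgroup G := (S : Subgroup G).map (MulAut.conj g⁻¹).toMonoidHom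
    have hT : T ≤ C := by
      rintro _ ⟨s, hs, rfl⟩
      simpa using hcen s hs
    have h := hsmall T (S.2.map _) hT
    rw [show Nat.card T = Nat.card (S : Subgroup G) from
      card_map_of_injective (MulAut.conj g⁻¹).injective] at h
    have := Nat.le_of_dvd (by norm_num) h
    omega
  obtain ⟨N, hN, hN2, -⟩ := thompson_transfer S M hM hx hxS hno
  rcases hN.eq_bot_or_eq_top with h | h
  · rw [h, index_bot] at hN2
    have := Subgroup.card_le_card_group (S : Subgroup G)
    omega
  · rw [h, index_top] at hN2; omega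

/-- Brauer's theorem: the order of `G` is 60. -/
theorem card_eq_sixty [IsSimpleGroup G] (hx : orderOf x = 2) (S₀ : Subgroup G)
    (hle : S₀ ≤ centralizer ({x} : Set G)) (hK : IsKleinFour S₀)
    (hodd : ¬ 2 ∣ S₀.relIndex (centralizer ({x} : Set G)))
    (hn : (S₀.subgroupOf (centralizer ({x} : Set G))).Normal) : Nat.card G = 60 := by
  classical
  have : Fact (Nat.Prime 2) := ⟨Nat.prime_two⟩
  have := Fintype.ofFinite G
  set C := centralizer ({x} : Set G) with hC
  have := Fintype.ofFinite C
  let xC : C := ⟨x, mem_centralizer_singleton_iff.mpr rfl⟩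
  have hKC : IsKleinFour (S₀.subgroupOf C) := by
    refine ⟨?_, ?_⟩
    · rw [Nat.card_congr (subgroupOfEquivOfLe hle).toEquiv]; exact IsKleinFour.card_four
    · rw [Monoid.exponent_eq_of_mulEquiv (subgroupOfEquivOfLe hle)]; exact IsKleinFour.exponent_two
  obtain ⟨hinvC, hcommC, hKi⟩ := four_structure (x := xC) (by rw [Subgroup.orderOf_mk, hx])
    (fun c => Subtype.ext (mem_centralizer_singleton_iff.mp c.2)) (S₀.subgroupOf C) hKC hodd
  have hinv : ∀ c ∈ C, c ^ 2 = 1 → c ∈ S₀ := fun c hc h =>
    mem_subgroupOf.mp (hinvC ⟨c, hc⟩ (Subtype.ext h))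
  have hcomm : ∀ c ∈ C, ∀ v ∈ S₀, c * v = v * c := fun c hc v hv =>
    congrArg Subtype.val (hcommC ⟨c, hc⟩ ⟨v, hle hv⟩ (mem_subgroupOf.mpr hv))
  have hxS : x ∈ S₀ := hinv x xC.2 (by rw [← hx]; exact pow_orderOf_eq_one x)
  have hx1 : x ≠ 1 := Involution.ne_one_of_orderOf hx
  have hxx := Involution.mul_self_of_orderOf hx
  obtain ⟨S, hS⟩ := exists_sylow_eq hx S₀ hle hK hxS hodd
  have hS0c : Nat.card S₀ = 4 := IsKleinFour.card_four
  have h4G : 4 ∣ Nat.card G := hS0c ▸ card_subgroup_dvd_card S₀
  have hnab : ¬ ∀ g : G, g * x = x * g := by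
    intro hab
    have hn : (zpowers x).Normal := ⟨fun a ha g => by
      obtain ⟨i, rfl⟩ := mem_zpowers_iff.mp ha
      rw [((show Commute g x from hab g).zpow_right i).eq, mul_inv_cancel_right]
      exact zpow_mem_zpowers x i⟩
    rcases hn.eq_bot_or_eq_top with h | h
    · exact hx1 (by rw [← mem_bot (G := G), ← h]; exact mem_zpowers x)
    · have h2 := Nat.card_zpowers x
      rw [h, Subgroup.card_top, hx] at h2
      rw [h2] at h4G; omega
  have hCtop : C ≠ ⊤ := fun h => hnab fun g => mem_centralizer_singleton_iff.mp (show g ∈ C from h.symm ▸ mem_top g)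
  have hconj : ∀ u : G, orderOf u = 2 → IsConj x u := by
    have hk : IsKleinFour (S : Subgroup G) := by rw [hS]; exact hK
    rcases Involution.klein_sylow_dichotomy S hk with h | h
    · exfalso
      have hcomp := MonoidHom.ker_transferSylow_isComplement' S h
      rcases (inferInstance : (MonoidHom.transferSylow S h).ker.Normal).eq_bot_or_eq_top with hb | hb
      · rw [hb] at hcomp
        have hS' : (S : Subgroup G) = ⊤ := isComplement'_bot_left.mp hcomp
        exact hCtop (top_unique (hS' ▸ hS ▸ hle))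
      · rw [hb] at hcomp
        have hS' : (S : Subgroup G) = ⊥ := isComplement'_top_left.mp hcomp
        rw [← hS, hS', card_bot] at hS0c; omega
    · exact fun u hu => h x u hx hu
  have hCeq : ∀ v ∈ S₀, v ≠ 1 → centralizer ({v} : Set G) = C := by
    intro v hv hv1
    have hsub : C ≤ centralizer ({v} : Set G) := fun c hc =>
      mem_centralizer_singleton_iff.mpr (hcomm c hc v hv)
    have hvo : orderOf v = 2 :=
      orderOf_eq_prime (by
        rw [pow_two]; exact Involution.klein_sq hK hv) hv1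
    refine (Subgroup.eq_of_le_of_card_ge hsub ?_).symm
    have h1 := card_isConj_mul_card_centralizer x
    have h2 := card_isConj_mul_card_centralizer v
    have h3 : Nat.card {y : G // IsConj v y} = Nat.card {y : G // IsConj x y} :=
      Nat.card_congr (Equiv.subtypeEquivRight fun y =>
        ⟨fun h => (hconj v hvo).trans h, fun h => (hconj v hvo).symm.trans h⟩)
    rw [h3] at h2
    refine le_of_eq (Nat.eq_of_mul_eq_mul_left ?_ (h2.trans h1.symm))
    have : Nonempty {y : G // IsConj x y} := ⟨⟨x, IsConj.refl x⟩⟩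
    exact Nat.card_pos
  set m := Nat.card {y : G // IsConj x y} with hm
  set K := Cfsg.pPrimeCore 2 C with hKdef
  have hKn : K.Normal := Thompson.sSup_normal fun _ h => h.1
  have hKodd : Odd (Nat.card K) := Nat.not_even_iff_odd.mp fun he =>
    Thompson.not_dvd_card_pPrimeCore (p := 2) (G := C) he.two_dvd
  have hCcard : Nat.card C = 4 * Nat.card K := by rw [← K.index_mul_card, hKi]
  have hG : Nat.card G = m * (4 * Nat.card K) := by
    rw [← hCcard, ← card_isConj_mul_card_centralizer x]
  have hmodd : Odd m := by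
    rw [Nat.odd_iff]
    have h1 : ¬ 2 ∣ m := by
      intro h
      apply S.not_dvd_index
      refine h.trans ?_
      rw [hm, card_isConj_eq]
      exact Subgroup.index_dvd_of_le (hS ▸ hle)
    omega
  obtain ⟨M, hM⟩ := BC86.exists_isPModular Nat.prime_two
  have := BlocksCore.isPrime hM
  let P := Cfsg.principalBlock M G
  choose d hd0 hd using fun χ : Cfsg.IrrCharacter G => CharCore.IsIrrCharacter.exists_degree χ.2
  choose a ha hpar using fun χ : Cfsg.IrrCharacter G => exists_int_value_involution hx χ (hd χ)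
  let χ0 : Cfsg.IrrCharacter G := BlocksDefect.oneIrr G
  have hχ0 : χ0 ∈ P := BlocksDefect.oneIrr_mem
  have ha0 : a χ0 = 1 := by
    have := ha χ0; simp only [χ0, BlocksDefect.coe_oneIrr] at this; exact_mod_cast this.symm
  have hd00 : d χ0 = 1 := by
    have := hd χ0; simp only [χ0, BlocksDefect.coe_oneIrr] at this; exact_mod_cast this.symm
  have hKord : ∀ k : C, k ∈ K → Odd (orderOf k) := fun k hk =>
    hKodd.of_dvd_nat (by rw [← Subgroup.orderOf_mk k hk]; exact orderOf_dvd_natCard _)
  have hxpow : ∃ k : ℕ, orderOf x = 2 ^ k := ⟨1, by rw [hx]; norm_num⟩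
  -- principal block characters are constant on the sections
  have hsecP : ∀ χ ∈ P, ∀ v ∈ S₀, v ≠ 1 → ∀ k : C, k ∈ K → (χ : G → ℂ) (v * k) = (a χ : ℂ) := by
    intro χ hχ v hv hv1 k hk
    have hvo : orderOf v = 2 :=
      orderOf_eq_prime (by
        rw [pow_two]; exact Involution.klein_sq hK hv) hv1
    have hcore : (k : G) ∈ Cfsg.centralizerPPrimeCore 2 v := by
      have e : Cfsg.centralizerPPrimeCore 2 v = K.map C.subtype :=
        congrArg (fun H : Subgroup G => (Cfsg.pPrimeCore 2 H).map H.subtype) (hCeq v hv hv1)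
      rw [e]; exact ⟨k, hk, rfl⟩
    rw [S0942.result 2 M hM v ⟨1, by rw [hvo]; norm_num⟩ k hcore χ hχ, ← ha χ]
    obtain ⟨g, hg⟩ := isConj_iff.mp (hconj v hvo)
    rw [← hg]
    exact CharCore.irr_isClassFunction χ x g
  -- other characters sum to zero over the section of `x`
  have hb0 := S0939.result 2 M hM (G := C) ⟨2, by rw [hKi]; norm_num⟩
  have hcoeff : Cfsg.blockCoeff (Cfsg.principalBlock M C) = BlocksDefect.subInd K := by
    refine BlocksCore.eq_of_omega_eq (BlocksCore.isClassFunction_blockCoeff _)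
      (BlocksDefect.isClassFunction_subInd K) fun η => ?_
    rw [BlocksCore.omega_blockCoeff]
    by_cases h : η ∈ Cfsg.principalBlock M C
    · rw [Set.indicator_of_mem h, (BlocksDefect.omega_subInd_eq_one_iff η K).mpr (by rw [hb0] at h; exact h)]
      rfl
    · rw [Set.indicator_of_notMem h]
      rcases BlocksDefect.omega_subInd_zero_or_one η K with h0 | h1
      · exact h0.symm
      · exact absurd (by rw [hb0]; exact (BlocksDefect.omega_subInd_eq_one_iff η K).mp h1) h
  let KF : Finset C := Finset.univ.filter (· ∈ K)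
  have hKFc : KF.card = Nat.card K := by
    rw [Nat.card_eq_fintype_card, Fintype.card_subtype]
  have hnonP : ∀ χ : Cfsg.IrrCharacter G, χ ∉ P → ∑ k ∈ KF, (χ : G → ℂ) (x * k) = 0 := by
    intro χ hχ
    have h := BlocksDefect.sum_blockCoeff_section_eq_zero (p := 2) (k := 1) hM (by rw [hx]; norm_num)
      (BlocksDefect.isPBlock_principal (M := M) (G := C)) (χ := χ)
      (fun hc => hχ (show χ ∈ Cfsg.principalBlock M G by rw [← BlocksDefect.eq_principal_of_inducing hM hc]; exact BlocksCore.mem_blockOf_self χ))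
      1 (by simp)
    rw [hcoeff] at h
    simp only [Subgroup.coe_one, mul_one] at h
    have e : ∀ c : C, BlocksDefect.subInd K c * (χ : G → ℂ) ((c : G) * x) =
        if c ∈ K then (Nat.card K : ℂ)⁻¹ * (χ : G → ℂ) (x * c) else 0 := by
      intro c
      by_cases hc : c ∈ K
      · rw [if_pos hc, BlocksDefect.subInd_apply_of_mem hc, mem_centralizer_singleton_iff.mp c.2]
      · rw [if_neg hc, BlocksDefect.subInd_apply_of_notMem hc, zero_mul]
    simp only [e] at h
    rw [← Finset.sum_filter, ← Finset.mul_sum, mul_eq_zero] at h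
    exact h.resolve_left (inv_ne_zero (Nat.cast_ne_zero.mpr Nat.card_pos.ne'))
  have hsecsum : ∀ χ : Cfsg.IrrCharacter G,
      ∑ k ∈ KF, (χ : G → ℂ) (x * k) = P.indicator (fun χ => (Nat.card K : ℂ) * a χ) χ := by
    intro χ
    by_cases hχ : χ ∈ P
    · rw [Set.indicator_of_mem hχ, Finset.sum_congr rfl fun k hk =>
        hsecP χ hχ x hxS hx1 k (Finset.mem_filter.mp hk).2, Finset.sum_const, nsmul_eq_mul, hKFc]
    · rw [Set.indicator_of_notMem hχ, hnonP χ hχ]
  -- the values at `x` in the principal block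
  have haa : ∑ χ, (P.indicator a χ) ^ 2 = (4 : ℤ) := by
    have h := (S0947.result 2 M hM x hxpow hx1 1 (by simp)).2 ⟨2, by rw [← hC, ← hKdef, hKi]; norm_num⟩
    have h4 : 2 ^ (Nat.card C).factorization 2 = 4 := by
      rw [hCcard, show (4 : ℕ) = 2 ^ 2 by norm_num, Nat.factorization_mul (by norm_num) Nat.card_pos.ne',
        Finsupp.add_apply, Nat.Prime.factorization_pow Nat.prime_two, Finsupp.single_eq_same,
        Nat.factorization_eq_zero_of_not_dvd (Thompson.not_dvd_card_pPrimeCore)]
    rw [← hC, h4, finsum_mem_def, finsum_eq_sum_of_fintype] at h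
    have h2 : ((∑ χ, (P.indicator a χ) ^ 2 : ℤ) : ℝ) = 4 := by
      push_cast at h ⊢
      rw [← h]
      refine Finset.sum_congr rfl fun χ _ => ?_
      by_cases hχ : χ ∈ P
      · rw [Set.indicator_of_mem hχ, Set.indicator_of_mem hχ, mul_one, ha χ,
          Complex.norm_intCast, sq_abs]
      · simp [Set.indicator_of_notMem hχ, show χ ∉ Cfsg.principalBlock M G from hχ]
    exact_mod_cast h2
  obtain ⟨p, q, r, hp, hq, hr, hpq, hpr, hqr, hp0, hq0, hr0, hsum⟩ :=
    V4.exists_three (P.indicator a) χ0 (by rw [Set.indicator_of_mem hχ0]; exact ha0) haa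
  have hmemP : ∀ {i}, (P.indicator a i) ^ 2 = 1 → i ∈ P ∧ a i ^ 2 = 1 := by
    intro i h
    by_cases hi : i ∈ P
    · rw [Set.indicator_of_mem hi] at h; exact ⟨hi, h⟩
    · rw [Set.indicator_of_notMem hi] at h; norm_num at h
  obtain ⟨hpP, hp⟩ := hmemP hp
  obtain ⟨hqP, hq⟩ := hmemP hq
  obtain ⟨hrP, hr⟩ := hmemP hr
  have ea : (1 : ℤ) + a p * d p + a q * d q + a r * d r = 0 := by
    have h := BlocksCore.blockOrth_sections (p := 2) hM (BlocksDefect.isPBlock_principal (M := M) (G := G))
      (g := x) (h := 1) (x := x) (y := 1) ⟨1, mul_one x, Commute.one_right x, hxpow, by simp⟩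
      ⟨1, mul_one 1, Commute.one_right 1, ⟨0, by simp⟩, by simp⟩
      (fun h => hx1 (isConj_one_left.mp h))
    rw [finsum_mem_def, finsum_eq_sum_of_fintype, hsum] at h
    · rw [Set.indicator_of_mem hχ0, Set.indicator_of_mem hpP, Set.indicator_of_mem hqP,
        Set.indicator_of_mem hrP] at h
      simp only [inv_one, ha, hd, ha0, hd00] at h
      have h' : (((1 : ℤ) + a p * d p + a q * d q + a r * d r : ℤ) : ℂ) = 0 := by
        push_cast at h ⊢; linear_combination h
      exact_mod_cast h'
    · intro i hi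
      by_cases hiP : i ∈ P
      · rw [Set.indicator_of_mem hiP] at hi
        rw [Set.indicator_of_mem hiP, ha, hi]; simp
      · exact Set.indicator_of_notMem hiP _
  have hstr : (m : ℂ) * (1 + (a p : ℂ) / d p + (a q : ℂ) / d q + (a r : ℂ) / d r) = 8 := by
    have h2 : (∑ k ∈ KF, (Nat.card {w : G × G // IsConj x w.1 ∧ IsConj x w.2 ∧ w.1 * w.2 = x * k} : ℂ))
        = 2 := by
      rw [Finset.sum_eq_single (1 : C)]
      · rw [OneMemClass.coe_one, (card_pairs hx S₀ hle hK hinv hcomm hconj (one_mem C) (by simp)).1 rfl]; norm_num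
      · intro k hk hk1
        rw [(card_pairs hx S₀ hle hK hinv hcomm hconj k.2
          (by rw [Subgroup.orderOf_coe]; exact hKord k (Finset.mem_filter.mp hk).2)).2
          (fun h => hk1 (Subtype.ext h))]
        norm_num
      · intro h; exact absurd (Finset.mem_filter.mpr ⟨Finset.mem_univ _, one_mem K⟩) h
    have h3 := congrArg (fun w : ℂ => w * (Nat.card G : ℂ)) h2
    simp only [Finset.sum_mul, card_pairs_mul_card, ← hm, ← Finset.mul_sum] at h3
    rw [Finset.sum_comm] at h3
    simp only [← Finset.sum_div, ← Finset.mul_sum, ← map_sum, hsecsum] at h3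
    rw [hsum] at h3
    · rw [Set.indicator_of_mem hχ0, Set.indicator_of_mem hpP, Set.indicator_of_mem hqP,
        Set.indicator_of_mem hrP] at h3
      simp only [ha, hd, ha0, hd00, map_mul, map_natCast, map_intCast, hG, Nat.cast_mul] at h3
      have c1 : (a p : ℂ) ^ 2 = 1 := by exact_mod_cast hp
      have c2 : (a q : ℂ) ^ 2 = 1 := by exact_mod_cast hq
      have c3 : (a r : ℂ) ^ 2 = 1 := by exact_mod_cast hr
      rw [c1, c2, c3] at h3
      have hk0 : (Nat.card K : ℂ) ≠ 0 := Nat.cast_ne_zero.mpr Nat.card_pos.ne'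
      have hm0 : (m : ℂ) ≠ 0 := Nat.cast_ne_zero.mpr (by rintro h; simp [h] at hmodd)
      apply mul_left_cancel₀ (mul_ne_zero hm0 hk0)
      push_cast at h3
      linear_combination h3
    · intro i hi
      by_cases hiP : i ∈ P
      · rw [Set.indicator_of_mem hiP] at hi
        rw [Set.indicator_of_mem hiP, hi]; simp
      · rw [Set.indicator_of_notMem hiP]; simp
  have hodd' : ∀ i, a i ^ 2 = 1 → Odd (a i * d i : ℤ) := by
    intro i h
    have := hpar i
    rw [Int.odd_iff]
    rcases sq_eq_one_iff.mp h with h | h <;> rw [h] <;> omega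
  have hstr' : (m : ℤ) * ((a p * d p) * (a q * d q) * (a r * d r) + (a q * d q) * (a r * d r) +
      (a p * d p) * (a r * d r) + (a p * d p) * (a q * d q)) =
      8 * ((a p * d p) * (a q * d q) * (a r * d r)) := by
    have n1 : (d p : ℂ) ≠ 0 := Nat.cast_ne_zero.mpr (hd0 p).ne'
    have n2 : (d q : ℂ) ≠ 0 := Nat.cast_ne_zero.mpr (hd0 q).ne'
    have n3 : (d r : ℂ) ≠ 0 := Nat.cast_ne_zero.mpr (hd0 r).ne'
    field_simp at hstr
    have key : ((((m : ℤ) * ((a p * d p) * (a q * d q) * (a r * d r) + (a q * d q) * (a r * d r) +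
      (a p * d p) * (a r * d r) + (a p * d p) * (a q * d q)) : ℤ)) : ℂ) =
      ((8 * ((a p * d p) * (a q * d q) * (a r * d r)) : ℤ) : ℂ) := by
      push_cast
      rcases sq_eq_one_iff.mp hp with e1 | e1 <;> rcases sq_eq_one_iff.mp hq with e2 | e2 <;>
        rcases sq_eq_one_iff.mp hr with e3 | e3 <;> simp only [e1, e2, e3] at hstr ⊢ <;>
        push_cast at hstr ⊢ <;> first | linear_combination hstr | linear_combination -hstr
    exact_mod_cast key
  rcases solve hmodd (hodd' p hp) (hodd' q hq) (hodd' r hr) ea hstr' with h3 | ⟨h15, hneg⟩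
  · -- index three is impossible
    exfalso
    have hker : C.normalCore = ⊥ := (inferInstance : C.normalCore.Normal).eq_bot_or_eq_top.resolve_right
      fun h => hCtop (top_unique (h ▸ C.normalCore_le))
    have h6 : Nat.card G ∣ 6 := by
      have := Fintype.ofFinite (G ⧸ C)
      have hd := card_subgroup_dvd_card (MulAction.toPermHom G (G ⧸ C)).range
      rw [← index_ker, ← normalCore_eq_ker, hker, index_bot] at hd
      rw [Nat.card_eq_fintype_card (α := Equiv.Perm (G ⧸ C)), Fintype.card_perm,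
        ← Nat.card_eq_fintype_card, ← Subgroup.index, ← card_isConj_eq, ← hm, h3] at hd
      exact hd
    exact absurd (h4G.trans h6) (by decide)
  · obtain ⟨χ, hχP, hχa, hχd⟩ : ∃ χ ∈ P, a χ = -1 ∧ d χ = 3 := by
      rcases hneg with h | h | h
      · refine ⟨p, hpP, ?_⟩
        rcases sq_eq_one_iff.mp hp with e | e <;> rw [e] at h <;> omega
      · refine ⟨q, hqP, ?_⟩
        rcases sq_eq_one_iff.mp hq with e | e <;> rw [e] at h <;> omega
      · refine ⟨r, hrP, ?_⟩
        rcases sq_eq_one_iff.mp hr with e | e <;> rw [e] at h <;> omega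
    obtain ⟨n, hn'⟩ := CharCore.IsCharacter.exists_classInner_eq_natCast (CharCore.isCharacter_restrict (CharCore.irr_isCharacter χ) C)
      CharCore.isCharacter_one
    rw [CharCore.classInner_def] at hn'
    simp only [Pi.one_apply, map_one, mul_one] at hn'
    -- split `C` as the product of the four group and `K`
    let V := S₀.subgroupOf C
    have := Fintype.ofFinite V
    have := Fintype.ofFinite K
    let f : V × K → C := fun w => (w.1 : C) * w.2
    have hf : Function.Bijective f := by
      rw [Fintype.bijective_iff_injective_and_card]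
      refine ⟨?_, ?_⟩
      · rintro ⟨v, k⟩ ⟨v', k'⟩ h
        have h' : ((v' : C))⁻¹ * v = (k' : C) * (k : C)⁻¹ := by
          have h2 := congrArg (fun t => ((v' : C))⁻¹ * t * (k : C)⁻¹) h
          simpa [f, mul_assoc] using h2
        have hmem : ((v' : C))⁻¹ * v ∈ V ⊓ K := ⟨V.mul_mem (V.inv_mem v'.2) v.2,
          by rw [SetLike.mem_coe, h']; exact K.mul_mem k'.2 (K.inv_mem k.2)⟩
        have hbot : V ⊓ K = ⊥ := Subgroup.inf_eq_bot_of_coprime (by
          rw [Nat.card_congr (subgroupOfEquivOfLe hle).toEquiv, hS0c, show (4 : ℕ) = 2 ^ 2 by norm_num]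
          exact Nat.Coprime.pow_left 2 hKodd.coprime_two_left)
        rw [hbot, mem_bot] at hmem
        have hv : v = v' := Subtype.ext (inv_mul_eq_one.mp hmem).symm
        subst hv
        exact Prod.ext rfl (Subtype.ext (mul_left_cancel h))
      · rw [Fintype.card_prod, Fintype.card_eq_nat_card, Fintype.card_eq_nat_card,
          Fintype.card_eq_nat_card, Nat.card_congr (subgroupOfEquivOfLe hle).toEquiv, hS0c, hCcard]
    rw [← hf.sum_comp (fun c : C => (χ : G → ℂ) c), Fintype.sum_prod_type,
      ← Finset.add_sum_erase _ _ (Finset.mem_univ (1 : V))] at hn'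
    have hothers : ∀ v ∈ (Finset.univ : Finset V).erase 1,
        ∑ k : K, (χ : G → ℂ) ((f (v, k) : C) : G) = -(Nat.card K : ℂ) := by
      intro v hv
      have hv1 : ((v : C) : G) ≠ 1 := fun h =>
        (Finset.mem_erase.mp hv).1 (Subtype.ext (Subtype.ext h))
      simp only [f, Subgroup.coe_mul]
      rw [Finset.sum_congr rfl fun (k : K) _ => hsecP χ hχP _ (mem_subgroupOf.mp v.2) hv1 (k : C) k.2, hχa]
      rw [Finset.sum_const, Finset.card_univ, Fintype.card_eq_nat_card, nsmul_eq_mul]
      push_cast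
      ring
    rw [Finset.sum_congr rfl hothers, Finset.sum_const, Finset.card_erase_of_mem (Finset.mem_univ _),
      Finset.card_univ, Fintype.card_eq_nat_card, Nat.card_congr (subgroupOfEquivOfLe hle).toEquiv,
      hS0c, hCcard] at hn'
    have hre : 3 * (Nat.card K : ℝ) ≤ ∑ k : K, ((χ : G → ℂ) ((k : C) : G)).re := by
      have hk0 : (0 : ℝ) < Nat.card K := Nat.cast_pos.mpr Nat.card_pos
      have h4 : ∑ k : K, (χ : G → ℂ) ((k : C) : G) =
          ((4 * Nat.card K * n + 3 * Nat.card K : ℕ) : ℂ) := by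
        have hne : ((4 * Nat.card K : ℕ) : ℂ) ≠ 0 :=
          Nat.cast_ne_zero.mpr (by have := Nat.card_pos (α := K); omega)
        rw [inv_mul_eq_iff_eq_mul₀ hne] at hn'
        simp only [f, OneMemClass.coe_one, one_mul, nsmul_eq_mul] at hn'
        push_cast at hn' ⊢
        linear_combination hn'
      rw [← Complex.re_sum, h4, Complex.natCast_re]
      push_cast
      nlinarith [Nat.cast_nonneg (α := ℝ) n]
    have hle3 : ∀ k : K, ((χ : G → ℂ) ((k : C) : G)).re ≤ 3 := by
      intro k
      have h := CharCore.IsCharacter.norm_apply_le (CharCore.irr_isCharacter χ) ((k : C) : G)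
      have hr := Complex.re_le_norm ((χ : G → ℂ) ((k : C) : G))
      rw [hd χ, hχd] at h
      norm_num at h
      linarith
    have heq : ∀ k : K, (χ : G → ℂ) ((k : C) : G) = 3 := by
      intro k
      have h3 : ((χ : G → ℂ) ((k : C) : G)).re = 3 := by
        refine le_antisymm (hle3 k) ?_
        by_contra hlt
        push Not at hlt
        have := Finset.sum_lt_sum (fun i (_ : i ∈ Finset.univ) => hle3 i) ⟨k, Finset.mem_univ k, hlt⟩
        rw [Finset.sum_const, Finset.card_univ, Fintype.card_eq_nat_card, nsmul_eq_mul] at this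
        linarith
      have h := CharCore.IsCharacter.norm_apply_le (CharCore.irr_isCharacter χ) ((k : C) : G)
      rw [hd χ, hχd, Complex.norm_def] at h
      norm_num at h
      have h9 : Complex.normSq ((χ : G → ℂ) ((k : C) : G)) ≤ 9 := by
        have := Real.sqrt_le_iff.mp h
        linarith [this.2]
      rw [Complex.normSq_apply, h3] at h9
      have him : ((χ : G → ℂ) ((k : C) : G)).im = 0 := by
        nlinarith [mul_self_nonneg ((χ : G → ℂ) ((k : C) : G)).im]
      exact Complex.ext (by simp [h3]) (by simp [him])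
    obtain ⟨n', ρ, -, hρ⟩ := χ.2
    have hn3 : n' = 3 := by
      have h := hd χ
      rw [← hρ, hχd] at h
      simp at h
      exact_mod_cast h
    subst hn3
    have hker : ρ.ker = ⊥ := (inferInstance : ρ.ker.Normal).eq_bot_or_eq_top.resolve_right fun h => by
      have h1 : ρ x = 1 := MonoidHom.mem_ker.mp (h ▸ mem_top x)
      have h2 := ha χ
      rw [← hρ, (CharCore.character_eq_finrank_iff ρ x).mpr h1, hχa] at h2
      simp at h2
      norm_num at h2
    have hK1 : Nat.card K = 1 := by
      rw [Subgroup.card_eq_one, eq_bot_iff]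
      intro k hk
      have h2 : ρ (k : G) = 1 := (CharCore.character_eq_finrank_iff ρ (k : G)).mp (by
        rw [hρ]; simpa using heq ⟨k, hk⟩)
      have h3 : (k : G) ∈ ρ.ker := MonoidHom.mem_ker.mpr h2
      rw [hker, mem_bot] at h3
      rw [mem_bot]
      exact Subtype.ext h3
    rw [hG, h15, hK1]

end Cfsg.Agent.InvChar68.Klein
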