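import Cfsg.Agent.Lib.LinearGroup.TorusSylow
import Mathlib.FieldTheory.Finite.Basic

/-!
# Elements of order four of `SL(2, q)`, `q` odd
-/

set_option autoImplicit false

namespace Cfsg.Agent.InvChar68.SL2

open Matrix

variable {F : Type*} [Field F] [Fintype F]

theorem two_ne_zero_of_odd (hF : Odd (Fintype.card F)) : (2 : F) ≠ 0 := by
  refine Ring.two_ne_zero fun e => ?_
  have := FiniteField.even_card_of_char_two e
  rw [Nat.odd_iff] at hF
  omega

/-- `J = (0 1; -1 0)`. -/
def rot : Matrix.SpecialLinearGroup (Fin 2) F :=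
  ⟨!![0, 1; -1, 0], by simp [Matrix.det_fin_two]⟩

theorem rot_mul_rot : ((rot * rot : Matrix.SpecialLinearGroup (Fin 2) F)).1 = -1 := by
  show (rot (F := F)).1 * (rot (F := F)).1 = -1
  ext i j
  fin_cases i <;> fin_cases j <;> simp [rot, Matrix.mul_apply, Fin.sum_univ_two]

theorem exists_sum_sq (hF : Odd (Fintype.card F)) (c : F) : ∃ u v : F, u ^ 2 + v ^ 2 = c := by
  open Polynomial in
  obtain ⟨a, b, h⟩ := FiniteField.exists_root_sum_quadratic (f := (X : F[X]) ^ 2)
    (g := X ^ 2 - C c) (degree_X_pow 2) (degree_X_pow_sub_C (by norm_num) c)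
    (Nat.odd_iff.mp hF)
  exact ⟨a, b, by simp at h; linear_combination h⟩

/-- An element squaring to `-1` is conjugate to `rot`. -/
theorem exists_conj_rot (hF : Odd (Fintype.card F)) (M : Matrix.SpecialLinearGroup (Fin 2) F)
    (hM : (M * M).1 = -1) : ∃ g : Matrix.SpecialLinearGroup (Fin 2) F, g * rot * g⁻¹ = M := by
  have h2 := two_ne_zero_of_odd hF
  have hdet := M.2
  rw [Matrix.det_fin_two] at hdet
  have h00 := congrFun (congrFun hM 0) 0
  have h01 := congrFun (congrFun hM 0) 1
  have h10 := congrFun (congrFun hM 1) 0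
  simp [Matrix.mul_apply, Fin.sum_univ_two] at h00 h01 h10
  set a := M.1 0 0 with ha
  set b := M.1 0 1 with hb
  set c := M.1 1 0 with hc
  set d := M.1 1 1 with hd
  have had : d = -a := by
    by_cases hb0 : b = 0
    · rw [hb0] at h00 hdet
      have hd' : a * (d + a) = 0 := by linear_combination hdet + h00
      have hane : a ≠ 0 := by rintro h; rw [h] at hdet; simp at hdet
      rcases mul_eq_zero.mp hd' with h | h
      · exact absurd h hane
      · linear_combination h
    · have : b * (a + d) = 0 := by linear_combination h01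
      rcases mul_eq_zero.mp this with h | h
      · exact absurd h hb0
      · linear_combination h
  obtain ⟨x, y, hq⟩ : ∃ x y : F, c * x ^ 2 - 2 * a * x * y - b * y ^ 2 = -1 := by
    by_cases hc0 : c = 0
    · by_cases hb0 : b = 0
      · have hane : a ≠ 0 := by rintro h; rw [h, hb0, had, h] at hdet; simp at hdet
        refine ⟨1, 1 / (2 * a), ?_⟩
        rw [hc0, hb0]; field_simp; ring
      · obtain ⟨u, v, huv⟩ := exists_sum_sq hF b
        refine ⟨v, (u - a * v) / b, ?_⟩
        rw [hc0] at h00 ⊢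
        field_simp
        linear_combination (-1 : F) * huv + v ^ 2 * h00
    · obtain ⟨u, v, huv⟩ := exists_sum_sq hF (-c)
      refine ⟨(u + a * v) / c, v, ?_⟩
      field_simp
      linear_combination huv - v ^ 2 * h00
  let g : Matrix.SpecialLinearGroup (Fin 2) F :=
    ⟨!![a * x + b * y, x; c * x + d * y, y], by
      simp only [Matrix.det_fin_two, Matrix.of_apply, Matrix.cons_val', Matrix.cons_val_zero,
        Matrix.cons_val_one, Matrix.empty_val', Matrix.cons_val_fin_one]
      rw [had]; linear_combination -hq⟩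
  refine ⟨g, ?_⟩
  rw [mul_inv_eq_iff_eq_mul]
  apply Subtype.ext
  show g.1 * rot.1 = M.1 * g.1
  ext i j
  fin_cases i <;> fin_cases j <;>
    simp [g, rot, Matrix.mul_apply, Fin.sum_univ_two, ← ha, ← hb, ← hc, ← hd]
  · linear_combination -x * h00 - y * h01
  · linear_combination -x * h10 - y * h00 - y * (d - a) * had

theorem isConj_of_sq (hF : Odd (Fintype.card F)) {M M' : Matrix.SpecialLinearGroup (Fin 2) F}
    (hM : (M * M).1 = -1) (hM' : (M' * M').1 = -1) : IsConj M M' := by
  obtain ⟨g, hg⟩ := exists_conj_rot hF M hM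
  obtain ⟨g', hg'⟩ := exists_conj_rot hF M' hM'
  exact ((isConj_iff.mpr ⟨g, hg⟩).symm).trans (isConj_iff.mpr ⟨g', hg'⟩)

/-- An element inverting an element of order four squares to `-1`. -/
theorem sq_eq_neg_one_of_inverts (hF : Odd (Fintype.card F))
    {M g : Matrix.SpecialLinearGroup (Fin 2) F} (hM : (M * M).1 = -1) (hg : g * M * g⁻¹ = M⁻¹) :
    (g * g).1 = -1 := by
  have h2 := two_ne_zero_of_odd hF
  obtain ⟨h, hh⟩ := exists_conj_rot hF M hM
  set k := h⁻¹ * g * h with hk
  have hk' : k * rot * k⁻¹ = (rot (F := F))⁻¹ := by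
    subst hh
    rw [_root_.mul_inv_rev, _root_.mul_inv_rev, inv_inv] at hg
    calc k * rot * k⁻¹ = h⁻¹ * (g * (h * rot * h⁻¹) * g⁻¹) * h := by rw [hk]; group
      _ = (rot (F := F))⁻¹ := by rw [hg]; group
  rw [mul_inv_eq_iff_eq_mul] at hk'
  have hgg : g * g = h * (k * k) * h⁻¹ := by rw [hk]; group
  clear_value k
  have hm : k.1 * (rot (F := F)).1 = Matrix.adjugate (rot (F := F)).1 * k.1 :=
    congrArg Subtype.val hk'
  rw [Matrix.adjugate_fin_two] at hm
  have e00 := congrFun (congrFun hm 0) 0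
  have e01 := congrFun (congrFun hm 0) 1
  simp [rot, Matrix.mul_apply, Fin.sum_univ_two] at e00 e01
  have hdet := k.2
  rw [Matrix.det_fin_two] at hdet
  have hkk : (k * k).1 = -1 := by
    rw [Matrix.SpecialLinearGroup.coe_mul]
    ext i j
    fin_cases i <;> fin_cases j <;> simp [Matrix.mul_apply, Fin.sum_univ_two]
    · linear_combination -hdet + k.1 0 0 * e01
    · linear_combination k.1 0 1 * e01
    · linear_combination k.1 1 0 * e01
    · linear_combination -hdet + k.1 1 1 * e01
  rw [hgg, Matrix.SpecialLinearGroup.coe_mul, Matrix.SpecialLinearGroup.coe_mul, hkk, mul_neg,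
    mul_one, neg_mul, ← Matrix.SpecialLinearGroup.coe_mul, mul_inv_cancel]
  rfl

end Cfsg.Agent.InvChar68.SL2
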