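import Cfsg.Agent.InvChar68.SL2Order4
import Cfsg.Agent.OddLocal43.GLTwo

/-!
# `SL(2, q)` is indecomposable modulo its centre
-/

set_option autoImplicit false

namespace Cfsg.Agent.InvChar68.SL2

open scoped commutatorElement

/-- An element fixed up to central factors commutes with commutators. -/
theorem commute_commutator {S : Type*} [Group S] {g a a' : S}
    (h : ⁅g, a⁆ ∈ Subgroup.center S) (h' : ⁅g, a'⁆ ∈ Subgroup.center S) :
    Commute g ⁅a, a'⁆ := by
  have e1 : g * a * g⁻¹ = ⁅g, a⁆ * a := by rw [commutatorElement_def]; group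
  have e2 : g * a' * g⁻¹ = ⁅g, a'⁆ * a' := by rw [commutatorElement_def]; group
  have h1 : ∀ z ∈ Subgroup.center S, ∀ w : S, Commute z w := fun z hz w =>
    ((Subgroup.mem_center_iff.mp hz) w).symm
  have : g * ⁅a, a'⁆ * g⁻¹ = ⁅a, a'⁆ := by
    rw [← MulAut.conj_apply, map_commutatorElement, MulAut.conj_apply, MulAut.conj_apply, e1, e2]
    set z := ⁅g, a⁆
    set z' := ⁅g, a'⁆
    rw [commutatorElement_def, commutatorElement_def]
    calc z * a * (z' * a') * (z * a)⁻¹ * (z' * a')⁻¹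
        = z * (a * z') * a' * a⁻¹ * (z⁻¹ * a'⁻¹) * z'⁻¹ := by group
      _ = z * (z' * a) * a' * a⁻¹ * (a'⁻¹ * z⁻¹) * z'⁻¹ := by
          rw [(h1 z' h' a).eq, ((h1 z h a'⁻¹).inv_left).eq]
      _ = z * z' * (a * a' * a⁻¹ * a'⁻¹) * (z' * z)⁻¹ := by group
      _ = a * a' * a⁻¹ * a'⁻¹ * (z * z') * (z' * z)⁻¹ := by
          rw [(h1 (z * z') (mul_mem h h') _).eq]
      _ = a * a' * a⁻¹ * a'⁻¹ := by rw [(h1 z h z').eq]; group
  exact mul_inv_eq_iff_eq_mul.mp this

variable {F : Type*} [Field F]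

theorem mem_center_of_scalar {g : Matrix.SpecialLinearGroup (Fin 2) F}
    (h : OddLocal43.IsScalarMat g.1) : g ∈ Subgroup.center (Matrix.SpecialLinearGroup (Fin 2) F) := by
  refine Subgroup.mem_center_iff.mpr fun w => Subtype.ext ?_
  show w.1 * g.1 = g.1 * w.1
  rw [OddLocal43.eq_smul_one_of_isScalarMat h]
  simp

theorem commute_of_commute {g y w : Matrix.SpecialLinearGroup (Fin 2) F}
    (hg : g ∉ Subgroup.center (Matrix.SpecialLinearGroup (Fin 2) F)) (hy : Commute g y)
    (hw : Commute g w) : Commute y w :=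
  Subtype.ext (OddLocal43.commute_of_commute_nonscalar (fun h => hg (mem_center_of_scalar h))
    (congrArg Subtype.val hy.eq) (congrArg Subtype.val hw.eq))

/-- `U = (1 1; 0 1)`. -/
def uni : Matrix.SpecialLinearGroup (Fin 2) F := ⟨!![1, 1; 0, 1], by simp [Matrix.det_fin_two]⟩

theorem commutators_not_commute (h2 : (2 : F) ≠ 0) :
    ¬ Commute ⁅(rot (F := F)), uni (F := F)⁆ ⁅(rot (F := F)), (uni (F := F))⁻¹⁆ := by
  intro h
  have e1 : ⁅(rot (F := F)), uni (F := F)⁆.1 = !![1, -1; -1, 2] := by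
    show (rot (F := F)).1 * (uni (F := F)).1 * Matrix.adjugate (rot (F := F)).1 *
      Matrix.adjugate (uni (F := F)).1 = _
    ext i j
    fin_cases i <;> fin_cases j <;>
      simp [rot, uni, Matrix.mul_apply, Fin.sum_univ_two, Matrix.adjugate_fin_two] <;> norm_num
  have e2 : ⁅(rot (F := F)), (uni (F := F))⁻¹⁆.1 = !![1, 1; 1, 2] := by
    show (rot (F := F)).1 * Matrix.adjugate (uni (F := F)).1 * Matrix.adjugate (rot (F := F)).1 *
      Matrix.adjugate (Matrix.adjugate (uni (F := F)).1) = _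
    ext i j
    fin_cases i <;> fin_cases j <;>
      simp [rot, uni, Matrix.mul_apply, Fin.sum_univ_two, Matrix.adjugate_fin_two] <;> norm_num
  have h' := congrFun (congrFun (congrArg Subtype.val h.eq) 0) 1
  rw [Matrix.SpecialLinearGroup.coe_mul, Matrix.SpecialLinearGroup.coe_mul, e1, e2] at h'
  simp [Matrix.mul_apply, Fin.sum_univ_two] at h'
  exact h2 (by linear_combination (-1 : F) * h')

/-- An element centralising everything modulo the centre is central. -/
theorem mem_center_of_commutator (h2 : (2 : F) ≠ 0) {b : Matrix.SpecialLinearGroup (Fin 2) F}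
    (hb : ∀ g, ⁅b, g⁆ ∈ Subgroup.center (Matrix.SpecialLinearGroup (Fin 2) F)) :
    b ∈ Subgroup.center (Matrix.SpecialLinearGroup (Fin 2) F) := by
  by_contra hne
  exact commutators_not_commute h2 (commute_of_commute hne (commute_commutator (hb _) (hb _))
    (commute_commutator (hb _) (hb _)))

/-- Two subgroups commuting modulo the centre which generate `SL(2, F)`: one is central. -/
theorem le_center_or (h2 : (2 : F) ≠ 0) (A B : Subgroup (Matrix.SpecialLinearGroup (Fin 2) F))
    (hAB : A ⊔ B = ⊤)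
    (hc : ∀ a ∈ A, ∀ b ∈ B, ⁅a, b⁆ ∈ Subgroup.center (Matrix.SpecialLinearGroup (Fin 2) F)) :
    A ≤ Subgroup.center _ ∨ B ≤ Subgroup.center _ := by
  set Z := Subgroup.center (Matrix.SpecialLinearGroup (Fin 2) F)
  have key : ∀ P Q : Subgroup (Matrix.SpecialLinearGroup (Fin 2) F), P ⊔ Q = ⊤ →
      (∀ a ∈ P, ∀ b ∈ Q, ⁅b, a⁆ ∈ Z) → (∀ b ∈ Q, ∀ b' ∈ Q, ⁅b, b'⁆ ∈ Z) → Q ≤ Z := by
    intro P Q hPQ h1 h3 b hb
    refine mem_center_of_commutator h2 fun g => ?_
    let q := QuotientGroup.mk' Z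
    have hg : g ∈ (Subgroup.centralizer ({q b} : Set _)).comap q := by
      have hle : P ⊔ Q ≤ (Subgroup.centralizer ({q b} : Set _)).comap q := by
        apply sup_le <;> intro w hw <;> rw [Subgroup.mem_comap, Subgroup.mem_centralizer_singleton_iff]
        · have h := (QuotientGroup.eq_one_iff _).mpr (h1 w hw b hb)
          rw [show ((⁅b, w⁆ : Matrix.SpecialLinearGroup (Fin 2) F) : _ ⧸ Z) = q ⁅b, w⁆ from rfl,
            map_commutatorElement, commutatorElement_eq_one_iff_commute] at h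
          exact h.symm.eq
        · have h := (QuotientGroup.eq_one_iff _).mpr (h3 b hb w hw)
          rw [show ((⁅b, w⁆ : Matrix.SpecialLinearGroup (Fin 2) F) : _ ⧸ Z) = q ⁅b, w⁆ from rfl,
            map_commutatorElement, commutatorElement_eq_one_iff_commute] at h
          exact h.symm.eq
      exact hle (hPQ ▸ Subgroup.mem_top g)
    rw [Subgroup.mem_comap, Subgroup.mem_centralizer_singleton_iff] at hg
    refine (QuotientGroup.eq_one_iff _).mp ?_
    rw [show ((⁅b, g⁆ : Matrix.SpecialLinearGroup (Fin 2) F) : _ ⧸ Z) = q ⁅b, g⁆ from rfl,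
      map_commutatorElement, commutatorElement_eq_one_iff_commute]
    exact hg.symm
  have hsymm : ∀ a ∈ A, ∀ b ∈ B, ⁅b, a⁆ ∈ Z := fun a ha b hb => by
    rw [← commutatorElement_inv]; exact inv_mem (hc a ha b hb)
  by_cases h : ∀ a ∈ A, ∀ a' ∈ A, ⁅a, a'⁆ ∈ Z
  · exact Or.inl (key B A (by rw [sup_comm, hAB]) (fun b hb a ha => hc a ha b hb) h)
  · push Not at h
    obtain ⟨a, ha, a', ha', hne⟩ := h
    refine Or.inr (key A B hAB hsymm fun b hb b' hb' => ?_)
    have hcomm : Commute b b' := commute_of_commute hne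
      (commute_commutator (hsymm a ha b hb) (hsymm a' ha' b hb)).symm
      (commute_commutator (hsymm a ha b' hb') (hsymm a' ha' b' hb')).symm
    rw [commutatorElement_eq_one_iff_commute.mpr hcomm]
    exact one_mem _

end Cfsg.Agent.InvChar68.SL2
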