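import Cfsg.Agent.Lib.Thompson.PSolvable
import Mathlib.GroupTheory.SpecificGroups.Quaternion
import Mathlib.GroupTheory.SpecificGroups.Cyclic

/-!
# Odd elements normalising a normal subgroup of a generalized quaternion group of order at least 32
-/

set_option autoImplicit false

namespace Cfsg.Agent.InvChar68

open Subgroup

/-- An element of odd order normalising a cyclic 2-group centralises it. -/
theorem commute_of_normalize_cyclic {G : Type*} [Group G] [Finite G] {C : Subgroup G}
    [hC : IsCyclic C] {k : ℕ} (hk : Nat.card C = 2 ^ k) {g : G}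
    (hg : g ∈ normalizer (C : Set G)) (hodd : Odd (orderOf g)) : ∀ c ∈ C, Commute g c := by
  intro c hc
  let φ : MulAut C := MulEquiv.mk'
    { toFun := fun x => ⟨g * x * g⁻¹, (mem_normalizer_iff.mp hg x).mp x.2⟩
      invFun := fun x => ⟨g⁻¹ * x * g, (mem_normalizer_iff.mp hg _).mpr (by simp [mul_assoc])⟩
      left_inv := fun x => Subtype.ext (by simp [mul_assoc])
      right_inv := fun x => Subtype.ext (by simp [mul_assoc]) }
    (fun x y => Subtype.ext (by simp [mul_assoc]))
  have hpow : ∀ (m : ℕ) (x : C), ((φ ^ m) x : G) = g ^ m * x * (g ^ m)⁻¹ := by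
    intro m
    induction m with
    | zero => intro x; simp
    | succ m ih =>
      intro x
      rw [pow_succ, MulAut.mul_apply, ih]
      show g ^ m * (g * x * g⁻¹) * (g ^ m)⁻¹ = _
      rw [pow_succ]; group
  have h1 : φ ^ orderOf g = 1 := by
    ext x
    rw [hpow, pow_orderOf_eq_one]
    simp
  let ψ := IsCyclic.mulAutMulEquiv C φ
  have h2 : ψ ^ orderOf g = 1 := by rw [← map_pow, h1, map_one]
  have h3 : orderOf ψ ∣ 2 ^ k := by
    have : NeZero (Nat.card C) := ⟨Nat.card_pos.ne'⟩
    have h := orderOf_dvd_natCard ψ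
    have hu : Nat.card (ZMod (Nat.card C))ˣ = Nat.totient (2 ^ k) := by
      rw [← hk, Nat.card_eq_fintype_card (α := (ZMod (Nat.card C))ˣ), ZMod.card_units_eq_totient]
    rw [hu] at h
    refine h.trans ?_
    rcases k with _ | k
    · simp
    · rw [Nat.totient_prime_pow_succ Nat.prime_two]; simp [pow_succ]
  have h4 : ψ = 1 := by
    rw [← orderOf_eq_one_iff]
    exact Nat.eq_one_of_dvd_coprimes ((Nat.coprime_two_left.mpr hodd).pow_left k) h3
      (orderOf_dvd_of_pow_eq_one h2)
  have h5 : φ = 1 := (IsCyclic.mulAutMulEquiv C).map_eq_one_iff.mp h4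
  have h6 : g * c * g⁻¹ = c := congrArg Subtype.val (DFunLike.congr_fun h5 (⟨c, hc⟩ : C))
  exact mul_inv_eq_iff_eq_mul.mp h6

variable {G : Type*} [Group G] [Finite G]

/-- Shape of a generalized quaternion group. -/
theorem commute_of_normal_in_quaternion {n : ℕ} (hn : 3 ≤ n) (T : Subgroup G)
    (e : T ≃* QuaternionGroup (2 ^ n)) {Q : Subgroup G} (hQ : Q ≤ T)
    (hTQ : T ≤ normalizer (Q : Set G)) {g : G} (hg : g ∈ normalizer (Q : Set G))
    (hodd : Odd (orderOf g)) : ∀ q ∈ Q, Commute g q := by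
  have : NeZero (2 ^ n) := ⟨by positivity⟩
  set a : T := e.symm (QuaternionGroup.a 1) with ha
  have hout : ∀ t : T, t ∉ zpowers a → orderOf t = 4 ∧ t * a * t⁻¹ = a⁻¹ := by
    intro t ht
    rcases h : e t with i | i
    · exfalso; apply ht
      refine mem_zpowers_iff.mpr ⟨(i.val : ℤ), e.injective ?_⟩
      rw [zpow_natCast, map_pow, ha, e.apply_symm_apply, QuaternionGroup.a_one_pow, h,
        ZMod.natCast_zmod_val]
    · refine ⟨by rw [← MulEquiv.orderOf_eq e, h, QuaternionGroup.orderOf_xa], e.injective ?_⟩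
      rw [map_mul, map_mul, map_inv, map_inv, ha, e.apply_symm_apply, h, mul_inv_eq_iff_eq_mul,
        QuaternionGroup.xa_mul_a]
      show QuaternionGroup.xa (i + 1) = QuaternionGroup.a (-1) * QuaternionGroup.xa i
      rw [QuaternionGroup.a_mul_xa, sub_neg_eq_add]
  have haord : orderOf a = 2 ^ (n + 1) := by
    rw [ha, MulEquiv.orderOf_eq, QuaternionGroup.orderOf_a_one, pow_succ, mul_comm]
  set A : Subgroup G := zpowers (a : G) with hA
  have hAmem : ∀ t : T, t ∈ zpowers a ↔ (t : G) ∈ A := by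
    intro t
    simp only [hA, mem_zpowers_iff]
    constructor
    · rintro ⟨i, rfl⟩; exact ⟨i, by simp⟩
    · rintro ⟨i, hi⟩; exact ⟨i, Subtype.ext (by simpa using hi)⟩
  set C := Q ⊓ A with hC
  have hCA : C ≤ A := inf_le_right
  have hcyc : IsCyclic C := isCyclic_of_injective (Subgroup.inclusion hCA) (Subgroup.inclusion_injective _)
  obtain ⟨k, hk⟩ : ∃ k, Nat.card C = 2 ^ k := by
    have h := card_dvd_of_le hCA
    rw [hA, Nat.card_zpowers, Subgroup.orderOf_coe, haord] at h
    obtain ⟨i, -, hi⟩ := (Nat.dvd_prime_pow Nat.prime_two).mp h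
    exact ⟨i, hi⟩
  have hmem : ∀ q : G, ∀ hq : q ∈ Q, q ∉ A → (⟨q, hQ hq⟩ : T) ∉ zpowers a :=
    fun q hq h h' => h ((hAmem _).mp h')
  -- `g` normalises `C`
  have hgC : g ∈ normalizer (C : Set G) := by
    have key : ∀ c ∈ C, g * c * g⁻¹ ∈ C := by
      intro c hc
      have hQ' : g * c * g⁻¹ ∈ Q := (mem_normalizer_iff.mp hg c).mp hc.1
      by_cases hall : Q ≤ A
      · exact ⟨hQ', hall hQ'⟩
      obtain ⟨y, hy, hyA⟩ := SetLike.not_le_iff_exists.mp hall
      have hya := (hout _ (hmem y hy hyA)).2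
      have ha2 : (a : G) * a ∈ C := by
        refine ⟨?_, mul_mem (mem_zpowers _) (mem_zpowers _)⟩
        have h1 : (a : G) * y * (a : G)⁻¹ ∈ Q := (mem_normalizer_iff.mp (hTQ a.2) y).mp hy
        have h2 : y * (a : G) * y⁻¹ = (a : G)⁻¹ := congrArg Subtype.val hya
        have h3 : y * (a : G)⁻¹ * y⁻¹ = (a : G) := by
          have := congrArg Inv.inv h2
          simpa [mul_assoc] using this
        have h4 := mul_mem h1 (inv_mem hy)
        rwa [show (a : G) * y * (a : G)⁻¹ * y⁻¹ = a * (y * (a : G)⁻¹ * y⁻¹) by group, h3] at h4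
      have hk8 : 8 ≤ Nat.card C := by
        have h1 := card_le_of_le (zpowers_le.mpr ha2)
        rw [Nat.card_zpowers, ← pow_two, orderOf_pow, Subgroup.orderOf_coe, haord] at h1
        have : Nat.gcd (2 ^ (n + 1)) 2 = 2 := Nat.gcd_eq_right (dvd_pow_self 2 (by omega))
        rw [this, pow_succ, Nat.mul_div_cancel _ (by norm_num : 0 < 2)] at h1
        have : 2 ^ 3 ≤ 2 ^ n := Nat.pow_le_pow_right (by norm_num) hn
        omega
      obtain ⟨c0, hc0⟩ := hcyc.exists_generator
      have ho : orderOf (c0 : G) = Nat.card C := by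
        rw [Subgroup.orderOf_coe, orderOf_eq_card_of_forall_mem_zpowers hc0]
      have hc0' : g * (c0 : G) * g⁻¹ ∈ C := by
        have hQ0 : g * (c0 : G) * g⁻¹ ∈ Q := (mem_normalizer_iff.mp hg _).mp c0.2.1
        refine ⟨hQ0, ?_⟩
        by_contra hcon
        have h := (hout _ (hmem _ hQ0 hcon)).1
        rw [← Subgroup.orderOf_coe] at h
        have h' : orderOf (g * (c0 : G) * g⁻¹) = orderOf (c0 : G) :=
          orderOf_injective (MulAut.conj g).toMonoidHom (MulAut.conj g).injective _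
        rw [h', ho] at h
        omega
      obtain ⟨i, hi⟩ := mem_zpowers_iff.mp (hc0 ⟨c, hc⟩)
      have : (c0 : G) ^ i = c := congrArg Subtype.val hi
      rw [← this, ← conj_zpow]
      exact zpow_mem hc0' i
    exact Subgroup.mem_normalizer_fintype key
  have hfix := commute_of_normalize_cyclic hk hgC hodd
  intro q hq
  by_cases hqA : q ∈ A
  · exact hfix q ⟨hq, hqA⟩
  have hq' : g * q * g⁻¹ ∈ Q := (mem_normalizer_iff.mp hg q).mp hq
  set d := q⁻¹ * (g * q * g⁻¹) with hd
  have hdC : d ∈ C := by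
    refine mem_inf.mpr ⟨mul_mem (inv_mem hq) hq', ?_⟩
    by_cases hqA' : g * q * g⁻¹ ∈ A
    · exfalso
      apply hqA
      have h := (mem_normalizer_iff.mp hgC q).mpr ⟨hq', hqA'⟩
      exact h.2
    have h1 := hmem q hq hqA
    have h2 := hmem _ hq' hqA'
    have hidx : (zpowers a).index = 2 := by
      have h := (zpowers a).index_mul_card
      rw [Nat.card_zpowers, haord, Nat.card_congr e.toEquiv, Nat.card_eq_fintype_card,
        QuaternionGroup.card, show 4 * 2 ^ n = 2 * 2 ^ (n + 1) by rw [pow_succ]; ring] at h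
      exact Nat.eq_of_mul_eq_mul_right (by positivity) h
    have h3 : (⟨q, hQ hq⟩ : T)⁻¹ * ⟨_, hQ hq'⟩ ∈ zpowers a := by
      rw [Subgroup.mul_mem_iff_of_index_two hidx, inv_mem_iff]
      simp [h1, h2]
    exact (hAmem _).mp h3
  have hiter : ∀ m : ℕ, g ^ m * q * (g ^ m)⁻¹ = q * d ^ m := by
    intro m
    induction m with
    | zero => simp
    | succ m ih =>
      calc g ^ (m + 1) * q * (g ^ (m + 1))⁻¹ = g * (g ^ m * q * (g ^ m)⁻¹) * g⁻¹ := by
            rw [pow_succ']; group
        _ = (g * q * g⁻¹) * (g * d ^ m * g⁻¹) := by rw [ih]; group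
        _ = q * d * d ^ m := by
            rw [← conj_pow, mul_inv_eq_iff_eq_mul.mpr (hfix d hdC).eq, hd]; group
        _ = q * d ^ (m + 1) := by rw [pow_succ', mul_assoc]
  have hd1 : d = 1 := by
    have h := hiter (orderOf g)
    rw [pow_orderOf_eq_one] at h
    have h' : d ^ orderOf g = 1 := by simpa using h.symm
    have hdk : orderOf d ∣ 2 ^ k := hk ▸ Subgroup.orderOf_dvd_natCard C hdC
    rw [← orderOf_eq_one_iff]
    exact Nat.eq_one_of_dvd_coprimes ((Nat.coprime_two_left.mpr hodd).pow_left k) hdk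
      (orderOf_dvd_of_pow_eq_one h')
  have h : g * q * g⁻¹ = q := by
    rw [hd] at hd1
    exact (inv_mul_eq_one.mp hd1).symm
  exact mul_inv_eq_iff_eq_mul.mp h

end Cfsg.Agent.InvChar68
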