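import Mathlib.GroupTheory.Perm.Sign
import Mathlib.GroupTheory.SpecificGroups.Dihedral
import Mathlib.Data.ZMod.Basic
import Mathlib.Tactic

/-!
# Finite facts about `Z₂ × S₄`
-/

set_option autoImplicit false
set_option synthInstance.maxSize 4096
set_option synthInstance.maxHeartbeats 400000

namespace Cfsg.Agent.InvChar68.SymSix

open Equiv

/-- `Z₂ × S₄`. -/
abbrev P48 := Multiplicative (ZMod 2) × Perm (Fin 4)

/-- The central involution. -/
def τ : P48 := (Multiplicative.ofAdd 1, 1)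

/-- A double transposition. -/
def ω : P48 := (1, swap 0 2 * swap 1 3)

/-- A four-cycle squaring to `ω`. -/
def ρ : P48 := (1, finRotate 4)

/-- A transposition. -/
def σ0 : P48 := (1, swap 0 2)

/-- An element of order three. -/
def η : P48 := (1, swap 0 1 * swap 1 2)

/-- The projection to the first factor, as a sign. -/
def εB : P48 →* ℤˣ := MonoidHom.mk' (fun p => if p.1 = 1 then 1 else -1) (by decide +kernel)

/-- The first sign times the sign of the permutation. -/
def εA : P48 →* ℤˣ :=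
  εB * Perm.sign.comp (MonoidHom.snd (Multiplicative (ZMod 2)) (Perm (Fin 4)))

/-- The normal subgroup of order 8. -/
def InM (p : P48) : Prop := p.2 * p.2 = 1 ∧ Perm.sign p.2 = 1

/-- The normal four group. -/
def InV (p : P48) : Prop := p.1 = 1 ∧ p.2 * p.2 = 1 ∧ Perm.sign p.2 = 1

instance : DecidablePred InM := fun p =>
  inferInstanceAs (Decidable (p.2 * p.2 = 1 ∧ Perm.sign p.2 = 1))

instance : DecidablePred InV := fun p =>
  inferInstanceAs (Decidable (p.1 = 1 ∧ p.2 * p.2 = 1 ∧ Perm.sign p.2 = 1))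

theorem basic : τ * τ = 1 ∧ τ ≠ 1 ∧ ω * ω = 1 ∧ ω ≠ 1 ∧ ρ * ρ = ω ∧ η ^ 3 = 1 ∧ η ≠ 1 ∧
    σ0 * σ0 = 1 ∧ σ0 ≠ 1 ∧ (∀ p : P48, τ * p = p * τ) ∧ τ * ω = ω * τ ∧ ρ * ω = ω * ρ ∧
    σ0 * ω = ω * σ0 ∧ InV ω := by
  decide +kernel

theorem central : ∀ p : P48, p * p = 1 → p ≠ 1 → (∀ q : P48, p * q = q * p) → p = τ := by
  decide +kernel

theorem card_cent_omega :
    (Finset.univ.filter fun p : P48 => p * ω = ω * p).card = 16 := by decide +kernel

theorem card_kerA : (Finset.univ.filter fun p : P48 => εA p = 1 ∧ p * ω = ω * p).card = 8 := by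
  decide +kernel

theorem card_kerB : (Finset.univ.filter fun p : P48 => εB p = 1 ∧ p * ω = ω * p).card = 8 := by
  decide +kernel

theorem ker_A : ∀ p : P48, εA p = 1 → p * ω = ω * p → p * p = 1 →
    p = 1 ∨ (∃ c : P48, c * ω * c⁻¹ = p) ∨ ∃ c : P48, c * (τ * σ0) * c⁻¹ = p := by
  decide +kernel

theorem ker_B : ∀ p : P48, εB p = 1 → p * ω = ω * p → p * p = 1 →
    p = 1 ∨ (∃ c : P48, c * ω * c⁻¹ = p) ∨ ∃ c : P48, c * σ0 * c⁻¹ = p := by
  decide +kernel

theorem commutator_cent : ∀ a b : P48, a * ω = ω * a → b * ω = ω * b →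
    a * b * a⁻¹ * b⁻¹ = 1 ∨ a * b * a⁻¹ * b⁻¹ = ω := by
  decide +kernel

theorem commutator_omega : ρ * σ0 * ρ⁻¹ * σ0⁻¹ = ω := by decide +kernel

theorem conj_V : ∀ v : P48, InV v → v ≠ 1 → ∃ c : P48, c * ω * c⁻¹ = v := by decide +kernel

theorem exists_V_commute : ∀ a : P48, a * a = 1 → ∃ v : P48, InV v ∧ v ≠ 1 ∧ v * a = a * v := by
  decide +kernel

theorem cent_sigma : ∀ b : P48, b * σ0 = σ0 * b → b = 1 ∨ b = τ ∨
    (∃ c : P48, c * σ0 * c⁻¹ = b) ∨ (∃ c : P48, c * (τ * σ0) * c⁻¹ = b) ∨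
    ∃ y : P48, y * b = b * y ∧ y * σ0 ≠ σ0 * y := by
  decide +kernel

theorem M_closed : ∀ a b : P48, InM a → InM b → InM (a⁻¹ * b) := by decide +kernel

theorem card_M : (Finset.univ.filter fun p : P48 => InM p).card = 8 := by decide +kernel

theorem card_V : (Finset.univ.filter fun p : P48 => InV p).card = 4 := by decide +kernel

theorem V_closed : ∀ a b : P48, InV a → InV b → InV (a⁻¹ * b) := by decide +kernel

theorem commutator_M : ∀ k b : P48, InM b → InV (k * b * k⁻¹ * b⁻¹) := by decide +kernel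

theorem V_commute_M : ∀ v b : P48, InV v → InM b → v * b = b * v := by decide +kernel

theorem card_cent_M : ∀ b : P48, InM b → ¬ InV b → b ≠ τ →
    (Finset.univ.filter fun p : P48 => p * b = b * p).card = 16 := by
  decide +kernel

theorem noncommuting : ∀ p : P48, p * p = 1 → ¬ InM p →
    ∃ c : P48, p * (c * p * c⁻¹) ≠ c * p * c⁻¹ * p := by
  decide +kernel

theorem M_cases : ∀ p : P48, InM p → InV p ∨ p = τ ∨ p = τ * ω ∨
    ∃ c : P48, p = c * (τ * ω) * c⁻¹ := by
  decide +kernel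

theorem conj_tau_omega : ∀ p : P48, InM p → ¬ InV p → p ≠ τ →
    ∀ q : P48, InM q → ¬ InV q → q ≠ τ → ∃ c : P48, c * p * c⁻¹ = q := by
  decide +kernel

theorem card_M_out :
    (Finset.univ.filter fun p : P48 => InM p ∧ ¬ InV p ∧ p ≠ τ).card = 3 := by decide +kernel

theorem cent_eta_omega : ∀ p : P48, p * η = η * p → p * ω = ω * p → p = 1 ∨ p = τ := by
  decide +kernel

/-- The dihedral group centralizing a double transposition. -/
def dihedralS4 : DihedralGroup 4 →* Perm (Fin 4) := MonoidHom.mk' (fun d => match d with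
  | DihedralGroup.r i => (finRotate 4) ^ i.val
  | DihedralGroup.sr i => swap 0 2 * (finRotate 4) ^ i.val) (by decide +kernel)

theorem dihedralS4_facts : Function.Injective dihedralS4 ∧
    (∀ d, (1, dihedralS4 d) * ω = ω * (1, dihedralS4 d)) ∧
    (∀ p : P48, p * ω = ω * p → ∃ d, dihedralS4 d = p.2) := by
  decide +kernel

/-- Only the identity commutes with `A₆`. -/
theorem cent_perm_six : ∀ σ : Perm (Fin 6),
    σ * (swap 0 1 * swap 1 2) = swap 0 1 * swap 1 2 * σ →
    σ * (swap 1 2 * swap 2 3) = swap 1 2 * swap 2 3 * σ →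
    σ * (swap 2 3 * swap 3 4) = swap 2 3 * swap 3 4 * σ →
    σ * (swap 3 4 * swap 4 5) = swap 3 4 * swap 4 5 * σ → σ = 1 := by
  decide +kernel

end Cfsg.Agent.InvChar68.SymSix
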