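import Mathlib

/-!
# The fixed space of an element of order 3 of `SL(2,5)` in `Sp(4,3)`
-/

set_option autoImplicit false
set_option linter.style.haveILetI false

namespace Cfsg.Agent.InvChar68.SL25

open Matrix

variable {K : Type*} [Field K]

/-- The transvection. -/
def tv (b : K) : SpecialLinearGroup (Fin 2) K := ⟨!![1, b; 0, 1], by simp⟩

theorem tv_pow (b : K) : ∀ n : ℕ, ((tv b ^ n : SpecialLinearGroup (Fin 2) K) : Matrix (Fin 2) (Fin 2) K)
    = !![1, n * b; 0, 1]
  | 0 => by simp [Matrix.one_fin_two]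
  | n + 1 => by
    show (tv b).1 ^ (n + 1) = _
    rw [pow_succ, show (tv b).1 ^ n = _ from tv_pow b n]
    show !![1, (n : K) * b; 0, 1] * !![1, b; 0, 1] = _
    rw [Matrix.mul_fin_two]
    ext i j; fin_cases i <;> fin_cases j <;> simp; ring

theorem tv_pow_five [CharP K 5] (b : K) : tv b ^ 5 = 1 := by
  apply Subtype.ext
  show ((tv b ^ 5 : SpecialLinearGroup (Fin 2) K) : Matrix (Fin 2) (Fin 2) K) = _
  rw [tv_pow, CharP.cast_eq_zero K 5, zero_mul]
  exact Matrix.one_fin_two.symm

theorem orderOf_tv_one [CharP K 5] : orderOf (tv (1 : K)) = 5 :=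
  haveI : Fact (Nat.Prime 5) := ⟨by norm_num⟩
  orderOf_eq_prime (tv_pow_five 1) fun h => by
    have := congrArg (fun m : SpecialLinearGroup (Fin 2) K => (m : Matrix (Fin 2) (Fin 2) K) 0 1) h
    simp [tv] at this

theorem exists_inverting [Fintype K] (hK : Fintype.card K = 5)
    (x : SpecialLinearGroup (Fin 2) K) (hx : orderOf x = 3) :
    ∃ j : SpecialLinearGroup (Fin 2) K,
      (j : Matrix (Fin 2) (Fin 2) K) * j = -1 ∧ j * x = x⁻¹ * j := by
  haveI : Fact (Nat.Prime 5) := ⟨by norm_num⟩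
  haveI : CharP K 5 := charP_of_card_eq_prime hK
  have h2 : (2 : K) ≠ 0 := fun h => by
    have h' : ((2 : ℕ) : K) = 0 := by exact_mod_cast h
    rw [CharP.cast_eq_zero_iff K 5] at h'; norm_num at h'
  have h3 : (3 : K) ≠ 0 := fun h => by
    have h' : ((3 : ℕ) : K) = 0 := by exact_mod_cast h
    rw [CharP.cast_eq_zero_iff K 5] at h'; norm_num at h'
  have h4 : (4 : K) ≠ 0 := by rw [show (4 : K) = 2 * 2 by norm_num]; exact mul_ne_zero h2 h2
  obtain ⟨a, b, c, d, hA⟩ : ∃ a b c d : K, (x : Matrix (Fin 2) (Fin 2) K) = !![a, b; c, d] :=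
    ⟨_, _, _, _, Matrix.eta_fin_two _⟩
  have hdet : a * d - b * c = 1 := by
    have h := x.2; rw [hA, Matrix.det_fin_two_of] at h; exact h
  have hx3 : x ^ 3 = 1 := hx ▸ pow_orderOf_eq_one x
  have hA3 : (x : Matrix (Fin 2) (Fin 2) K) ^ 3 = 1 := congrArg Subtype.val hx3
  rw [hA, pow_succ, pow_two, Matrix.mul_fin_two, Matrix.mul_fin_two, Matrix.one_fin_two] at hA3
  have e00 := congrFun (congrFun hA3 0) 0
  have e10 := congrFun (congrFun hA3 1) 0
  have e11 := congrFun (congrFun hA3 1) 1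
  simp at e00 e10 e11
  have hc : c ≠ 0 := by
    intro hc
    subst hc
    have ha3 : a ^ 3 = 1 := by linear_combination e00
    have ha0 : a ≠ 0 := fun h => by simp [h] at ha3
    have ha4 : a ^ 4 = 1 := by
      have := FiniteField.pow_card_sub_one_eq_one a ha0
      rwa [hK] at this
    have ha : a = 1 := by
      rw [pow_succ, ha3, one_mul] at ha4; exact ha4
    subst ha
    have hd : d = 1 := by linear_combination hdet
    subst hd
    have h5 : x ^ 5 = 1 := by
      rw [show x = tv b from Subtype.ext hA, tv_pow_five]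
    have := orderOf_dvd_of_pow_eq_one h5
    rw [hx] at this; norm_num at this
  have ht : a + d = -1 := by
    have hcc : ((a + d) ^ 2 - 1) * c = 0 := by linear_combination e10 + c * hdet
    have ht2 : (a + d) ^ 2 - 1 = 0 := (mul_eq_zero.mp hcc).resolve_right hc
    linear_combination -e11 + (-(a + d) - d) * hdet + d * ht2
  have hdisc : (a - d) ^ 2 + 4 * b * c = -3 := by
    linear_combination (-4 : K) * hdet + (a + d - 1) * ht
  obtain ⟨P, r, hPr⟩ := FiniteField.exists_root_sum_quadratic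
    (f := -(Polynomial.X ^ 2) - 1) (g := Polynomial.C (-3 / (4 * c ^ 2)) * Polynomial.X ^ 2)
    (by compute_degree!) (by
      rw [Polynomial.degree_C_mul_X_pow 2
        (div_ne_zero (neg_ne_zero.mpr h3) (mul_ne_zero h4 (pow_ne_zero 2 hc)))]
      rfl) (by rw [hK])
  simp only [Polynomial.eval_sub, Polynomial.eval_neg, Polynomial.eval_pow, Polynomial.eval_X,
    Polynomial.eval_one, Polynomial.eval_mul, Polynomial.eval_C] at hPr
  obtain ⟨p, hp⟩ : ∃ p, p = P + r * (a - d) / (2 * c) := ⟨_, rfl⟩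
  obtain ⟨q, hq⟩ : ∃ q, q = -(p * (a - d) + r * b) / c := ⟨_, rfl⟩
  have hlin : p * (a - d) + q * c + r * b = 0 := by rw [hq]; field_simp; ring
  have hdetj : -(p * p) - q * r = 1 := by
    rw [hq, hp]
    field_simp at hPr ⊢
    linear_combination hPr + r ^ 2 * hdisc
  let j : SpecialLinearGroup (Fin 2) K := ⟨!![p, q; r, -p], by
    rw [Matrix.det_fin_two_of]; linear_combination hdetj⟩
  refine ⟨j, ?_, ?_⟩
  · show !![p, q; r, -p] * !![p, q; r, -p] = -1
    rw [Matrix.mul_fin_two, Matrix.one_fin_two]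
    ext i k; fin_cases i <;> fin_cases k <;> simp <;>
      first
        | ring1
        | linear_combination (-1 : K) * hdetj
  · apply Subtype.ext
    show !![p, q; r, -p] * x.1 = Matrix.adjugate x.1 * !![p, q; r, -p]
    rw [show x.1 = !![a, b; c, d] from hA, Matrix.adjugate_fin_two_of]
    rw [Matrix.mul_fin_two, Matrix.mul_fin_two]
    ext i k; fin_cases i <;> fin_cases k <;> simp <;>
      first
        | ring1
        | linear_combination hlin
        | linear_combination (-1 : K) * hlin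

variable {F : Type*} [Field F] [Fintype F]

theorem not_five_dvd_GL (hF : Fintype.card F = 3) {n : ℕ} (hn : n ≤ 3) :
    ¬ 5 ∣ Nat.card (GL (Fin n) F) := by
  rw [Matrix.card_GL_field, hF]
  interval_cases n <;> simp [Fin.prod_univ_succ]

theorem eq_one_of_pow_five {W : Type*} [AddCommGroup W] [Module F W] [Module.Finite F W]
    (hF : Fintype.card F = 3) (hd : Module.finrank F W ≤ 3) (g : Module.End F W) (hg : g ^ 5 = 1) :
    g = 1 := by
  haveI : Fact (Nat.Prime 5) := ⟨by norm_num⟩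
  let e : (Module.End F W)ˣ ≃* GL (Fin (Module.finrank F W)) F :=
    Units.mapEquiv (LinearMap.toMatrixAlgEquiv (Module.finBasis F W)).toMulEquiv
  let u : (Module.End F W)ˣ := Units.ofPowEqOne g 5 hg (by norm_num)
  have hu : u ^ 5 = 1 := Units.ext hg
  by_contra hne
  have ho : orderOf (e u) = 5 := by
    rw [MulEquiv.orderOf_eq]
    exact orderOf_eq_prime hu fun h => hne (congrArg Units.val h)
  exact not_five_dvd_GL hF hd (ho ▸ orderOf_dvd_natCard _)

theorem main (hF : Fintype.card F = 3) [Fintype K] (hK : Fintype.card K = 5)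
    (φ : SpecialLinearGroup (Fin 2) K →* ↥(symplecticGroup (Fin 2) F)) (hφ : Function.Injective φ)
    (x : SpecialLinearGroup (Fin 2) K) (hx : orderOf x = 3) :
    Module.finrank F ↥(LinearMap.ker (toLin' ((φ x : Matrix (Fin 2 ⊕ Fin 2) (Fin 2 ⊕ Fin 2) F)) - LinearMap.id)) = 2 ∧
      ∀ v w : Fin 2 ⊕ Fin 2 → F, (φ x : Matrix (Fin 2 ⊕ Fin 2) (Fin 2 ⊕ Fin 2) F).mulVec v = v →
        (φ x : Matrix (Fin 2 ⊕ Fin 2) (Fin 2 ⊕ Fin 2) F).mulVec w = w →
          dotProduct v ((Matrix.J (Fin 2) F).mulVec w) = 0 := by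
  classical
  haveI : Fact (Nat.Prime 5) := ⟨by norm_num⟩
  haveI : Fact (Nat.Prime 3) := ⟨by norm_num⟩
  haveI : CharP K 5 := charP_of_card_eq_prime hK
  haveI : CharP F 3 := charP_of_card_eq_prime hF
  have h2 : (2 : F) ≠ 0 := fun h => by
    have h' : ((2 : ℕ) : F) = 0 := by exact_mod_cast h
    rw [CharP.cast_eq_zero_iff F 3] at h'; norm_num at h'
  set L := Matrix.toLinAlgEquiv' (R := F) (n := Fin 2 ⊕ Fin 2) with hL
  let ψ : SpecialLinearGroup (Fin 2) K →* Module.End F (Fin 2 ⊕ Fin 2 → F) :=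
    (L.toMonoidHom.comp (symplecticGroup (Fin 2) F).subtype).comp φ
  have hψ : Function.Injective ψ := L.injective.comp (Subtype.val_injective.comp hφ)
  have hdim : Module.finrank F (Fin 2 ⊕ Fin 2 → F) = 4 := by simp
  have hx3 : x ^ 3 = 1 := hx ▸ pow_orderOf_eq_one x
  -- the central involution maps to `-1`
  obtain ⟨j, hj2, hjx⟩ := exists_inverting hK x hx
  set m := j * j with hm
  have hm' : m.1 = -1 := hj2
  have hmm : m * m = 1 := Subtype.ext (by
    show m.1 * m.1 = (1 : Matrix (Fin 2) (Fin 2) K)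
    rw [hm', neg_mul_neg, one_mul])
  have hm1 : m ≠ 1 := fun h => by
    have h' := congrArg (fun a : SpecialLinearGroup (Fin 2) K => (a : Matrix (Fin 2) (Fin 2) K) 0 0) h
    change m.1 0 0 = (1 : Matrix (Fin 2) (Fin 2) K) 0 0 at h'
    rw [hm'] at h'
    simp only [Matrix.neg_apply, Matrix.one_apply_eq] at h'
    have h5 : ((2 : ℕ) : K) = 0 := by push_cast; linear_combination -h'
    rw [CharP.cast_eq_zero_iff K 5] at h5; norm_num at h5
  have hmc : Commute m (tv (1 : K)) := Subtype.ext (by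
    show m.1 * (tv (1 : K)).1 = (tv (1 : K)).1 * m.1
    rw [hm', neg_mul, mul_neg, one_mul, mul_one])
  set C := ψ m with hCdef
  set Y := ψ (tv (1 : K)) with hY
  have hCC : C * C = 1 := by rw [hCdef, ← map_mul, hmm, map_one]
  have hCY : Commute C Y := hmc.map ψ
  have hY5 : Y ^ 5 = 1 := by rw [hY, ← map_pow, tv_pow_five, map_one]
  have hC1 : C ≠ 1 := fun h => hm1 (hψ (by rw [← hCdef, h, map_one]))
  have hC : C = -1 := by
    by_contra hne
    have hinv : ∀ ε : F, C ≠ ε • 1 → ∀ v, C v = ε • v → Y v = v := by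
      intro ε hCε v hv
      set W := LinearMap.ker (C - ε • (1 : Module.End F _)) with hW
      have hW3 : Module.finrank F W ≤ 3 := by
        have h := Submodule.finrank_lt (K := F) (s := W) (fun ht => hCε (by
          rw [hW, LinearMap.ker_eq_top, sub_eq_zero] at ht; exact ht))
        rw [hdim] at h; omega
      have hmem : ∀ u, u ∈ W ↔ C u = ε • u := fun u => by
        rw [hW, LinearMap.mem_ker, LinearMap.sub_apply, sub_eq_zero]; rfl
      have hYW : ∀ u ∈ W, Y u ∈ W := fun u hu => by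
        rw [hmem] at hu ⊢
        rw [← Module.End.mul_apply, hCY.eq, Module.End.mul_apply, hu, map_smul]
      have hg : (Y.restrict hYW) ^ 5 = 1 := by
        rw [Module.End.pow_restrict]
        ext u : 1; apply Subtype.ext
        simp [hY5]
      have h1 := eq_one_of_pow_five hF hW3 _ hg
      have := congrArg (fun g : Module.End F W => ((g ⟨v, (hmem v).mpr hv⟩ : W) : Fin 2 ⊕ Fin 2 → F)) h1
      simpa using this
    have hY1 : Y = 1 := by
      refine LinearMap.ext fun v => ?_
      have hp := hinv 1 (by simpa using hC1) (v + C v) (by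
        rw [map_add, one_smul, ← Module.End.mul_apply, hCC, Module.End.one_apply, add_comm])
      have hn := hinv (-1) (fun h => hne (h.trans (LinearMap.ext fun u => by simp))) (v - C v) (by
        rw [map_sub, ← Module.End.mul_apply, hCC, Module.End.one_apply, neg_one_smul, neg_sub])
      have hsum : Y ((2 : F) • v) = (2 : F) • v := by
        rw [show (2 : F) • v = (v + C v) + (v - C v) by rw [two_smul]; abel, map_add, hp, hn]
      rw [map_smul] at hsum
      exact smul_right_injective _ h2 hsum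
    have := orderOf_tv_one (K := K)
    rw [show tv (1 : K) = 1 from hψ (by rw [← hY, hY1, map_one]), orderOf_one] at this
    norm_num at this
  -- the fixed space
  set A := ψ x with hA
  set J' := ψ j with hJ'
  have hJJ : J' * J' = -1 := by rw [hJ', ← map_mul, ← hm, ← hCdef, hC]
  have hAeq : toLin' (φ x : Matrix (Fin 2 ⊕ Fin 2) (Fin 2 ⊕ Fin 2) F) = A := rfl
  rw [hAeq]
  set N : Module.End F (Fin 2 ⊕ Fin 2 → F) := A - 1 with hN
  change Module.finrank F ↥(LinearMap.ker N) = 2 ∧ _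
  have hA3 : A ^ 3 = 1 := by rw [hA, ← map_pow, hx3, map_one]
  have hA1 : A ≠ 1 := fun h => by
    rw [show x = 1 from hψ (by rw [← hA, h, map_one]), orderOf_one] at hx; norm_num at hx
  have hN3 : N ^ 3 = 0 := by
    haveI : CharP (Module.End F (Fin 2 ⊕ Fin 2 → F)) 3 :=
      charP_of_injective_algebraMap (algebraMap F _).injective 3
    rw [hN, sub_pow_char_of_commute (p := 3) (h := Commute.one_right A), hA3, one_pow, sub_self]
  have hNne : N ≠ 0 := sub_ne_zero.mpr hA1
  have hfix : ∀ v, v ∈ LinearMap.ker N ↔ A v = v := fun v => by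
    rw [LinearMap.mem_ker, hN, LinearMap.sub_apply, sub_eq_zero, Module.End.one_apply]
  -- a fixed vector in the range
  obtain ⟨r, hr0, hrN, hrr⟩ : ∃ r, r ≠ 0 ∧ N r = 0 ∧ ∃ u, N u = r := by
    by_cases h2N : N ^ 2 = 0
    · obtain ⟨u, hu⟩ : ∃ u, N u ≠ 0 := by
        by_contra h; push Not at h; exact hNne (LinearMap.ext h)
      exact ⟨N u, hu, by rw [← Module.End.mul_apply, ← sq, h2N]; rfl, u, rfl⟩
    · obtain ⟨u, hu⟩ : ∃ u, (N ^ 2) u ≠ 0 := by
        by_contra h; push Not at h; exact h2N (LinearMap.ext h)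
      refine ⟨(N ^ 2) u, hu, ?_, N u, ?_⟩
      · rw [← Module.End.mul_apply, ← pow_succ', hN3]; rfl
      · rw [← Module.End.mul_apply, ← sq]
  set W := LinearMap.ker N with hW
  have hd0 : Module.finrank F W ≠ 0 := fun h => by
    rw [Submodule.finrank_eq_zero] at h
    exact hr0 ((Submodule.eq_bot_iff _).mp h r hrN)
  have hd4 : Module.finrank F W < 4 := by
    rw [← hdim]
    exact Submodule.finrank_lt (fun h => hNne (LinearMap.ker_eq_top.mp h))
  -- `j` acts on the fixed space with square `-1`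
  have hjinv : J' * A ^ 2 = A * J' := by
    have h : j * x⁻¹ = x * j := by
      apply mul_right_cancel (b := x)
      rw [inv_mul_cancel_right, mul_assoc, hjx, mul_inv_cancel_left]
    rw [hJ', hA, ← map_pow, ← map_mul, ← map_mul,
      show x ^ 2 = x⁻¹ from eq_inv_of_mul_eq_one_left (by rw [← pow_succ]; exact hx3), h]
  have hJW : ∀ v ∈ W, J' v ∈ W := by
    intro v hv
    rw [hfix] at hv ⊢
    have h := LinearMap.congr_fun hjinv v
    rw [Module.End.mul_apply, Module.End.mul_apply, sq, Module.End.mul_apply, hv, hv] at h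
    exact h.symm
  set g : Module.End F W := J'.restrict hJW with hg
  have hgg : g * g = -1 := by
    apply LinearMap.ext; intro v; apply Subtype.ext
    exact LinearMap.congr_fun hJJ (v : Fin 2 ⊕ Fin 2 → F)
  have hdet : (LinearMap.det g) ^ 2 = (-1 : F) ^ Module.finrank F W := by
    rw [sq, ← map_mul, hgg, show (-1 : Module.End F W) = (-1 : F) • 1 from LinearMap.ext fun u => by simp,
      LinearMap.det_smul, map_one, mul_one]
  have heven : Even (Module.finrank F W) := by
    by_contra h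
    rw [Nat.not_even_iff_odd] at h
    rw [h.neg_one_pow] at hdet
    have := FiniteField.isSquare_neg_one_iff.mp ⟨LinearMap.det g, by rw [← sq]; exact hdet.symm⟩
    exact this (by rw [hF])
  have hd2 : Module.finrank F W = 2 := by
    obtain ⟨k, hk⟩ := heven; omega
  refine ⟨hd2, fun v w hv hw => ?_⟩
  by_contra hvw
  set Jm := Matrix.J (Fin 2) F with hJm
  have hanti : ∀ a b : Fin 2 ⊕ Fin 2 → F, a ⬝ᵥ Jm *ᵥ b = -(b ⬝ᵥ Jm *ᵥ a) := fun a b => by
    rw [dotProduct_mulVec, ← mulVec_transpose, hJm, Matrix.J_transpose, neg_mulVec, neg_dotProduct,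
      dotProduct_comm]
  have hself : ∀ a : Fin 2 ⊕ Fin 2 → F, a ⬝ᵥ Jm *ᵥ a = 0 := fun a => by
    have h : (2 : F) * (a ⬝ᵥ Jm *ᵥ a) = 0 := by linear_combination hanti a a
    exact (mul_eq_zero.mp h).resolve_left h2
  have hisom : ∀ a b, (A a) ⬝ᵥ Jm *ᵥ (A b) = a ⬝ᵥ Jm *ᵥ b := fun a b => by
    show ((φ x : Matrix _ _ F) *ᵥ a) ⬝ᵥ Jm *ᵥ ((φ x : Matrix _ _ F) *ᵥ b) = _
    have h := SymplecticGroup.mem_iff'.mp (φ x).2
    rw [← hJm] at h
    rw [dotProduct_comm, dotProduct_mulVec, ← mulVec_transpose, mulVec_mulVec, mulVec_mulVec,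
      h, dotProduct_comm]
  have hperp : ∀ t, A t = t → r ⬝ᵥ Jm *ᵥ t = 0 := by
    obtain ⟨u, hu⟩ := hrr
    intro t ht
    rw [← hu, hN, LinearMap.sub_apply, Module.End.one_apply, sub_dotProduct]
    nth_rw 1 [← ht]
    rw [hisom, sub_self]
  let Ψ : W →ₗ[F] (Fin 2 → F) :=
    { toFun := fun t => ![(t : Fin 2 ⊕ Fin 2 → F) ⬝ᵥ Jm *ᵥ v, (t : Fin 2 ⊕ Fin 2 → F) ⬝ᵥ Jm *ᵥ w]
      map_add' := fun s t => by ext i; fin_cases i <;> simp [add_dotProduct]
      map_smul' := fun s t => by ext i; fin_cases i <;> simp [smul_dotProduct] }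
  have hsurj : Function.Surjective Ψ := by
    intro f
    refine ⟨(f 1 / (v ⬝ᵥ Jm *ᵥ w)) • ⟨v, (hfix v).mpr hv⟩ +
      (-(f 0) / (v ⬝ᵥ Jm *ᵥ w)) • ⟨w, (hfix w).mpr hw⟩, ?_⟩
    ext i
    fin_cases i <;> simp [Ψ, add_dotProduct, smul_dotProduct, hself, hanti w v] <;> field_simp
  have hinj : Function.Injective Ψ :=
    (LinearMap.injective_iff_surjective_of_finrank_eq_finrank (by rw [hd2]; simp)).mpr hsurj
  have h0 : Ψ ⟨r, hrN⟩ = Ψ 0 := by
    rw [map_zero]
    ext i; fin_cases i <;> simp [Ψ, hperp v hv, hperp w hw]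
  exact hr0 (congrArg Subtype.val (hinj h0))

end Cfsg.Agent.InvChar68.SL25
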