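import Cfsg.Agent.InvChar68.FourCentralizer
import Cfsg.Agent.PLocalB.PConstrained
import Cfsg.Agent.Class49.CharTwoLocal
import Cfsg.Prelude.Def_Local

/-!
# Cores of centralizers of commuting involutions when the 2-locals are constrained
-/

set_option autoImplicit false

namespace Cfsg.Agent.InvChar68.Signalizer

open Subgroup

variable {G : Type*} [Group G] [Finite G]

/-- `O(C(i))`. -/
local notation "θ" => Cfsg.centralizerPPrimeCore (G := G) 2

theorem cpc_le (i : G) : θ i ≤ centralizer ({i} : Set G) := map_subtype_le _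

theorem cpc_odd (i : G) : Odd (Nat.card (θ i)) := by
  rw [Cfsg.centralizerPPrimeCore, card_map_of_injective (subtype_injective _)]
  exact Nat.coprime_two_right.mp Thompson.card_pPrimeCore_coprime

theorem le_normalizer_cpc (i : G) :
    centralizer ({i} : Set G) ≤ normalizer ((θ i : Subgroup G) : Set G) := by
  rw [Subgroup.le_normalizer_iff]
  rintro g hg _ ⟨x, hx, rfl⟩
  exact ⟨⟨g, hg⟩ * x * (⟨g, hg⟩)⁻¹, Thompson.instPPrimeCoreNormal.conj_mem x hx _, rfl⟩

theorem le_cpc {j : G} {K : Subgroup G} (hK : K ≤ centralizer ({j} : Set G))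
    (hn : centralizer ({j} : Set G) ≤ normalizer (K : Set G)) (hodd : Odd (Nat.card K)) : K ≤ θ j := by
  have hN : (K.subgroupOf (centralizer ({j} : Set G))).Normal :=
    normal_subgroupOf_of_le_normalizer hn
  have h : K.subgroupOf (centralizer ({j} : Set G)) ≤ Cfsg.pPrimeCore 2 _ :=
    Thompson.le_pPrimeCore hN (Nat.coprime_two_right.mpr
      (hodd.of_dvd_nat (card_comap_dvd_of_injective K _ (subtype_injective _))))
  intro x hx
  exact ⟨⟨x, hK hx⟩, h hx, rfl⟩

theorem conj_mem_cpc {i x : G} (g : G) (hx : x ∈ θ i) : g * x * g⁻¹ ∈ θ (g * i * g⁻¹) := by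
  suffices h : (θ i).map (MulAut.conj g).toMonoidHom ≤ θ (g * i * g⁻¹) from
    h ⟨x, hx, by simp⟩
  have hc : ∀ y : G, y ∈ centralizer ({g * i * g⁻¹} : Set G) ↔
      g⁻¹ * y * g ∈ centralizer ({i} : Set G) := by
    intro y
    rw [mem_centralizer_singleton_iff, mem_centralizer_singleton_iff]
    constructor <;> intro h
    · calc g⁻¹ * y * g * i = g⁻¹ * (y * (g * i * g⁻¹)) * g := by group
        _ = g⁻¹ * (g * i * g⁻¹ * y) * g := by rw [h]
        _ = _ := by group
    · calc y * (g * i * g⁻¹) = g * (g⁻¹ * y * g * i) * g⁻¹ := by group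
        _ = g * (i * (g⁻¹ * y * g)) * g⁻¹ := by rw [h]
        _ = _ := by group
  refine le_cpc ?_ ?_ ?_
  · rintro _ ⟨y, hy, rfl⟩
    rw [hc]
    simpa [mul_assoc] using cpc_le i hy
  · rw [Subgroup.le_normalizer_iff]
    rintro a ha _ ⟨y, hy, rfl⟩
    have hn := (mem_normalizer_iff.mp (le_normalizer_cpc i ((hc a).mp ha)) y).mp hy
    refine ⟨_, hn, ?_⟩
    simp [mul_assoc]
  · rw [card_map_of_injective (MulAut.conj g).injective]
    exact cpc_odd i

theorem cpc_eq_bot_of_conj {i : G} (g : G) (h : θ (g * i * g⁻¹) = ⊥) : θ i = ⊥ := by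
  rw [eq_bot_iff]
  intro x hx
  have hm := conj_mem_cpc g hx
  rw [h, mem_bot, mul_inv_eq_one, mul_eq_left] at hm
  exact hm

/-- Balance for constrained centralizers. -/
theorem inf_centralizer_le {i j : G} (hi : orderOf i = 2)
    (hC : Cfsg.IsPConstrained 2 ↥(centralizer ({j} : Set G))) (hij : Commute i j) :
    θ i ⊓ centralizer ({j} : Set G) ≤ θ j := by
  set iC : centralizer ({j} : Set G) := ⟨i, mem_centralizer_singleton_iff.mpr hij.eq⟩ with hiC
  have hio : orderOf iC = 2 := by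
    rw [← Subgroup.orderOf_coe]
    exact hi
  have hH := Class49.normalizer_zpowers_of_orderOf_two hio
  have hP : IsPGroup 2 (zpowers iC) := IsPGroup.of_card (n := 1) (by rw [Nat.card_zpowers, hio, pow_one])
  obtain ⟨hcore, -⟩ := PLocalB.local_facts hC (zpowers iC)
    (normalizer ((zpowers iC : Subgroup _) : Set _)) hP (centralizer_le_normalizer _) le_rfl
    (normal_subgroupOf_of_le_normalizer le_normalizer)
  set H := normalizer ((zpowers iC : Subgroup _) : Set (centralizer ({j} : Set G))) with hHdef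
  let K : Subgroup ↥H := ((θ i).subgroupOf (centralizer ({j} : Set G))).subgroupOf H
  have hKn : K.Normal := by
    constructor
    intro k hk h
    have hhi : ((h : centralizer ({j} : Set G)) : G) ∈ centralizer ({i} : Set G) := by
      have h1 : (h : centralizer ({j} : Set G)) ∈ centralizer ({iC} : Set _) := hH ▸ h.2
      rw [mem_centralizer_singleton_iff] at h1 ⊢
      exact congrArg Subtype.val h1
    exact (mem_normalizer_iff.mp (le_normalizer_cpc i hhi) _).mp hk
  have hKo : (Nat.card K).Coprime 2 := Nat.coprime_two_right.mpr ((cpc_odd i).of_dvd_nat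
    ((card_comap_dvd_of_injective _ _ (subtype_injective _)).trans
      (card_comap_dvd_of_injective _ _ (subtype_injective _))))
  have hKle : K ≤ Cfsg.pPrimeCore 2 ↥H := Thompson.le_pPrimeCore hKn hKo
  rintro x ⟨hxi, hxj⟩
  have hxH : (⟨x, hxj⟩ : centralizer ({j} : Set G)) ∈ H := by
    rw [hH, mem_centralizer_singleton_iff]
    exact Subtype.ext (mem_centralizer_singleton_iff.mp (cpc_le i hxi))
  have h := hKle (show (⟨⟨x, hxj⟩, hxH⟩ : ↥H) ∈ K from hxi)
  rw [hcore] at h
  exact ⟨⟨x, hxj⟩, h, rfl⟩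

/-- `O(C(i))` is inverted by a commuting involution `z` with `O(C(z)) = 1`. -/
theorem inverts_cpc {i z : G} (hi : orderOf i = 2) (hz : z * z = 1)
    (hC : Cfsg.IsPConstrained 2 ↥(centralizer ({z} : Set G))) (hθz : θ z = ⊥)
    (hiz : Commute i z) : ∀ x ∈ θ i, z * x * z⁻¹ = x⁻¹ := by
  have hzi : z ∈ centralizer ({i} : Set G) := mem_centralizer_singleton_iff.mpr hiz.eq.symm
  refine FourCent.inverts_of_fixed hz (θ i)
    (fun a ha => (mem_normalizer_iff.mp (le_normalizer_cpc i hzi) a).mp ha) fun a ha hfix => ?_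
  have h : a ∈ θ z := inf_centralizer_le hi hC hiz
    ⟨ha, mem_centralizer_singleton_iff.mpr (mul_inv_eq_iff_eq_mul.mp hfix).symm⟩
  rwa [hθz, mem_bot] at h

omit [Finite G] in
theorem commute_of_inverted {z : G} {X : Subgroup G} (h : ∀ x ∈ X, z * x * z⁻¹ = x⁻¹) {x y : G}
    (hx : x ∈ X) (hy : y ∈ X) : Commute x y := by
  have e : (x * y)⁻¹ = x⁻¹ * y⁻¹ := by
    rw [← h _ (mul_mem hx hy), ← h x hx, ← h y hy]
    group
  have e2 := congrArg (fun t => t⁻¹) e
  simp only [inv_inv, mul_inv_rev] at e2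
  exact e2

/-- An element of an odd subgroup inverted by `z` splits along a commuting involution `c`. -/
theorem exists_mul_of_inverted {z c : G} {X : Subgroup G} (hX : Odd (Nat.card X))
    (hinv : ∀ x ∈ X, z * x * z⁻¹ = x⁻¹) (hc : c * c = 1)
    (hnorm : ∀ x ∈ X, c * x * c⁻¹ ∈ X) {x : G} (hx : x ∈ X) :
    ∃ u w : G, u ∈ X ∧ u ∈ centralizer ({c} : Set G) ∧ w ∈ X ∧
      w ∈ centralizer ({c * z} : Set G) ∧ x = u * w := by
  have hci : c⁻¹ = c := inv_eq_of_mul_eq_one_right hc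
  set x' := c * x * c⁻¹ with hx'
  have hx'X : x' ∈ X := hnorm x hx
  have hcomm : Commute x x' := commute_of_inverted hinv hx hx'X
  have hconj : c * x' * c⁻¹ = x := by
    rw [hx', hci]
    calc c * (c * x * c) * c = (c * c) * x * (c * c) := by group
      _ = x := by rw [hc]; group
  have hu : c * (x * x') * c⁻¹ = x * x' := by
    calc c * (x * x') * c⁻¹ = (c * x * c⁻¹) * (c * x' * c⁻¹) := by group
      _ = x * x' := by rw [hconj, ← hx', hcomm.eq]
  have hw : c * (x * x'⁻¹) * c⁻¹ = (x * x'⁻¹)⁻¹ := by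
    calc c * (x * x'⁻¹) * c⁻¹ = (c * x * c⁻¹) * (c * x' * c⁻¹)⁻¹ := by group
      _ = (x * x'⁻¹)⁻¹ := by rw [hconj, ← hx', mul_inv_rev, inv_inv]
  have hwX : x * x'⁻¹ ∈ X := mul_mem hx (inv_mem hx'X)
  obtain ⟨k, hk⟩ := hX.of_dvd_nat (Subgroup.orderOf_dvd_natCard X hx)
  have huc : x * x' ∈ centralizer ({c} : Set G) :=
    mem_centralizer_singleton_iff.mpr (mul_inv_eq_iff_eq_mul.mp hu).symm
  have hwc : x * x'⁻¹ ∈ centralizer ({c * z} : Set G) := by
    refine mem_centralizer_singleton_iff.mpr (mul_inv_eq_iff_eq_mul.mp ?_).symm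
    calc c * z * (x * x'⁻¹) * (c * z)⁻¹ = c * (z * (x * x'⁻¹) * z⁻¹) * c⁻¹ := by group
      _ = c * (x * x'⁻¹)⁻¹ * c⁻¹ := by rw [hinv _ hwX]
      _ = (c * (x * x'⁻¹) * c⁻¹)⁻¹ := by group
      _ = x * x'⁻¹ := by rw [hw, inv_inv]
  refine ⟨(x * x') ^ (k + 1), (x * x'⁻¹) ^ (k + 1), pow_mem (mul_mem hx hx'X) _, pow_mem huc _,
    pow_mem hwX _, pow_mem hwc _, ?_⟩
  have h2 : Commute (x * x') (x * x'⁻¹) :=
    commute_of_inverted hinv (mul_mem hx hx'X) hwX
  rw [← h2.mul_pow, hcomm.eq, mul_assoc, ← mul_assoc x x x'⁻¹,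
    show x * x * x'⁻¹ = x'⁻¹ * (x * x) from
      ((hcomm.inv_right).mul_left (hcomm.inv_right)).eq,
    mul_inv_cancel_left, ← sq, ← pow_mul, show 2 * (k + 1) = (2 * k + 1) + 1 by ring, pow_succ,
    ← hk, pow_orderOf_eq_one, one_mul]

/-- Hypotheses: an elementary abelian 2-group `E` whose involutions have constrained centralizers,
containing `z` with `O(C(z)) = 1`, with at least 8 elements. -/
structure Data (E : Subgroup G) (z : G) : Prop where
  sq : ∀ a ∈ E, a * a = 1
  comm : ∀ a ∈ E, ∀ b ∈ E, Commute a b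
  card : 8 ≤ Nat.card E
  mem : z ∈ E
  ne : z ≠ 1
  core : θ z = ⊥
  con : ∀ j : G, orderOf j = 2 → Cfsg.IsPConstrained 2 ↥(centralizer ({j} : Set G))

variable {E : Subgroup G} {z : G}

omit [Finite G] in
theorem Data.order (D : Data E z) {a : G} (ha : a ∈ E) (h1 : a ≠ 1) : orderOf a = 2 :=
  orderOf_eq_prime (by rw [pow_two]; exact D.sq a ha) h1

theorem Data.le_of_commute (D : Data E z) {a j x : G} (ha : a ∈ E) (ha1 : a ≠ 1) (hj : j ∈ E)
    (hj1 : j ≠ 1) (hx : x ∈ θ a) (hxj : x ∈ centralizer ({j} : Set G)) : x ∈ θ j :=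
  inf_centralizer_le (D.order ha ha1) (D.con j (D.order hj hj1)) (D.comm a ha j hj) ⟨hx, hxj⟩

theorem Data.inverts (D : Data E z) {a : G} (ha : a ∈ E) (ha1 : a ≠ 1) :
    ∀ x ∈ θ a, z * x * z⁻¹ = x⁻¹ :=
  inverts_cpc (D.order ha ha1) (D.sq z D.mem) (D.con z (D.order D.mem D.ne)) D.core
    (D.comm a ha z D.mem)

theorem Data.split (D : Data E z) {a c x : G} (ha : a ∈ E) (ha1 : a ≠ 1) (hc : c ∈ E)
    (hx : x ∈ θ a) :
    ∃ u w : G, u ∈ θ a ∧ u ∈ centralizer ({c} : Set G) ∧ w ∈ θ a ∧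
      w ∈ centralizer ({c * z} : Set G) ∧ x = u * w :=
  exists_mul_of_inverted (cpc_odd a) (D.inverts ha ha1) (D.sq c hc)
    (fun y hy => (mem_normalizer_iff.mp
      (le_normalizer_cpc a (mem_centralizer_singleton_iff.mpr (D.comm c hc a ha).eq)) y).mp hy) hx

theorem Data.commute_same (D : Data E z) {a x y : G} (ha : a ∈ E) (ha1 : a ≠ 1) (hx : x ∈ θ a)
    (hy : y ∈ θ a) : Commute x y :=
  commute_of_inverted (D.inverts ha ha1) hx hy

omit [Finite G] in
theorem Data.ne_one (D : Data E z) {a b : G} (ha : a ∈ E) (h : b ≠ a) : a * b ≠ 1 := fun e =>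
  h (by rw [← inv_eq_of_mul_eq_one_right (D.sq a ha), inv_eq_of_mul_eq_one_right e])

omit [Finite G] in
theorem mem_centralizer_mul {a b x : G} (ha : x ∈ centralizer ({a} : Set G))
    (hb : x ∈ centralizer ({b} : Set G)) : x ∈ centralizer ({a * b} : Set G) := by
  rw [mem_centralizer_singleton_iff] at ha hb ⊢
  exact (Commute.mul_right (ha : Commute x a) hb).eq

/-- Cores attached to two elements of `E` commute. -/
theorem Data.commute (D : Data E z) {a b x y : G} (ha : a ∈ E) (ha1 : a ≠ 1) (hb : b ∈ E)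
    (hb1 : b ≠ 1) (hx : x ∈ θ a) (hy : y ∈ θ b) : Commute x y := by
  rcases eq_or_ne a z with rfl | haz
  · rw [D.core, mem_bot] at hx
    exact hx ▸ Commute.one_left y
  rcases eq_or_ne b z with rfl | hbz
  · rw [D.core, mem_bot] at hy
    exact hy ▸ Commute.one_right x
  rcases eq_or_ne b a with rfl | hba
  · exact D.commute_same hb hb1 hx hy
  have hzE := D.mem
  have haC := cpc_le a hx
  have hbC := cpc_le b hy
  by_cases hb' : b = a * z
  · -- a third element of `E`
    obtain ⟨c, hc, hcn⟩ : ∃ c ∈ E, c ∉ ({1, z, a, a * z} : Set G) := by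
      by_contra hcon
      push Not at hcon
      have h8 := D.card
      have hle := Set.ncard_le_ncard (s := (E : Set G)) (fun c hc => hcon c hc) (Set.toFinite _)
      have h1 := Set.ncard_insert_le (1 : G) ({z, a, a * z} : Set G)
      have h2 := Set.ncard_insert_le z ({a, a * z} : Set G)
      have h3 := Set.ncard_insert_le a ({a * z} : Set G)
      rw [Set.ncard_singleton] at h3
      rw [← Nat.card_coe_set_eq] at hle
      change Nat.card E ≤ _ at hle
      omega
    simp only [Set.mem_insert_iff, Set.mem_singleton_iff, not_or] at hcn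
    obtain ⟨hc1, hcz, hca, hcaz⟩ := hcn
    obtain ⟨x₁, x₂, hx1, hx1c, hx2, hx2c, rfl⟩ := D.split ha ha1 hc hx
    obtain ⟨y₁, y₂, hy1, hy1c, hy2, hy2c, rfl⟩ := D.split hb hb1 hc hy
    have hcz1 : c * z ≠ 1 := D.ne_one hc (Ne.symm hcz)
    have hac1 : a * c ≠ 1 := D.ne_one ha hca
    have hac : a * c ∈ E := mul_mem ha hc
    have hacz : a * (c * z) ∈ E := mul_mem ha (mul_mem hc hzE)
    have hacz1 : a * (c * z) ≠ 1 := D.ne_one ha fun h => hcaz (by
      rw [← h, mul_assoc, D.sq z hzE, mul_one])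
    have c11 : Commute x₁ y₁ := D.commute_same hc hc1 (D.le_of_commute ha ha1 hc hc1 hx1 hx1c)
      (D.le_of_commute hb hb1 hc hc1 hy1 hy1c)
    have c22 : Commute x₂ y₂ := D.commute_same (mul_mem hc hzE) hcz1
      (D.le_of_commute ha ha1 (mul_mem hc hzE) hcz1 hx2 hx2c)
      (D.le_of_commute hb hb1 (mul_mem hc hzE) hcz1 hy2 hy2c)
    have e1 : b * (c * z) = a * c := by
      rw [hb', (D.comm c hc z hzE).eq, mul_assoc, ← mul_assoc z z c, D.sq z hzE, one_mul]
    have e2 : b * c = a * (c * z) := by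
      rw [hb', (D.comm c hc z hzE).eq, mul_assoc]
    have c12 : Commute x₁ y₂ := D.commute_same hac hac1
      (D.le_of_commute ha ha1 hac hac1 hx1 (mem_centralizer_mul (cpc_le a hx1) hx1c))
      (D.le_of_commute hb hb1 hac hac1 hy2 (e1 ▸ mem_centralizer_mul (cpc_le b hy2) hy2c))
    have c21 : Commute x₂ y₁ := D.commute_same hacz hacz1
      (D.le_of_commute ha ha1 hacz hacz1 hx2 (mem_centralizer_mul (cpc_le a hx2) hx2c))
      (D.le_of_commute hb hb1 hacz hacz1 hy1 (e2 ▸ mem_centralizer_mul (cpc_le b hy1) hy1c))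
    exact (c11.mul_right c12).mul_left (c21.mul_right c22)
  · obtain ⟨x₁, x₂, hx1, hx1b, hx2, hx2b, rfl⟩ := D.split ha ha1 hb hx
    have c1 : Commute x₁ y := D.commute_same hb hb1 (D.le_of_commute ha ha1 hb hb1 hx1 hx1b) hy
    refine c1.mul_left ?_
    obtain ⟨y₁, y₂, hy1, hy1a, hy2, hy2a, rfl⟩ := D.split hb hb1 ha hy
    have c2 : Commute x₂ y₁ := D.commute_same ha ha1 hx2 (D.le_of_commute hb hb1 ha ha1 hy1 hy1a)
    refine c2.mul_right ?_
    have habz : a * (b * z) ∈ E := mul_mem ha (mul_mem hb hzE)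
    have habz1 : a * (b * z) ≠ 1 := D.ne_one ha fun h => hb' (by
      rw [← h, mul_assoc, D.sq z hzE, mul_one])
    have e : b * (a * z) = a * (b * z) := by
      rw [← mul_assoc, (D.comm b hb a ha).eq, mul_assoc]
    exact D.commute_same habz habz1
      (D.le_of_commute ha ha1 habz habz1 hx2 (mem_centralizer_mul (cpc_le a hx2) hx2b))
      (D.le_of_commute hb hb1 habz habz1 hy2 (e ▸ mem_centralizer_mul (cpc_le b hy2) hy2a))

omit [Finite G] in
/-- The elements of `E` fixed by an involution normalising `E`. -/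
theorem Data.exists_fixed (D : Data E z) {i : G} (hi : i * i = 1)
    (hE : ∀ a ∈ E, i * a * i⁻¹ ∈ E) : ∃ b ∈ E, b ≠ 1 ∧ b ≠ z ∧ Commute b i := by
  haveI : Finite E := Nat.finite_of_card_ne_zero (by have := D.card; omega)
  by_contra hcon
  push Not at hcon
  have hii : i⁻¹ = i := inv_eq_of_mul_eq_one_right hi
  let f : E →* E := MonoidHom.mk' (fun e => ⟨(e : G) * (i * e * i⁻¹), mul_mem e.2 (hE _ e.2)⟩)
    (fun a b => Subtype.ext (by
      have hc : Commute (b : G) (i * a * i⁻¹) := D.comm _ b.2 _ (hE _ a.2)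
      calc (a : G) * b * (i * (a * b) * i⁻¹) = a * (b * (i * a * i⁻¹)) * (i * b * i⁻¹) := by group
        _ = a * ((i * a * i⁻¹) * b) * (i * b * i⁻¹) := by rw [hc.eq]
        _ = ((a : G) * (i * a * i⁻¹)) * ((b : G) * (i * b * i⁻¹)) := by group))
  let F : Subgroup E := (centralizer ({i} : Set G)).subgroupOf E
  have hF : ∀ e : E, e ∈ F ↔ i * (e : G) * i⁻¹ = e := fun e => by
    rw [mem_subgroupOf, mem_centralizer_singleton_iff, mul_inv_eq_iff_eq_mul]
    exact eq_comm
  have hker : f.ker ≤ F := fun e he => by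
    rw [hF]
    have h : (e : G) * (i * e * i⁻¹) = 1 := congrArg Subtype.val (MonoidHom.mem_ker.mp he)
    rw [eq_comm, ← inv_eq_of_mul_eq_one_right h, inv_eq_of_mul_eq_one_right (D.sq _ e.2)]
  have hran : f.range ≤ F := by
    rintro _ ⟨e, rfl⟩
    rw [hF]
    show i * ((e : G) * (i * e * i⁻¹)) * i⁻¹ = e * (i * e * i⁻¹)
    calc i * ((e : G) * (i * e * i⁻¹)) * i⁻¹ = (i * e * i⁻¹) * ((i * i) * e * (i * i)⁻¹) := by group
      _ = (i * e * i⁻¹) * e := by rw [hi]; group
      _ = _ := D.comm _ (hE _ e.2) _ e.2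
  have hF2 : Nat.card F ≤ 2 := by
    have hsub : (F : Set E) ⊆ ({1, ⟨z, D.mem⟩} : Set E) := by
      intro e he
      simp only [Set.mem_insert_iff, Set.mem_singleton_iff]
      by_contra h
      push Not at h
      exact hcon e e.2 (fun h1 => h.1 (Subtype.ext h1)) (fun h2 => h.2 (Subtype.ext h2))
        (show Commute (e : G) i from (mul_inv_eq_iff_eq_mul.mp ((hF e).mp he)).symm)
    have h := Set.ncard_le_ncard hsub (Set.toFinite _)
    have h2 := Set.ncard_insert_le (1 : E) ({⟨z, D.mem⟩} : Set E)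
    rw [Set.ncard_singleton] at h2
    rw [← Nat.card_coe_set_eq] at h
    change Nat.card F ≤ _ at h
    omega
  have h1 := f.ker.index_mul_card
  rw [Subgroup.index_ker] at h1
  have h3 := Subgroup.card_le_of_le hker
  have h4 := Subgroup.card_le_of_le hran
  have h8 := D.card
  have h5 := Nat.mul_le_mul h4 h3
  have h6 := Nat.mul_le_mul hF2 hF2
  omega

/-- All cores vanish when a group normalizing `E` normalizes no odd subgroup. -/
theorem Data.cpc_eq_bot (D : Data E z) (S : Subgroup G) (hSE : S ≤ normalizer (E : Set G))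
    (hinv : ∀ X : Subgroup G, Odd (Nat.card X) → S ≤ normalizer (X : Set G) → X = ⊥)
    {a : G} (ha : a ∈ E) (ha1 : a ≠ 1) : θ a = ⊥ := by
  set T : Set G := {x | ∃ b ∈ E, b ≠ 1 ∧ x ∈ θ b} with hT
  set W := closure T with hW
  haveI : IsMulCommutative W := isMulCommutative_closure (by
    rintro x ⟨b, hb, hb1, hx⟩ y ⟨c, hc, hc1, hy⟩
    exact D.commute hb hb1 hc hc1 hx hy)
  have hodd : ∀ x ∈ W, Odd (orderOf x) := by
    intro x hx
    induction hx using closure_induction with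
    | mem x hx =>
      obtain ⟨b, -, -, hx⟩ := hx
      exact (cpc_odd b).of_dvd_nat (Subgroup.orderOf_dvd_natCard _ hx)
    | one => simp
    | mul x y hx hy h1 h2 =>
      have hc : Commute x y := congrArg Subtype.val (mul_comm' (⟨x, hx⟩ : W) ⟨y, hy⟩)
      exact (h1.mul h2).of_dvd_nat (hc.orderOf_mul_dvd_lcm.trans (Nat.lcm_dvd_mul _ _))
    | inv x hx h1 => simpa using h1
  have hWodd : Odd (Nat.card W) := by
    rw [← Nat.not_even_iff_odd, even_iff_two_dvd]
    intro h2
    obtain ⟨w, hw⟩ := exists_prime_orderOf_dvd_card' 2 h2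
    have := hodd w w.2
    rw [Subgroup.orderOf_coe, hw] at this
    exact absurd this (by decide)
  have hWbot : W = ⊥ := by
    refine hinv W hWodd ?_
    rw [Subgroup.le_normalizer_iff]
    intro s hs x hx
    suffices h : W.map (MulAut.conj s).toMonoidHom ≤ W from h ⟨x, hx, by simp⟩
    rw [hW, MonoidHom.map_closure, closure_le]
    rintro _ ⟨x, ⟨b, hb, hb1, hxb⟩, rfl⟩
    refine subset_closure ⟨s * b * s⁻¹, (mem_normalizer_iff.mp (hSE hs) b).mp hb, ?_, ?_⟩
    · intro h; exact hb1 (by rwa [mul_inv_eq_one, mul_eq_left] at h)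
    · simpa using conj_mem_cpc s hxb
  rw [eq_bot_iff]
  intro x hx
  rw [← hWbot]
  exact subset_closure ⟨a, ha, ha1, hx⟩

/-- The core of an involution of `S` is trivial. -/
theorem Data.cpc_eq_bot_of_mem (D : Data E z) (S : Subgroup G) (hSE : S ≤ normalizer (E : Set G))
    (hSz : ∀ s ∈ S, Commute s z)
    (hinv : ∀ X : Subgroup G, Odd (Nat.card X) → S ≤ normalizer (X : Set G) → X = ⊥)
    {i : G} (hiS : i ∈ S) (hi : orderOf i = 2) : θ i = ⊥ := by
  have hii : i * i = 1 := by rw [← pow_two, ← hi, pow_orderOf_eq_one]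
  obtain ⟨b, hb, hb1, hbz, hbi⟩ := D.exists_fixed hii
    fun a ha => (mem_normalizer_iff.mp (hSE hiS) a).mp ha
  rw [eq_bot_iff]
  intro x hx
  obtain ⟨u, w, hu, hub, hw, hwb, rfl⟩ := exists_mul_of_inverted (cpc_odd i)
    (inverts_cpc hi (D.sq z D.mem) (D.con z (D.order D.mem D.ne)) D.core (hSz i hiS)) (D.sq b hb)
    (fun y hy => (mem_normalizer_iff.mp
      (le_normalizer_cpc i (mem_centralizer_singleton_iff.mpr hbi.eq)) y).mp hy) hx
  have hbz1 : b * z ≠ 1 := D.ne_one hb (Ne.symm hbz)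
  have h1 : u ∈ θ b := inf_centralizer_le hi (D.con b (D.order hb hb1)) hbi.symm ⟨hu, hub⟩
  have h2 : w ∈ θ (b * z) := inf_centralizer_le hi (D.con _ (D.order (mul_mem hb D.mem) hbz1))
    (hbi.symm.mul_right (hSz i hiS)) ⟨hw, hwb⟩
  rw [D.cpc_eq_bot S hSE hinv hb hb1, mem_bot] at h1
  rw [D.cpc_eq_bot S hSE hinv (mul_mem hb D.mem) hbz1, mem_bot] at h2
  simp [h1, h2]

end Cfsg.Agent.InvChar68.Signalizer
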