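import Cfsg.Agent.InvChar68.QuaternionSolvable
import Cfsg.Agent.BGUniq.PLocalBasic
import Cfsg.Prelude.Def_CaseTheorems

/-!
# Intersections of Sylow 2-subgroups in solvable groups
-/

set_option autoImplicit false

namespace Cfsg.Agent.InvChar68

open Subgroup
open scoped Pointwise

variable {G : Type*} [Group G] [Finite G]

theorem exists_sylow_pair (O : Subgroup G) [O.Normal] (hO : (Nat.card O).Coprime 2) (S₀ T₀ : Sylow 2 (G ⧸ O))
    (hne : S₀ ≠ T₀) (Q : Subgroup (G ⧸ O)) [Q.Normal] (hQ : IsPGroup 2 Q) :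
    ∃ S T : Sylow 2 G, S ≠ T ∧ Q ≤ ((S : Subgroup G) ⊓ T).map (QuotientGroup.mk' O) := by
  have : Fact (Nat.Prime 2) := ⟨Nat.prime_two⟩
  set π := QuotientGroup.mk' O with hπdef
  have hπ : Function.Surjective π := QuotientGroup.mk'_surjective O
  obtain ⟨S, hS⟩ := Sylow.mapSurjective_surjective hπ 2 S₀
  obtain ⟨T, hT⟩ := Sylow.mapSurjective_surjective hπ 2 T₀
  set Qt := Q.comap π with hQt
  have hle : ∀ R : Sylow 2 G, Q ≤ ((R : Subgroup G) ⊓ Qt).map π := by
    intro R q hq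
    have hR : Q ≤ (R.mapSurjective hπ : Subgroup (G ⧸ O)) :=
      (Thompson.le_pCore inferInstance hQ).trans (Thompson.pCore_le_sylow _)
    obtain ⟨s, hs, rfl⟩ := mem_map.mp (hR hq)
    exact ⟨s, mem_inf.mpr ⟨hs, hq⟩, rfl⟩
  have hcard : ∀ R : Sylow 2 G, ¬ 2 ∣ (((R : Subgroup G) ⊓ Qt).subgroupOf Qt).index := by
    intro R
    set P := ((R : Subgroup G) ⊓ Qt).subgroupOf Qt
    have hPc : Nat.card Q ∣ Nat.card P := by
      rw [Nat.card_congr (subgroupOfEquivOfLe inf_le_right).toEquiv]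
      exact (card_dvd_of_le (hle R)).trans (card_map_dvd _ _)
    have hQc : Nat.card Qt = Nat.card O * Nat.card Q := by
      rw [hQt, hπdef, Thompson.card_comap_quotient, Nat.mul_comm]
    intro h2
    have h := P.index_mul_card
    rw [hQc] at h
    obtain ⟨c, hc⟩ := hPc
    rw [hc] at h
    have h' : P.index * c = Nat.card O :=
      Nat.eq_of_mul_eq_mul_right (Nat.card_pos (α := Q)) (by rw [← h]; ring)
    exact Nat.not_coprime_of_dvd_of_dvd (by norm_num) (h2.trans (Dvd.intro _ h')) dvd_rfl hO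
  have hp : ∀ R : Sylow 2 G, IsPGroup 2 (((R : Subgroup G) ⊓ Qt).subgroupOf Qt) := fun R =>
    (R.2.to_le inf_le_left).comap_subtype
  let PS : Sylow 2 Qt := (hp S).toSylow (hcard S)
  let PT : Sylow 2 Qt := (hp T).toSylow (hcard T)
  obtain ⟨w, hw⟩ := MulAction.exists_smul_eq Qt PT PS
  refine ⟨S, (w : G) • T, ?_, ?_⟩
  · intro h
    apply hne
    rw [← hS, h, ← hT]
    have hwQ : π w ∈ Q := w.2
    have hwT : π w ∈ (T.mapSurjective hπ : Subgroup (G ⧸ O)) :=
      (Thompson.le_pCore inferInstance hQ).trans (Thompson.pCore_le_sylow _) hwQ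
    apply Sylow.ext
    ext q
    simp only [Sylow.coe_mapSurjective, mem_map]
    constructor
    · rintro ⟨y, hy, rfl⟩

      have hy' : (w : G)⁻¹ * y * w ∈ (T : Subgroup G) := by
        rw [Sylow.coe_subgroup_smul] at hy
        simpa [Subgroup.mem_pointwise_smul_iff_inv_smul_mem, MulAut.smul_def] using hy
      have : π y = π w * π ((w : G)⁻¹ * y * w) * (π w)⁻¹ := by simp [mul_assoc]
      have hmem : π y ∈ (T.mapSurjective hπ : Subgroup (G ⧸ O)) := by
        rw [this]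
        exact mul_mem (mul_mem hwT ⟨_, hy', rfl⟩) (inv_mem hwT)
      exact mem_map.mp hmem
    · rintro ⟨y, hy, rfl⟩
      obtain ⟨t, ht, hte⟩ := mem_map.mp (show (π w)⁻¹ * π y * π w ∈ (T.mapSurjective hπ : Subgroup (G ⧸ O)) from
        mul_mem (mul_mem (inv_mem hwT) ⟨y, hy, rfl⟩) hwT)
      refine ⟨(w : G) * t * (w : G)⁻¹, ?_, by rw [map_mul, map_mul, map_inv, hte]; group⟩
      rw [Sylow.coe_subgroup_smul]
      simpa [Subgroup.mem_pointwise_smul_iff_inv_smul_mem, MulAut.smul_def, mul_assoc] using ht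
  · intro q hq
    obtain ⟨s, hs, rfl⟩ := mem_map.mp (hle S hq)
    refine ⟨s, mem_inf.mpr ⟨hs.1, ?_⟩, rfl⟩
    have h : (⟨s, hs.2⟩ : Qt) ∈ (PS : Subgroup Qt) := mem_subgroupOf.mpr hs
    rw [← hw, Sylow.coe_subgroup_smul, mem_pointwise_smul_iff_inv_smul_mem] at h
    rw [Sylow.coe_subgroup_smul, mem_pointwise_smul_iff_inv_smul_mem]
    exact (mem_inf.mp (mem_subgroupOf.mp h)).1

/-- In a solvable group, if distinct Sylow 2-subgroups meet cyclically, `G/O(G)` is 2-closed. -/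
theorem twoClosed_of_cyclic_inter (hs : Group.IsSolvable G)
    (hC : ∀ S T : Sylow 2 G, S ≠ T → IsCyclic ↥((S : Subgroup G) ⊓ (T : Subgroup G))) :
    ∃ P : Sylow 2 (G ⧸ Cfsg.oddCore G), (P : Subgroup (G ⧸ Cfsg.oddCore G)).Normal := by
  have : Fact (Nat.Prime 2) := ⟨Nat.prime_two⟩
  by_cases hsub : Subsingleton (Sylow 2 (G ⧸ Cfsg.oddCore G))
  · let P : Sylow 2 (G ⧸ Cfsg.oddCore G) := Classical.arbitrary _
    have := Sylow.characteristic_of_subsingleton P
    exact ⟨P, inferInstance⟩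
  rw [not_subsingleton_iff_nontrivial] at hsub
  obtain ⟨S₀, T₀, hne⟩ := exists_pair_ne (Sylow 2 (G ⧸ Cfsg.oddCore G))
  set O := Cfsg.oddCore G with hO
  have hOb : Cfsg.pPrimeCore 2 (G ⧸ O) = ⊥ := Thompson.pPrimeCore_quotient_pPrimeCore
  have hsolQ : Group.IsSolvable (G ⧸ O) := solvable_of_surjective (QuotientGroup.mk'_surjective O)
  have hCQ := Thompson.centralizer_pCore_le (BGUniq.isPSolvable_of_isSolvable' 2 (G ⧸ O)) hOb
  set Q := Cfsg.pCore 2 (G ⧸ O) with hQ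
  have hQn : Q.Normal := Thompson.sSup_normal fun N hN => hN.1
  obtain ⟨S, T, hST, hQle⟩ := exists_sylow_pair O Thompson.card_pPrimeCore_coprime S₀ T₀ hne Q
    Thompson.isPGroup_pCore
  have := hC S T hST
  have hcyc : IsCyclic (((S : Subgroup G) ⊓ T).map (QuotientGroup.mk' O) : Subgroup (G ⧸ O)) :=
    isCyclic_of_surjective _ (MonoidHom.subgroupMap_surjective (QuotientGroup.mk' O) _)
  have hQc : IsCyclic Q := isCyclic_of_injective (inclusion hQle) (inclusion_injective _)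
  obtain ⟨k, hk⟩ := IsPGroup.iff_card.mp (Thompson.isPGroup_pCore (p := 2) (G := G ⧸ O))
  exfalso
  apply hne
  have h2 : IsPGroup 2 (G ⧸ O) := by
    rw [IsPGroup.iff_orderOf]
    intro g
    obtain ⟨j, m, hm, hj⟩ := Nat.exists_eq_two_pow_mul_odd (orderOf_pos g).ne'
    refine ⟨j, ?_⟩
    have hord : orderOf (g ^ 2 ^ j) = m := by
      rw [orderOf_pow' _ (by positivity), hj, Nat.gcd_eq_right (Dvd.intro _ rfl),
        Nat.mul_div_cancel_left _ (by positivity)]
    have hcom := commute_of_normalize_cyclic hk (g := g ^ 2 ^ j)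
      (by rw [normalizer_eq_top]; trivial) (by rw [hord]; exact hm)
    have hgQ : g ^ 2 ^ j ∈ Q := hCQ (mem_centralizer_iff.mpr fun q hq => (hcom q hq).eq.symm)
    obtain ⟨i, hi⟩ := IsPGroup.iff_orderOf.mp (Thompson.isPGroup_pCore (p := 2) (G := G ⧸ O)) ⟨_, hgQ⟩
    rw [Subgroup.orderOf_mk, hord] at hi
    have hm1 : m = 1 := by
      rcases Nat.eq_zero_or_pos i with rfl | h
      · simpa using hi
      · rw [hi] at hm
        exact absurd (Nat.even_pow.mpr ⟨even_two, h.ne'⟩) (Nat.not_even_iff_odd.mpr hm)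
    rw [hj, hm1, mul_one]
  have htop : ∀ R : Sylow 2 (G ⧸ O), (R : Subgroup (G ⧸ O)) = ⊤ := fun R =>
    (R.is_maximal' (fun g => by obtain ⟨i, hi⟩ := h2 (g : G ⧸ O); exact ⟨i, Subtype.ext hi⟩)
      le_top).symm
  exact Sylow.ext ((htop S₀).trans (htop T₀).symm)

end Cfsg.Agent.InvChar68
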