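import Cfsg.Agent.InvChar68.S6Facts
import Cfsg.Agent.InvChar68.D8Structure
import Cfsg.Agent.InvChar68.IndexTwoTransfer
import Cfsg.Agent.Lib.CharCore.Burnside
import Cfsg.Agent.AutA6.ThreeCycle
import Cfsg.Agent.S0497
import Cfsg.Agent.InvChar68.FourCentralizer
import Mathlib.GroupTheory.Solvable

/-!
# An involution centralizer `Z₂ × S₄` with self-centralizing derived Sylow subgroup
-/

set_option autoImplicit false

namespace Cfsg.Agent.InvChar68.SymSix

open Subgroup
open scoped commutatorElement

variable {G : Type*} [Group G] [Finite G]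

omit [Finite G] in
theorem orderOf_conj_eq (g u : G) : orderOf (g * u * g⁻¹) = orderOf u :=
  orderOf_injective (MulAut.conj g).toMonoidHom (MulAut.conj g).injective u

theorem card_centralizer_of_isConj {u v : G} (h : IsConj u v) :
    Nat.card (centralizer ({u} : Set G)) = Nat.card (centralizer ({v} : Set G)) := by
  have h1 := card_isConj_mul_card_centralizer u
  have h2 := card_isConj_mul_card_centralizer v
  have h3 : Nat.card {y : G // IsConj v y} = Nat.card {y : G // IsConj u y} :=
    Nat.card_congr (Equiv.subtypeEquivRight fun y => ⟨fun hy => h.trans hy, fun hy => h.symm.trans hy⟩)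
  rw [h3, ← h1] at h2
  have : Nonempty {y : G // IsConj u y} := ⟨⟨u, IsConj.refl u⟩⟩
  exact (Nat.eq_of_mul_eq_mul_left Nat.card_pos h2).symm

/-- The number of elements satisfying a decidable predicate, as a subgroup order. -/
theorem card_of_filter {H : Subgroup P48} (q : P48 → Prop) [DecidablePred q]
    (hq : ∀ p, p ∈ H ↔ q p) : Nat.card H = (Finset.univ.filter q).card := by
  classical
  rw [← Nat.card_eq_finsetCard]
  exact Nat.card_congr (Equiv.subtypeEquivRight fun p => by simp [hq])

variable {t : G} (e : centralizer ({t} : Set G) ≃* P48)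

/-- The embedding of `Z₂ × S₄`. -/
def ι : P48 →* G := (centralizer ({t} : Set G)).subtype.comp e.symm.toMonoidHom

omit [Finite G] in
theorem ι_injective : Function.Injective (ι e) :=
  (centralizer ({t} : Set G)).subtype_injective.comp e.symm.injective

omit [Finite G] in
theorem ι_mem (p : P48) : ι e p ∈ centralizer ({t} : Set G) := (e.symm p).2

omit [Finite G] in
theorem exists_ι {g : G} (hg : g ∈ centralizer ({t} : Set G)) : ∃ p, ι e p = g :=
  ⟨e ⟨g, hg⟩, by simp [ι]⟩

omit [Finite G] in
theorem ι_comm_iff {p q : P48} : ι e p * ι e q = ι e q * ι e p ↔ p * q = q * p := by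
  rw [← map_mul, ← map_mul, (ι_injective e).eq_iff]

variable (ht : orderOf t = 2)

include ht in
omit [Finite G] in
theorem ι_tau : ι e τ = t := by
  set T : centralizer ({t} : Set G) := ⟨t, mem_centralizer_singleton_iff.mpr rfl⟩ with hT
  have hT2 : T * T = 1 := Subtype.ext (Involution.mul_self_of_orderOf ht)
  have h := central (e T) (by rw [← map_mul, hT2, map_one])
    (fun h => Involution.ne_one_of_orderOf ht (congrArg Subtype.val (e.map_eq_one_iff.mp h)))
    (fun q => by
      obtain ⟨c, rfl⟩ := e.surjective q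
      rw [← map_mul, ← map_mul]
      congr 1
      exact Subtype.ext (mem_centralizer_singleton_iff.mp c.2).symm)
  rw [← h]
  simp [ι, hT]

include e in
theorem card_C : Nat.card (centralizer ({t} : Set G)) = 48 := by
  rw [Nat.card_congr e.toEquiv, Nat.card_prod, Nat.card_perm, Nat.card_fin, Nat.card_eq_fintype_card]
  decide

theorem card_cent_inf (a : P48) :
    Nat.card ↥((centralizer ({a} : Set P48)).map (ι e)) =
      (Finset.univ.filter fun p : P48 => p * a = a * p).card := by
  rw [card_map_of_injective (ι_injective e)]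
  exact card_of_filter _ fun p => mem_centralizer_singleton_iff

variable (T : Sylow 2 G) (htT : t ∈ (T : Subgroup G))
  (htc : ∀ s ∈ (T : Subgroup G), s * t = t * s)
  (h2 : ∀ S : Sylow 2 G, centralizer
    ((⁅(S : Subgroup G), (S : Subgroup G)⁆ : Subgroup G) : Set G) = (S : Subgroup G))

include e htT htc in
theorem odd_index : ¬ 2 ∣ (centralizer ({t} : Set G)).index := fun h =>
  T.not_dvd_index (h.trans (index_dvd_of_le fun s hs => mem_centralizer_singleton_iff.mpr (htc s hs)))

include htT htc in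
theorem exists_sylow_omega : ∃ S : Sylow 2 G,
    (S : Subgroup G) = (centralizer ({ω} : Set P48)).map (ι e) := by
  have : Fact (Nat.Prime 2) := ⟨Nat.prime_two⟩
  set S0 := (centralizer ({ω} : Set P48)).map (ι e) with hS0
  have h16 : Nat.card S0 = 16 := by rw [hS0, card_cent_inf, card_cent_omega]
  have hle : S0 ≤ centralizer ({t} : Set G) := by
    rintro _ ⟨p, -, rfl⟩; exact ι_mem e p
  have hp : IsPGroup 2 S0 := IsPGroup.of_card (n := 4) (by rw [h16]; norm_num)
  refine ⟨hp.toSylow ?_, rfl⟩
  intro hd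
  have hmul := relIndex_mul_index hle
  have h3 : S0.relIndex (centralizer ({t} : Set G)) = 3 := by
    have h := (S0.subgroupOf (centralizer ({t} : Set G))).index_mul_card
    rw [Nat.card_congr (subgroupOfEquivOfLe hle).toEquiv, h16, card_C e] at h
    show (S0.subgroupOf (centralizer ({t} : Set G))).index = 3
    omega
  rw [h3] at hmul
  rw [← hmul] at hd
  rcases (Nat.Prime.dvd_mul Nat.prime_two).mp hd with h | h
  · omega
  · exact odd_index e T htT htc h

include htT htc h2 in
theorem centralizer_omega :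
    centralizer ({ι e ω} : Set G) = (centralizer ({ω} : Set P48)).map (ι e) := by
  have := Fintype.ofFinite G
  obtain ⟨S, hS⟩ := exists_sylow_omega e T htT htc
  have hd : ⁅(S : Subgroup G), (S : Subgroup G)⁆ = zpowers (ι e ω) := by
    rw [hS, ← map_commutator, ← MonoidHom.map_zpowers]
    congr 1
    apply le_antisymm
    · rw [commutator_le]
      intro a ha b hb
      rw [commutatorElement_def]
      rcases commutator_cent a b (mem_centralizer_singleton_iff.mp ha)
        (mem_centralizer_singleton_iff.mp hb) with h | h <;> rw [h]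
      · exact one_mem _
      · exact mem_zpowers ω
    · rw [zpowers_le]
      have h : ⁅ρ, σ0⁆ = ω := (commutatorElement_def ρ σ0).trans commutator_omega
      refine (congrArg (· ∈ _) h).mp ?_
      exact commutator_mem_commutator (mem_centralizer_singleton_iff.mpr basic.2.2.2.2.2.2.2.2.2.2.2.1)
        (mem_centralizer_singleton_iff.mpr basic.2.2.2.2.2.2.2.2.2.2.2.2.1)
  rw [← hS, ← h2 S, hd, BlocksCore.centralizer_zpowers]

variable (hω : centralizer ({ι e ω} : Set G) = (centralizer ({ω} : Set P48)).map (ι e))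

include hω in
theorem card_cent_w : Nat.card (centralizer ({ι e ω} : Set G)) = 16 := by
  rw [hω, card_cent_inf, card_cent_omega]

include hω in
theorem cent_V {v : P48} (hv : InV v) (hv1 : v ≠ 1) :
    Nat.card (centralizer ({ι e v} : Set G)) = 16 ∧
      centralizer ({ι e v} : Set G) ≤ centralizer ({t} : Set G) := by
  obtain ⟨c, hc⟩ := conj_V v hv hv1
  have h : IsConj (ι e ω) (ι e v) := isConj_iff.mpr ⟨ι e c, by rw [← hc, map_mul, map_mul, map_inv]⟩
  refine ⟨(card_centralizer_of_isConj h).symm.trans (card_cent_w e hω), ?_⟩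
  intro g hg
  have h1 : (ι e c)⁻¹ * g * ι e c ∈ centralizer ({ι e ω} : Set G) := by
    rw [mem_centralizer_singleton_iff] at hg ⊢
    rw [← hc, map_mul, map_mul, map_inv] at hg
    have h3 := congrArg (fun x => (ι e c)⁻¹ * x * ι e c) hg
    simpa [mul_assoc] using h3
  rw [hω] at h1
  obtain ⟨p, -, hp⟩ := h1
  have : g = ι e c * ι e p * (ι e c)⁻¹ := by rw [hp]; group
  rw [this]
  exact mul_mem (mul_mem (ι_mem e c) (ι_mem e p)) (inv_mem (ι_mem e c))

include e ht hω in
theorem not_conj_omega (v : P48) (hv : InV v) (hv1 : v ≠ 1) : ¬ IsConj t (ι e v) := by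
  intro h
  have h1 := card_centralizer_of_isConj h
  rw [card_C e, (cent_V e hω hv hv1).1] at h1
  omega

include ht hω in
/-- `t` is not conjugate both to a transposition and to its product with `t`. -/
theorem not_both : ¬ (IsConj t (ι e σ0) ∧ IsConj t (ι e (τ * σ0))) := by
  rintro ⟨h1, h3⟩
  obtain ⟨g, hg⟩ := isConj_iff.mp h1
  have hs2 : ι e σ0 * ι e σ0 = 1 := by rw [← map_mul, basic.2.2.2.2.2.2.2.1, map_one]
  have hmem : g⁻¹ * t * g ∈ centralizer ({t} : Set G) := by
    rw [mem_centralizer_singleton_iff]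
    have hc : t * (g * t * g⁻¹) = g * t * g⁻¹ * t := by
      rw [hg]
      exact (mem_centralizer_singleton_iff.mp (ι_mem e σ0)).symm
    have h5 := congrArg (fun x => g⁻¹ * x * g) hc
    simpa [mul_assoc] using h5
  obtain ⟨a, ha⟩ := exists_ι e hmem
  have ha2 : a * a = 1 := ι_injective e (by
    rw [map_mul, ha, map_one, show g⁻¹ * t * g * (g⁻¹ * t * g) = g⁻¹ * (t * t) * g by group,
      Involution.mul_self_of_orderOf ht]
    group)
  obtain ⟨v, hv, hv1, hva⟩ := exists_V_commute a ha2
  set ws := g * ι e v * g⁻¹ with hws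
  have hwst : ws * t = t * ws := by
    have h5 : ι e v * (g⁻¹ * t * g) = g⁻¹ * t * g * ι e v := by rw [← ha, ι_comm_iff]; exact hva
    have h6 := congrArg (fun x => g * x * g⁻¹) h5
    simpa [hws, mul_assoc] using h6
  obtain ⟨b, hb⟩ := exists_ι e (mem_centralizer_singleton_iff.mpr hwst)
  have hbs : b * σ0 = σ0 * b := by
    rw [← ι_comm_iff e, hb, ← hg, hws]
    have h5 : ι e v * t = t * ι e v := mem_centralizer_singleton_iff.mp (ι_mem e v)
    calc g * ι e v * g⁻¹ * (g * t * g⁻¹) = g * (ι e v * t) * g⁻¹ := by group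
      _ = g * (t * ι e v) * g⁻¹ := by rw [h5]
      _ = g * t * g⁻¹ * (g * ι e v * g⁻¹) := by group
  have hcard : Nat.card (centralizer ({ws} : Set G)) = 16 := by
    rw [← card_centralizer_of_isConj (isConj_iff.mpr ⟨g, rfl⟩ : IsConj (ι e v) ws)]
    exact (cent_V e hω hv hv1).1
  have h48 : ∀ u : G, IsConj t u → Nat.card (centralizer ({u} : Set G)) = 48 := fun u hu => by
    rw [← card_centralizer_of_isConj hu, card_C e]
  rcases cent_sigma b hbs with h | h | ⟨c, hc⟩ | ⟨c, hc⟩ | ⟨y, hy, hys⟩
  · rw [h, map_one] at hb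
    exact hv1 (ι_injective e (by
      rw [map_one]; rw [hws] at hb; exact conj_eq_one_iff.mp hb.symm))
  · rw [h, ι_tau e ht] at hb
    have h5 := h48 t (IsConj.refl t)
    have h6 := congrArg (fun x : G => Nat.card (centralizer ({x} : Set G))) hb
    omega
  · have := h48 ws (h1.trans (isConj_iff.mpr ⟨ι e c, by rw [← hb, ← hc]; simp⟩))
    omega
  · have := h48 ws (h3.trans (isConj_iff.mpr ⟨ι e c, by rw [← hb, ← hc]; simp⟩))
    omega
  · apply hys
    have hyC : ι e y ∈ centralizer ({ws} : Set G) := by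
      rw [mem_centralizer_singleton_iff, ← hb, ι_comm_iff]; exact hy
    have h5 : g⁻¹ * ι e y * g ∈ centralizer ({ι e v} : Set G) := by
      rw [mem_centralizer_singleton_iff] at hyC ⊢
      have h6 := congrArg (fun x => g⁻¹ * x * g) hyC
      simpa [hws, mul_assoc] using h6
    have h6 := mem_centralizer_singleton_iff.mp ((cent_V e hω hv hv1).2 h5)
    rw [← ι_comm_iff e, ← hg]
    calc ι e y * (g * t * g⁻¹) = g * (g⁻¹ * ι e y * g * t) * g⁻¹ := by group
      _ = g * (t * (g⁻¹ * ι e y * g)) * g⁻¹ := by rw [h6]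
      _ = g * t * g⁻¹ * ι e y := by group

include e ht hω in
/-- A group of order less than `9 * 48` is `C(t)`. -/
theorem top_of_small (hodd : ¬ 2 ∣ (centralizer ({t} : Set G)).index)
    (hsmall : Nat.card G < 9 * 48) : centralizer ({t} : Set G) = ⊤ := by
  classical
  have := Fintype.ofFinite G
  have htt := Involution.mul_self_of_orderOf ht
  set X : Finset G := Finset.univ.filter (fun u => IsConj t u) with hX
  have hn : X.card = (centralizer ({t} : Set G)).index := by
    rw [← card_isConj_eq, Nat.card_eq_fintype_card, Fintype.card_subtype]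
  have hn9 : X.card < 9 := by
    have h := (centralizer ({t} : Set G)).index_mul_card
    rw [card_C e, ← hn] at h
    omega
  have htX : t ∈ X := Finset.mem_filter.mpr ⟨Finset.mem_univ _, IsConj.refl t⟩
  have hmemX : ∀ {u : G}, u ∈ X ↔ IsConj t u := fun {u} => by simp [hX]
  have hXC : ∀ u ∈ X, u ∈ (centralizer ({t} : Set G)) := by
    intro u hu
    by_contra huC
    set Kp := (centralizer ({u} : Set G)).comap (ι e) with hKp
    have hV0 : ∀ p ∈ Kp, InV p → p = 1 := by
      intro p hp hpV
      by_contra hp1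
      exact huC ((cent_V e hω hpV hp1).2
        (mem_centralizer_singleton_iff.mpr (mem_centralizer_singleton_iff.mp hp).symm))
    have hτ : τ ∉ Kp := fun hp => huC (mem_centralizer_singleton_iff.mpr (by
      have := mem_centralizer_singleton_iff.mp (show ι e τ ∈ centralizer ({u} : Set G) from hp)
      rw [ι_tau e ht] at this
      exact this.symm))
    have hK6 : Nat.card Kp ≤ 6 := by
      by_cases hb : ∃ b ∈ Kp, InM b ∧ b ≠ 1
      · obtain ⟨b, hbK, hbM, hb1⟩ := hb
        have hbV : ¬ InV b := fun h => hb1 (hV0 b hbK h)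
        have hcomm : ∀ k ∈ Kp, k * b = b * k := by
          intro k hk
          have h := hV0 _ (mul_mem (mul_mem (mul_mem hk hbK) (inv_mem hk)) (inv_mem hbK))
            (commutator_M k b hbM)
          exact mul_inv_eq_iff_eq_mul.mp (mul_inv_eq_one.mp h)
        have h16 := card_cent_M b hbM hbV (fun h => hτ (h ▸ hbK))
        let Vs := Finset.univ.filter fun p : P48 => InV p
        let f : Kp × Vs → (Finset.univ.filter fun p : P48 => p * b = b * p) := fun w =>
          ⟨(w.1 : P48) * (w.2 : P48), by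
            simp only [Finset.mem_filter, Finset.mem_univ, true_and]
            have hv := (Finset.mem_filter.mp w.2.2).2
            rw [mul_assoc, V_commute_M _ b hv hbM, ← mul_assoc, hcomm _ w.1.2, mul_assoc]⟩
        have hf : Function.Injective f := by
          rintro ⟨k, v⟩ ⟨k', v'⟩ h
          have h' : (k : P48) * v = k' * v' := congrArg Subtype.val h
          have h5 : (k' : P48)⁻¹ * k = v' * (v : P48)⁻¹ := by
            rw [eq_mul_inv_iff_mul_eq, mul_assoc, h', inv_mul_cancel_left]
          have hv' := (Finset.mem_filter.mp v'.2).2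
          have hv := (Finset.mem_filter.mp v.2).2
          have hVm : InV ((v' : P48) * (v : P48)⁻¹) := by
            have h7 := V_closed _ _ (V_closed _ _ hv' (show InV 1 by decide)) (V_closed _ _ hv (show InV 1 by decide))
            simpa using h7
          have h6 := hV0 _ (mul_mem (inv_mem k'.2) k.2) (h5 ▸ hVm)
          have hk : k = k' := Subtype.ext (inv_mul_eq_one.mp h6).symm
          subst hk
          exact Prod.ext rfl (Subtype.ext (mul_left_cancel h'))
        have h := Nat.card_le_card_of_injective f hf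
        rw [Nat.card_prod, Nat.card_eq_finsetCard, Nat.card_eq_finsetCard, card_V, h16] at h
        omega
      · push Not at hb
        let Ms := Finset.univ.filter fun p : P48 => InM p
        let f : Kp × Ms → P48 := fun w => (w.1 : P48) * (w.2 : P48)
        have hf : Function.Injective f := by
          rintro ⟨k, v⟩ ⟨k', v'⟩ h
          simp only [f] at h
          have h5 : (k' : P48)⁻¹ * k = v' * (v : P48)⁻¹ := by
            rw [eq_mul_inv_iff_mul_eq, mul_assoc, h, inv_mul_cancel_left]
          have hv' := (Finset.mem_filter.mp v'.2).2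
          have hv := (Finset.mem_filter.mp v.2).2
          have hVm : InM ((v' : P48) * (v : P48)⁻¹) := by
            have h7 := M_closed _ _ (M_closed _ _ hv' (show InM 1 by decide)) (M_closed _ _ hv (show InM 1 by decide))
            simpa using h7
          have h6 := hb _ (mul_mem (inv_mem k'.2) k.2) (h5 ▸ hVm)
          have hk : k = k' := Subtype.ext (inv_mul_eq_one.mp h6).symm
          subst hk
          exact Prod.ext rfl (Subtype.ext (mul_left_cancel h))
        have h := Nat.card_le_card_of_injective f hf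
        rw [Nat.card_prod, Nat.card_eq_finsetCard, card_M, Nat.card_prod, Nat.card_perm,
          Nat.card_fin] at h
        have h2 : Nat.card (Multiplicative (ZMod 2)) = 2 := by
          rw [Nat.card_eq_fintype_card]; rfl
        rw [h2] at h
        simp only [Nat.factorial] at h
        omega
    -- the orbit of `u`
    let f : P48 ⧸ Kp → X.erase t := Quotient.lift
      (fun p => ⟨ι e p * u * (ι e p)⁻¹, Finset.mem_erase.mpr ⟨by
        intro h
        apply huC
        have h5 : u = (ι e p)⁻¹ * t * ι e p := by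
          calc u = (ι e p)⁻¹ * (ι e p * u * (ι e p)⁻¹) * ι e p := by group
            _ = _ := by rw [h]
        have h6 : (ι e p)⁻¹ * t * ι e p = t := by
          rw [mul_assoc, ← mem_centralizer_singleton_iff.mp (ι_mem e p), inv_mul_cancel_left]
        rw [h5, h6]; exact mem_centralizer_singleton_iff.mpr rfl,
        hmemX.mpr ((hmemX.mp hu).trans (isConj_iff.mpr ⟨ι e p, rfl⟩))⟩⟩)
      (fun a b hab => by
        have h : a⁻¹ * b ∈ Kp := QuotientGroup.leftRel_apply.mp hab
        have h5 := mem_centralizer_singleton_iff.mp (show ι e (a⁻¹ * b) ∈ centralizer ({u} : Set G) from h)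
        rw [map_mul, map_inv] at h5
        apply Subtype.ext
        show ι e a * u * (ι e a)⁻¹ = ι e b * u * (ι e b)⁻¹
        calc ι e a * u * (ι e a)⁻¹
            = ι e a * (u * ((ι e a)⁻¹ * ι e b)) * (ι e b)⁻¹ := by group
          _ = ι e a * ((ι e a)⁻¹ * ι e b * u) * (ι e b)⁻¹ := by rw [h5]
          _ = ι e b * u * (ι e b)⁻¹ := by group)
    have hf : Function.Injective f := by
      intro a b
      induction a using QuotientGroup.induction_on with
      | _ a =>
        induction b using QuotientGroup.induction_on with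
        | _ b =>
          intro h
          have h' : ι e a * u * (ι e a)⁻¹ = ι e b * u * (ι e b)⁻¹ := congrArg Subtype.val h
          rw [QuotientGroup.eq]
          show ι e (a⁻¹ * b) ∈ centralizer ({u} : Set G)
          rw [map_mul, map_inv, mem_centralizer_singleton_iff]
          calc (ι e a)⁻¹ * ι e b * u = (ι e a)⁻¹ * (ι e b * u * (ι e b)⁻¹) * ι e b := by group
            _ = u * ((ι e a)⁻¹ * ι e b) := by rw [← h']; group
    have h := Nat.card_le_card_of_injective f hf
    rw [Nat.card_eq_finsetCard, Finset.card_erase_of_mem htX, ← Subgroup.index] at h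
    have h' := Kp.index_mul_card
    rw [Nat.card_prod, Nat.card_perm, Nat.card_fin,
      show Nat.card (Multiplicative (ZMod 2)) = 2 by rw [Nat.card_eq_fintype_card]; rfl] at h'
    simp only [Nat.factorial] at h'
    have := Nat.mul_le_mul_left Kp.index hK6
    omega
  have hcommX : ∀ u ∈ X, ∀ u' ∈ X, u * u' = u' * u := by
    intro u hu u' hu'
    obtain ⟨g, rfl⟩ := isConj_iff.mp (hmemX.mp hu)
    have h := mem_centralizer_singleton_iff.mp (hXC (g⁻¹ * u' * g)
      (hmemX.mpr ((hmemX.mp hu').trans (isConj_iff.mpr ⟨g⁻¹, by simp⟩))))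
    calc g * t * g⁻¹ * u' = g * (t * (g⁻¹ * u' * g)) * g⁻¹ := by group
      _ = g * ((g⁻¹ * u' * g) * t) * g⁻¹ := by rw [h]
      _ = u' * (g * t * g⁻¹) := by group
  -- the members other than `t`
  have hform : ∀ u ∈ X, u ≠ t → ∃ p, ι e p = u ∧ InM p ∧ ¬ InV p ∧ p ≠ τ := by
    intro u hu hut
    obtain ⟨p, hp⟩ := exists_ι e (hXC u hu)
    have hpt : p ≠ τ := fun h => hut (by rw [← hp, h, ι_tau e ht])
    obtain ⟨g, hg⟩ := isConj_iff.mp (hmemX.mp hu)
    have hu2 : u * u = 1 := by
      rw [← hg, show g * t * g⁻¹ * (g * t * g⁻¹) = g * (t * t) * g⁻¹ by group, htt]; group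
    have hp2 : p * p = 1 := ι_injective e (by rw [map_mul, hp, hu2, map_one])
    have hM : InM p := by
      by_contra hM
      obtain ⟨c, hc⟩ := noncommuting p hp2 hM
      apply hc
      apply ι_injective e
      rw [map_mul, map_mul (ι e) (c * p * c⁻¹) p, hp]
      exact hcommX u hu _ (hmemX.mpr ((hmemX.mp hu).trans
        (isConj_iff.mpr ⟨ι e c, by rw [← hp]; simp⟩)))
    refine ⟨p, hp, hM, fun hV => ?_, hpt⟩
    have hp1 : p ≠ 1 := by
      rintro rfl
      rw [map_one] at hp
      exact Involution.ne_one_of_orderOf ht (by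
        have := hmemX.mp hu; rw [← hp] at this; exact isConj_one_left.mp this)
    exact not_conj_omega e ht hω p hV hp1 (hp ▸ hmemX.mp hu)
  rw [← index_eq_one, ← hn]
  by_contra hn1
  obtain ⟨u, hu, hut⟩ : ∃ u ∈ X, u ≠ t := by
    by_contra hc
    push Not at hc
    exact hn1 (Finset.card_eq_one.mpr ⟨t, Finset.eq_singleton_iff_unique_mem.mpr ⟨htX, hc⟩⟩)
  obtain ⟨p, hp, hM, hV, hpt⟩ := hform u hu hut
  have hall : ∀ q, InM q → ¬ InV q → q ≠ τ → ι e q ∈ X.erase t := by
    intro q h1 h3 h4
    obtain ⟨c, hc⟩ := conj_tau_omega p hM hV hpt q h1 h3 h4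
    refine Finset.mem_erase.mpr ⟨fun h => h4 (ι_injective e (by rw [h, ι_tau e ht])),
      hmemX.mpr ((hmemX.mp hu).trans (isConj_iff.mpr ⟨ι e c, by rw [← hp, ← hc]; simp⟩))⟩
  have heq : X.erase t = (Finset.univ.filter fun q : P48 => InM q ∧ ¬ InV q ∧ q ≠ τ).image (ι e) := by
    ext w
    simp only [Finset.mem_image, Finset.mem_filter, Finset.mem_univ, true_and]
    constructor
    · intro hw
      obtain ⟨q, hq, h1⟩ := hform w (Finset.mem_erase.mp hw).2 (Finset.mem_erase.mp hw).1
      exact ⟨q, h1, hq⟩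
    · rintro ⟨q, ⟨h1, h3, h4⟩, rfl⟩
      exact hall q h1 h3 h4
  have h3 := congrArg Finset.card heq
  rw [Finset.card_image_of_injective _ (ι_injective e), card_M_out, Finset.card_erase_of_mem htX] at h3
  apply hodd
  rw [← hn]
  omega

include ht htT htc hω in
/-- The subgroup of index two. -/
theorem exists_N : ∃ N : Subgroup G, N.Normal ∧ N.index = 2 ∧ t ∉ N := by
  have : Fact (Nat.Prime 2) := ⟨Nat.prime_two⟩
  obtain ⟨S, hS⟩ := exists_sylow_omega e T htT htc
  have htS : t ∈ (S : Subgroup G) := by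
    rw [hS]
    exact ⟨τ, mem_centralizer_singleton_iff.mpr basic.2.2.2.2.2.2.2.2.2.2.1, ι_tau e ht⟩
  have hrel : ∀ ε : P48 →* ℤˣ, (Finset.univ.filter fun p : P48 => ε p = 1 ∧ p * ω = ω * p).card = 8 →
      ((ε.ker ⊓ centralizer ({ω} : Set P48)).map (ι e)).relIndex (S : Subgroup G) = 2 := by
    intro ε hε
    rw [hS, relIndex_map_map_of_injective _ _ (ι_injective e), inf_relIndex_right]
    have h := (ε.ker.subgroupOf (centralizer ({ω} : Set P48))).index_mul_card
    have h8 : Nat.card (ε.ker.subgroupOf (centralizer ({ω} : Set P48))) = 8 := by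
      rw [← inf_subgroupOf_right, Nat.card_congr (subgroupOfEquivOfLe inf_le_right).toEquiv, ← hε]
      exact card_of_filter _ fun p => by
        rw [mem_inf, MonoidHom.mem_ker, mem_centralizer_singleton_iff]
    rw [h8, card_of_filter _ (fun p => mem_centralizer_singleton_iff (g := ω)), card_cent_omega] at h
    show (ε.ker.subgroupOf (centralizer ({ω} : Set P48))).index = 2
    omega
  have hno : ∀ (ε : P48 →* ℤˣ) (σ : P48), ¬ IsConj t (ι e σ) →
      (∀ p : P48, ε p = 1 → p * ω = ω * p → p * p = 1 →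
        p = 1 ∨ (∃ c : P48, c * ω * c⁻¹ = p) ∨ ∃ c : P48, c * σ * c⁻¹ = p) →
      ∀ g : G, g * t * g⁻¹ ∈ (S : Subgroup G) →
        g * t * g⁻¹ ∉ (ε.ker ⊓ centralizer ({ω} : Set P48)).map (ι e) := by
    rintro ε σ hσ hker g - ⟨p, hp, hpe⟩
    have hp2 : p * p = 1 := ι_injective e (by
      rw [map_mul, hpe, map_one, show g * t * g⁻¹ * (g * t * g⁻¹) = g * (t * t) * g⁻¹ by group,
        Involution.mul_self_of_orderOf ht]
      group)
    rcases hker p (MonoidHom.mem_ker.mp hp.1) (mem_centralizer_singleton_iff.mp hp.2) hp2 with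
      h | ⟨c, hc⟩ | ⟨c, hc⟩
    · rw [h, map_one] at hpe
      exact Involution.ne_one_of_orderOf ht (conj_eq_one_iff.mp hpe.symm)
    · apply not_conj_omega e ht hω ω basic.2.2.2.2.2.2.2.2.2.2.2.2.2 basic.2.2.2.1
      refine (isConj_iff.mpr ⟨g, rfl⟩ : IsConj t (g * t * g⁻¹)).trans (isConj_iff.mpr ⟨(ι e c)⁻¹, ?_⟩)
      rw [← hpe, ← hc]; simp [mul_assoc]
    · apply hσ
      refine (isConj_iff.mpr ⟨g, rfl⟩ : IsConj t (g * t * g⁻¹)).trans (isConj_iff.mpr ⟨(ι e c)⁻¹, ?_⟩)
      rw [← hpe, ← hc]; simp [mul_assoc]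
  by_cases hts : IsConj t (ι e (τ * σ0))
  · obtain ⟨N, h1, h3, h4⟩ := thompson_transfer S _ (hrel εB card_kerB) ht htS
      (hno εB σ0 (fun h => not_both e ht hω ⟨h, hts⟩) ker_B)
    exact ⟨N, h1, h3, h4⟩
  · obtain ⟨N, h1, h3, h4⟩ := thompson_transfer S _ (hrel εA card_kerA) ht htS
      (hno εA _ hts ker_A)
    exact ⟨N, h1, h3, h4⟩

variable {N : Subgroup G} (hN2 : N.index = 2) (htN : t ∉ N)

include hN2 in
theorem omega_mem : ι e ω ∈ N := by
  rw [← basic.2.2.2.2.1, map_mul, ← pow_two]
  exact Subgroup.sq_mem_of_index_two hN2 _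

include ht hω hN2 htN in
/-- The centralizer of `ω` in `N`. -/
theorem exists_dihedral :
    Nonempty (centralizer ({(⟨ι e ω, omega_mem e hN2⟩ : N)} : Set N) ≃* DihedralGroup 4) := by
  classical
  obtain ⟨hinj, hcomm, hsurj⟩ := dihedralS4_facts
  let D := centralizer ({(⟨ι e ω, omega_mem e hN2⟩ : N)} : Set N)
  let pick : DihedralGroup 4 → P48 := fun d =>
    if ι e (1, dihedralS4 d) ∈ N then (1, dihedralS4 d) else τ * (1, dihedralS4 d)
  have hpickN : ∀ d, ι e (pick d) ∈ N := by
    intro d
    simp only [pick]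
    split_ifs with h
    · exact h
    · rw [map_mul, Subgroup.mul_mem_iff_of_index_two hN2, ι_tau e ht]
      exact iff_of_false htN h
  have hpick2 : ∀ d, (pick d).2 = dihedralS4 d := by
    intro d; simp only [pick]; split_ifs <;> simp [τ]
  have hpickω : ∀ d, pick d * ω = ω * pick d := by
    intro d
    simp only [pick]
    split_ifs
    · exact hcomm d
    · rw [mul_assoc, hcomm d, ← mul_assoc, basic.2.2.2.2.2.2.2.2.2.1 ω, mul_assoc]
  have huniq : ∀ p q : P48, ι e p ∈ N → ι e q ∈ N → p.2 = q.2 → p = q := by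
    intro p q hp hq h
    have hcases : p = q ∨ p = τ * q := by
      obtain ⟨a, b⟩ := p
      obtain ⟨c, d⟩ := q
      simp only at h
      subst h
      have : ∀ a c : Multiplicative (ZMod 2), a = c ∨ a = Multiplicative.ofAdd 1 * c := by decide
      rcases this a c with rfl | rfl
      · exact Or.inl rfl
      · exact Or.inr (by simp [τ])
    rcases hcases with h1 | h1
    · exact h1
    · rw [h1, map_mul, ι_tau e ht] at hp
      exact absurd ((Subgroup.mul_mem_cancel_right N hq).mp hp) htN
  let F : DihedralGroup 4 → D := fun d => ⟨⟨ι e (pick d), hpickN d⟩, by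
    rw [mem_centralizer_singleton_iff]
    exact Subtype.ext ((ι_comm_iff e).mpr (hpickω d))⟩
  have hmul : ∀ a b, F (a * b) = F a * F b := by
    intro a b
    refine Subtype.ext (Subtype.ext ?_)
    show ι e (pick (a * b)) = ι e (pick a) * ι e (pick b)
    rw [← map_mul]
    congr 1
    refine huniq _ _ (hpickN _) (by rw [map_mul]; exact mul_mem (hpickN a) (hpickN b)) ?_
    rw [Prod.snd_mul, hpick2, hpick2, hpick2, map_mul]
  refine ⟨(MulEquiv.ofBijective (MonoidHom.mk' F hmul) ⟨?_, ?_⟩).symm⟩
  · intro a b h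
    have h1 : ι e (pick a) = ι e (pick b) := congrArg (fun w : D => ((w : N) : G)) h
    apply hinj
    rw [← hpick2, ← hpick2, ι_injective e h1]
  · intro x
    have hxw : ((x : N) : G) ∈ centralizer ({ι e ω} : Set G) :=
      mem_centralizer_singleton_iff.mpr (congrArg Subtype.val (mem_centralizer_singleton_iff.mp x.2))
    rw [hω] at hxw
    obtain ⟨p, hp, hpe⟩ := hxw
    obtain ⟨d, hd⟩ := hsurj p (mem_centralizer_singleton_iff.mp hp)
    refine ⟨d, Subtype.ext (Subtype.ext ?_)⟩
    show ι e (pick d) = _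
    rw [← hpe]
    congr 1
    exact huniq _ _ (hpickN d) (hpe ▸ (x : N).2) (by rw [hpick2, hd])

include e hω in
/-- There is no nontrivial odd normal subgroup. -/
theorem odd_normal_eq_bot (O : Subgroup G) (hO : O.Normal) (hodd : ¬ 2 ∣ Nat.card O) : O = ⊥ := by
  have hfix : ∀ v : P48, InV v → v ≠ 1 → ∀ a ∈ O, ι e v * a * (ι e v)⁻¹ = a → a = 1 := by
    intro v hv hv1 a ha h
    have hmem : a ∈ centralizer ({ι e v} : Set G) :=
      mem_centralizer_singleton_iff.mpr (mul_inv_eq_iff_eq_mul.mp h).symm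
    have h1 := Subgroup.orderOf_dvd_natCard _ hmem
    rw [(cent_V e hω hv hv1).1] at h1
    have h3 := Subgroup.orderOf_dvd_natCard _ ha
    have hco : Nat.Coprime (orderOf a) 16 := by
      rw [show (16 : ℕ) = 2 ^ 4 by norm_num]
      exact Nat.Coprime.pow_right 4 (((Nat.Prime.coprime_iff_not_dvd Nat.prime_two).mpr
        (fun hd => hodd (hd.trans h3))).symm)
    exact orderOf_eq_one_iff.mp (hco.eq_one_of_dvd h1)
  have hinv : ∀ v : P48, InV v → v ≠ 1 → ∀ a ∈ O, ι e v * a * (ι e v)⁻¹ = a⁻¹ := by
    intro v hv hv1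
    refine FourCent.inverts_of_fixed ?_ O (fun a ha => hO.conj_mem a ha _) (hfix v hv hv1)
    rw [← map_mul, show v * v = 1 from Prod.ext (by rw [Prod.fst_mul, hv.1, one_mul]; rfl)
      (by rw [Prod.snd_mul, hv.2.1]; rfl), map_one]
  rw [eq_bot_iff]
  intro a ha
  rw [mem_bot]
  have h1 : InV ω ∧ ω ≠ 1 ∧ InV ((1, Equiv.swap 0 1 * Equiv.swap 2 3) : P48) ∧
      ((1, Equiv.swap 0 1 * Equiv.swap 2 3) : P48) ≠ 1 ∧
      InV (ω * (1, Equiv.swap 0 1 * Equiv.swap 2 3)) ∧
      ω * (1, Equiv.swap 0 1 * Equiv.swap 2 3) ≠ 1 := by decide +kernel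
  obtain ⟨a1, a2, b1, b2, c1, c2⟩ := h1
  have e1 := hinv _ c1 c2 a ha
  rw [map_mul, mul_inv_rev, show ι e ω * ι e (1, Equiv.swap 0 1 * Equiv.swap 2 3) * a *
      ((ι e (1, Equiv.swap 0 1 * Equiv.swap 2 3))⁻¹ * (ι e ω)⁻¹) =
      ι e ω * (ι e (1, Equiv.swap 0 1 * Equiv.swap 2 3) * a *
      (ι e (1, Equiv.swap 0 1 * Equiv.swap 2 3))⁻¹) * (ι e ω)⁻¹ by group, hinv _ b1 b2 a ha,
    hinv _ a1 a2 _ (inv_mem ha), inv_inv] at e1
  apply hfix _ a1 a2 a ha
  rw [hinv _ a1 a2 a ha]
  exact e1.symm

include ht hω hN2 htN in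
theorem equiv_perm_six (hsimp : IsSimpleGroup N) (h360 : Nat.card N = 360)
    (htop : centralizer ({t} : Set G) ≠ ⊤) : Nonempty (G ≃* Equiv.Perm (Fin 6)) := by
  classical
  obtain ⟨eA⟩ := S0497.result (G := N) h360
  have hNn : N.Normal := normal_of_index_eq_two hN2
  let φ : G → MulAut (alternatingGroup (Fin 6)) := fun g =>
    eA.symm.trans ((MulAut.conjNormal g).trans eA)
  have hφ1 : ∀ g h, φ (g * h) = φ g * φ h := by
    intro g h
    refine MulEquiv.ext fun y => ?_
    simp [φ, MulAut.mul_apply, map_mul]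
  let conjA : Equiv.Perm (Fin 6) →* MulAut (alternatingGroup (Fin 6)) := MulAut.conjNormal
  have hinjA : Function.Injective conjA := by
    rw [← MonoidHom.ker_eq_bot_iff, eq_bot_iff]
    intro σ hσ
    rw [mem_bot]
    have key : ∀ c : Equiv.Perm (Fin 6), Equiv.Perm.sign c = 1 → σ * c = c * σ := by
      intro c hc
      have h1 := congrArg Subtype.val (MulEquiv.congr_fun (MonoidHom.mem_ker.mp hσ)
        (⟨c, Equiv.Perm.mem_alternatingGroup.mpr hc⟩ : alternatingGroup (Fin 6)))
      simp only [conjA, MulAut.conjNormal_apply, MulAut.one_apply] at h1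
      exact mul_inv_eq_iff_eq_mul.mp h1
    exact cent_perm_six σ (key _ (by decide)) (key _ (by decide)) (key _ (by decide)) (key _ (by decide))
  have hσN : ∀ n : N, conjA ((eA n : alternatingGroup (Fin 6)) : Equiv.Perm (Fin 6)) = φ n := by
    intro n
    refine MulEquiv.ext fun y => Subtype.ext ?_
    simp only [conjA, MulAut.conjNormal_apply, φ, MulEquiv.trans_apply]
    have hn : MulAut.conjNormal (n : G) (eA.symm y) = n * eA.symm y * n⁻¹ := by
      apply Subtype.ext; simp
    rw [hn, map_mul, map_mul, map_inv, eA.apply_symm_apply]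
    rfl
  -- the automorphism induced by `t` preserves the 3-cycles
  have hη3 : ι e η ∈ N := by
    rw [show ι e η = ((ι e η) ^ 2) ^ 2 from ?_]
    · exact pow_mem (Subgroup.sq_mem_of_index_two hN2 _) 2
    · have h3 : (ι e η) ^ 3 = 1 := by rw [← map_pow, basic.2.2.2.2.2.1, map_one]
      rw [← pow_mul, show 2 * 2 = 3 + 1 by norm_num, pow_add, h3, one_mul, pow_one]
  set h := eA ⟨ι e η, hη3⟩ with hh
  have hfix : φ t h = h := by
    simp only [φ, hh, MulEquiv.trans_apply, eA.symm_apply_apply]
    congr 1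
    apply Subtype.ext
    simp only [MulAut.conjNormal_apply]
    rw [← mem_centralizer_singleton_iff.mp (ι_mem e η), mul_inv_cancel_right]
  have hord3 : ∀ y : alternatingGroup (Fin 6), orderOf y = 3 → ∃ k : ℕ, (k = 1 ∨ k = 2) ∧
      (y : Equiv.Perm (Fin 6)).cycleType = Multiset.replicate k 3 := by
    intro y hy
    have hy' : orderOf (y : Equiv.Perm (Fin 6)) = 3 := by rw [Subgroup.orderOf_coe, hy]
    obtain ⟨k, hk⟩ := Equiv.Perm.cycleType_prime_order (by rw [hy']; exact Nat.prime_three)
    rw [hy'] at hk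
    refine ⟨k + 1, ?_, hk⟩
    have h1 := Equiv.Perm.sum_cycleType (y : Equiv.Perm (Fin 6))
    rw [hk, Multiset.sum_replicate, smul_eq_mul] at h1
    have h3 := Finset.card_le_univ (y : Equiv.Perm (Fin 6)).support
    rw [Fintype.card_fin] at h3
    omega
  have hh3 : orderOf h = 3 := by
    have : Fact (Nat.Prime 3) := ⟨Nat.prime_three⟩
    rw [hh, MulEquiv.orderOf_eq, Subgroup.orderOf_mk, orderOf_injective _ (ι_injective e)]
    exact orderOf_eq_prime basic.2.2.2.2.2.1 basic.2.2.2.2.2.2.1
  obtain ⟨k0, hk0, hck0⟩ := hord3 h hh3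
  have hconj : ∀ {x y : alternatingGroup (Fin 6)} {k : ℕ}, (k = 1 ∨ k = 2) →
      (x : Equiv.Perm (Fin 6)).cycleType = Multiset.replicate k 3 →
      (y : Equiv.Perm (Fin 6)).cycleType = Multiset.replicate k 3 → IsConj x y := fun hk hx hy =>
    KnownSimple.AutAlt.isConj_of_replicate hx hy (by omega)
  have hsame : ∀ {x y : alternatingGroup (Fin 6)}, IsConj x y →
      (x : Equiv.Perm (Fin 6)).cycleType = (y : Equiv.Perm (Fin 6)).cycleType := fun hxy =>
    Equiv.Perm.isConj_iff_cycleType_eq.mp ((alternatingGroup (Fin 6)).subtype.map_isConj hxy)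
  have hrep : ∀ {i j : ℕ}, Multiset.replicate i 3 = Multiset.replicate j 3 → i = j := fun hij => by
    simpa using congrArg Multiset.card hij
  have hpres : ∀ x : alternatingGroup (Fin 6), Equiv.Perm.IsThreeCycle (x : Equiv.Perm (Fin 6)) →
      Equiv.Perm.IsThreeCycle ((φ t x : alternatingGroup (Fin 6)) : Equiv.Perm (Fin 6)) := by
    intro x hx
    have hx3 : orderOf x = 3 := by rw [← Subgroup.orderOf_coe, hx.orderOf]
    have hx1 : (x : Equiv.Perm (Fin 6)).cycleType = Multiset.replicate 1 3 := hx
    obtain ⟨k, hk, hck⟩ := hord3 (φ t x) (by rw [MulEquiv.orderOf_eq, hx3])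
    rcases hk with rfl | rfl
    · exact hck
    exfalso
    rcases hk0 with rfl | rfl
    · have h5 := hsame ((φ t).toMonoidHom.map_isConj (hconj (Or.inl rfl) hck0 hx1))
      simp only [MulEquiv.coe_toMonoidHom, hfix, hck0, hck] at h5
      exact absurd (hrep h5) (by norm_num)
    · have h5 := hsame ((φ t).symm.toMonoidHom.map_isConj (hconj (Or.inr rfl) hck hck0))
      have h6 : (φ t).symm h = h := (φ t).symm_apply_eq.mpr hfix.symm
      simp only [MulEquiv.coe_toMonoidHom, MulEquiv.symm_apply_apply, h6, hck0, hx1] at h5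
      exact absurd (hrep h5) (by norm_num)
  obtain ⟨σt, hσt⟩ := AutA6.exists_perm_of_map_three (by norm_num) (φ t) hpres
  have hex : ∀ g : G, ∃ σ, conjA σ = φ g := by
    intro g
    by_cases hg : g ∈ N
    · exact ⟨_, hσN ⟨g, hg⟩⟩
    · have hgt : g * t ∈ N := (Subgroup.mul_mem_iff_of_index_two hN2).mpr (iff_of_false hg htN)
      refine ⟨((eA ⟨g * t, hgt⟩ : alternatingGroup (Fin 6)) : Equiv.Perm (Fin 6)) * σt, ?_⟩
      rw [map_mul, hσN, show conjA σt = φ t from hσt, ← hφ1]
      congr 1
      show g * t * t = g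
      rw [mul_assoc, Involution.mul_self_of_orderOf ht, mul_one]
  choose ψ hψ using hex
  let Ψ : G →* Equiv.Perm (Fin 6) := MonoidHom.mk' ψ (fun g h => hinjA (by
    rw [map_mul, hψ, hψ, hψ, hφ1]))
  have hΨ : Function.Injective Ψ := by
    rw [← MonoidHom.ker_eq_bot_iff, eq_bot_iff]
    intro g hg
    rw [mem_bot]
    have hφg : φ g = 1 := by
      rw [← hψ g, show ψ g = 1 from MonoidHom.mem_ker.mp hg, map_one]
    have hgN : ∀ n : N, g * n = n * g := by
      intro n
      have h1 := MulEquiv.congr_fun hφg (eA n)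
      simp only [φ, MulEquiv.trans_apply, eA.symm_apply_apply, MulAut.one_apply] at h1
      exact mul_inv_eq_iff_eq_mul.mp (congrArg Subtype.val (eA.injective h1))
    have hgw : g ∈ centralizer ({ι e ω} : Set G) :=
      mem_centralizer_singleton_iff.mpr (hgN ⟨_, omega_mem e hN2⟩)
    rw [hω] at hgw
    obtain ⟨p, hp, rfl⟩ := hgw
    rcases cent_eta_omega p ((ι_comm_iff e).mp (hgN ⟨_, hη3⟩))
      (mem_centralizer_singleton_iff.mp hp) with rfl | rfl
    · exact map_one _
    · exfalso
      apply htop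
      rw [eq_top_iff]
      intro y _
      by_cases hy : y ∈ N
      · have h1 := hgN ⟨y, hy⟩
        simp only [ι_tau e ht] at h1
        exact mem_centralizer_singleton_iff.mpr h1.symm
      · have hyt : y * t ∈ N := (Subgroup.mul_mem_iff_of_index_two hN2).mpr (iff_of_false hy htN)
        have h1 := hgN ⟨y * t, hyt⟩
        simp only [ι_tau e ht] at h1
        rw [mem_centralizer_singleton_iff]
        exact mul_right_cancel (b := t) (by rw [← mul_assoc] at h1; exact h1.symm)
  refine ⟨MulEquiv.ofBijective Ψ ((Nat.bijective_iff_injective_and_card Ψ).mpr ⟨hΨ, ?_⟩)⟩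
  rw [← N.index_mul_card, hN2, h360, Nat.card_perm, Nat.card_fin]
  rfl

include e ht htT htc h2 in
/-- Either `t` is central or `G` is symmetric of degree 6. -/
theorem top_or_equiv :
    centralizer ({t} : Set G) = ⊤ ∨ Nonempty (G ≃* Equiv.Perm (Fin 6)) := by
  classical
  by_cases htop : centralizer ({t} : Set G) = ⊤
  · exact Or.inl htop
  right
  have hω := centralizer_omega e T htT htc h2
  have hodd := odd_index e T htT htc
  have hbig : 9 * 48 ≤ Nat.card G := by
    by_contra h
    push Not at h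
    exact htop (top_of_small e ht hω hodd h)
  obtain ⟨N, hNn, hN2, htN⟩ := exists_N e ht T htT htc hω
  obtain ⟨eD⟩ := exists_dihedral e ht hω hN2 htN
  have hmul := N.index_mul_card
  rw [hN2] at hmul
  set w : N := ⟨ι e ω, omega_mem e hN2⟩ with hw
  have hwo : orderOf w = 2 := by
    have : Fact (Nat.Prime 2) := ⟨Nat.prime_two⟩
    rw [Subgroup.orderOf_mk, orderOf_injective _ (ι_injective e)]
    exact orderOf_eq_prime (by rw [pow_two]; exact basic.2.2.1) basic.2.2.2.1
  by_cases hidx : ∀ N1 : Subgroup N, N1.Normal → N1.index ≠ 2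
  · rcases D8.card_eq hwo eD hidx with h | h
    · omega
    · exact equiv_perm_six e ht hω hN2 htN (D8.isSimpleGroup hwo eD hidx) h htop
  · exfalso
    push Not at hidx
    obtain ⟨N1, -, hN12⟩ := hidx
    have hcompl : Cfsg.HasNormalPComplement 2 N1 → False := by
      intro hc
      have hsup := D8.sup_eq_top_of_complement hwo eD hN12 hc
      have hOn : (Cfsg.oddCore G).Normal := Thompson.sSup_normal fun _ h => h.1
      have hO := odd_normal_eq_bot e hω _ hOn Thompson.not_dvd_card_pPrimeCore
      have hON : Cfsg.oddCore N = ⊥ := by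
        have h1 : (Cfsg.oddCore N).map N.subtype ≤ Cfsg.oddCore G :=
          Thompson.map_pPrimeCore_normal_le N
        rw [hO, le_bot_iff, map_eq_bot_iff_of_injective _ N.subtype_injective] at h1
        exact h1
      rw [hON, sup_bot_eq] at hsup
      have h8 := D8.card_centralizer eD
      rw [hsup, Subgroup.card_top] at h8
      omega
    by_cases hc : D8.cyc eD ∈ N1
    · exact hcompl (D8.complement_of_cyc_mem hwo eD hN12 hc)
    rcases D8.complement_or_small hwo eD hN12 hc with h | ⟨h4, hexp, hconj⟩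
    · exact hcompl h
    rcases D8.symm_of_fused hwo eD hN12 h4 hexp hconj with ⟨⟨f⟩⟩ | ⟨⟨f⟩⟩
    · rw [Nat.card_congr f.toEquiv, Nat.card_perm, Nat.card_fin] at hmul
      norm_num [Nat.factorial] at hmul
      omega
    · rw [Nat.card_congr f.toEquiv, Nat.card_perm, Nat.card_fin] at hmul
      norm_num [Nat.factorial] at hmul
      omega

end Cfsg.Agent.InvChar68.SymSix
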