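import Cfsg.Agent.S3209
import Cfsg.Agent.InvChar68.SL2Indecomposable
import Cfsg.Agent.InvChar68.IsolatedInvolution

/-!
# An involution centralizer `(SL(2,q) ∘ SL(2,q))⟨n⟩` with `n² = j`
-/

set_option autoImplicit false

namespace Cfsg.Agent.InvChar68

open Subgroup
open scoped Pointwise commutatorElement

/-- An injective copy of `SL(2, q)`. -/
theorem sl2_copy {G : Type*} [Group G] {F : Type*} [Field F] [Fintype F]
    (hF : Odd (Fintype.card F)) (L : Subgroup G) (e : ↥L ≃* Matrix.SpecialLinearGroup (Fin 2) F)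
    {j : G} (hj : orderOf j = 2) (hjL : j ∈ L) :
    (∀ x u, x ∈ L → u ∈ L → x * x = j → u * x * u⁻¹ = x⁻¹ → u * u = j) ∧
      (∀ a x u, a ∈ L → x ∈ L → u ∈ L → a * a = j → Commute a x → Commute a u → Commute x u) := by
  have h2 := SL2.two_ne_zero_of_odd hF
  have hjj : j * j = 1 := by rw [← pow_two, ← hj]; exact pow_orderOf_eq_one j
  have hjne : j ≠ 1 := fun h => by rw [h, orderOf_one] at hj; omega
  have hej : (e ⟨j, hjL⟩).1 = -1 := by
    refine LinearGroup.eq_neg_one_of_sq_eq_one h2 _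
      (by rw [← map_mul, ← map_one e]; congr 1; exact Subtype.ext hjj) fun h => ?_
    exact hjne (congrArg Subtype.val (e.map_eq_one_iff.mp h))
  have hsq : ∀ a : L, (a : G) * a = j → (e a * e a).1 = -1 := by
    intro a ha
    rw [← map_mul, show a * a = ⟨j, hjL⟩ from Subtype.ext ha, hej]
  refine ⟨fun x u hx hu hxj h => ?_, fun a x u ha hx hu haj hax hau => ?_⟩
  · have h' : e ⟨u, hu⟩ * e ⟨x, hx⟩ * (e ⟨u, hu⟩)⁻¹ = (e ⟨x, hx⟩)⁻¹ := by
      rw [← map_mul, ← map_inv, ← map_mul, ← map_inv]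
      congr 1
      exact Subtype.ext h
    have h'' := SL2.sq_eq_neg_one_of_inverts hF (hsq ⟨x, hx⟩ hxj) h'
    rw [← map_mul] at h''
    exact congrArg Subtype.val (e.injective (Subtype.ext (h''.trans hej.symm)))
  · have hnc : e ⟨a, ha⟩ ∉ Subgroup.center (Matrix.SpecialLinearGroup (Fin 2) F) := by
      intro hc
      obtain ⟨r, hr, hrc⟩ := Matrix.SpecialLinearGroup.mem_center_iff.mp hc
      have h := hsq ⟨a, ha⟩ haj
      rw [Matrix.SpecialLinearGroup.coe_mul, ← hrc] at h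
      have h00 := congrFun (congrFun h 0) 0
      simp [Fintype.card_fin] at hr
      rcases hr with rfl | rfl <;>
        simp [Matrix.scalar_apply, Matrix.mul_apply, Fin.sum_univ_two] at h00 <;>
        exact h2 (by linear_combination h00)
    have h := SL2.commute_of_commute hnc
      (y := e ⟨x, hx⟩) (w := e ⟨u, hu⟩)
      (by
        show e ⟨a, ha⟩ * e ⟨x, hx⟩ = e ⟨x, hx⟩ * e ⟨a, ha⟩
        rw [← map_mul, ← map_mul]; exact congrArg e (Subtype.ext hax.eq))
      (by
        show e ⟨a, ha⟩ * e ⟨u, hu⟩ = e ⟨u, hu⟩ * e ⟨a, ha⟩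
        rw [← map_mul, ← map_mul]; exact congrArg e (Subtype.ext hau.eq))
    have h' : (⟨x, hx⟩ : L) * ⟨u, hu⟩ = ⟨u, hu⟩ * ⟨x, hx⟩ :=
      e.injective (by rw [map_mul, map_mul]; exact h.eq)
    exact congrArg Subtype.val h'

/-- The main theorem. -/
theorem wreath_sup_oddCore {G : Type*} [Group G] [Finite G]
    {F₁ : Type*} [Field F₁] [Fintype F₁] {F₂ : Type*} [Field F₂] [Fintype F₂]
    (hF₁ : Odd (Fintype.card F₁)) (hF₂ : Odd (Fintype.card F₂)) (L₁ L₂ : Subgroup G)
    (e₁ : ↥L₁ ≃* Matrix.SpecialLinearGroup (Fin 2) F₁)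
    (e₂ : ↥L₂ ≃* Matrix.SpecialLinearGroup (Fin 2) F₂)
    (hc : ∀ x ∈ L₁, ∀ y ∈ L₂, x * y = y * x) (j : G) (hj : orderOf j = 2)
    (hm : L₁ ⊓ L₂ = zpowers j) (hle : L₁ ⊔ L₂ ≤ centralizer ({j} : Set G))
    (hi : (L₁ ⊔ L₂).relIndex (centralizer ({j} : Set G)) = 2) (n : G)
    (hn : n ∈ centralizer ({j} : Set G)) (hn2 : n ^ 2 = j)
    (hswap : L₁.map (MulAut.conj n).toMonoidHom = L₂) :
    centralizer ({j} : Set G) ⊔ Cfsg.oddCore G = ⊤ := by
  classical
  have : Fact (Nat.Prime 2) := ⟨Nat.prime_two⟩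
  set C := centralizer ({j} : Set G) with hC
  set σ : G →* G := (MulAut.conj n).toMonoidHom with hσdef
  have hσ : ∀ w, σ w = n * w * n⁻¹ := fun w => rfl
  have hj1 : j ∈ L₁ ⊓ L₂ := hm ▸ mem_zpowers j
  have hjj : j * j = 1 := by rw [← pow_two, ← hj]; exact pow_orderOf_eq_one j
  have hjne : j ≠ 1 := fun h => by rw [h, orderOf_one] at hj; omega
  have hjC : ∀ w ∈ C, Commute w j := fun w hw => mem_centralizer_singleton_iff.mp hw
  have hσ1 : ∀ a ∈ L₁, σ a ∈ L₂ := fun a ha => hswap ▸ ⟨a, ha, rfl⟩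
  have hnn : ∀ w ∈ C, σ (σ w) = w := by
    intro w hw
    rw [hσ, hσ, show n * (n * w * n⁻¹) * n⁻¹ = n ^ 2 * w * (n ^ 2)⁻¹ by rw [pow_two]; group, hn2,
      ← (hjC w hw).eq, mul_inv_cancel_right]
  have hσ2 : ∀ b ∈ L₂, σ b ∈ L₁ := by
    intro b hb
    rw [← hswap] at hb
    obtain ⟨a, ha, rfl⟩ := hb
    show σ (σ a) ∈ L₁
    rw [hnn a (hle (mem_sup_left ha))]; exact ha
  have hσj : σ j = j := by rw [hσ, (hjC n hn).eq, mul_inv_cancel_right]
  have hpair : ∀ w, w ∈ L₁ → w ∈ L₂ → w = 1 ∨ w = j := by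
    intro w h1 h2
    have hw : w ∈ zpowers j := hm ▸ mem_inf.mpr ⟨h1, h2⟩
    obtain ⟨k, rfl⟩ := mem_zpowers_iff.mp hw
    rw [← zpow_mod_orderOf, hj]
    rcases Int.emod_two_eq_zero_or_one k with h | h
    · left; simp [h]
    · right; simp [h]
  have hnorm : L₁ ≤ normalizer (L₂ : Set G) := by
    intro w hw
    rw [mem_normalizer_iff]
    intro v
    constructor
    · intro hv; rw [hc w hw v hv, mul_inv_cancel_right]; exact hv
    · intro hv
      have h := hc w hw _ hv
      have h' : v = w * v * w⁻¹ := by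
        have := congrArg (fun u => w⁻¹ * u) h
        simpa [mul_assoc] using this.symm
      rwa [h']
  have hdec : ∀ w ∈ L₁ ⊔ L₂, ∃ a ∈ L₁, ∃ b ∈ L₂, a * b = w := by
    intro w hw
    have hw' : w ∈ (L₁ : Set G) * (L₂ : Set G) := by
      rw [← coe_mul_of_left_le_normalizer_right L₁ L₂ hnorm]; exact hw
    exact Set.mem_mul.mp hw'
  obtain ⟨uniq₁, ⟨x, hx, hxj⟩, conj₁⟩ := S3209.sl2_facts hF₁ L₁ e₁ hj hj1.1
  obtain ⟨uniq₂, -, conj₂⟩ := S3209.sl2_facts hF₂ L₂ e₂ hj hj1.2
  obtain ⟨inv₁, comm₁⟩ := sl2_copy hF₁ L₁ e₁ hj hj1.1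
  have hxC : x ∈ C := hle (mem_sup_left hx)
  have hxinv : x⁻¹ * x⁻¹ = j := by
    rw [← mul_inv_rev, hxj, inv_eq_of_mul_eq_one_right hjj]
  obtain ⟨u, hu, hux⟩ := conj₁ x hx x⁻¹ (inv_mem hx) hxj hxinv
  have huj : u * u = j := inv₁ x u hx hu hxj hux
  have hxne : x⁻¹ ≠ x := fun h => hjne (by rw [← hxj]; nth_rewrite 1 [← h]; exact inv_mul_cancel x)
  have hnotLn : n ∉ L₁ ⊔ L₂ := by
    intro h
    obtain ⟨a, ha, b, hb, hab⟩ := hdec n h
    have hx2 : σ x ∈ L₁ := by
      have hcb : b * x * b⁻¹ = x := by rw [← hc x hx b hb, mul_inv_cancel_right]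
      rw [hσ, ← hab, show a * b * x * (a * b)⁻¹ = a * (b * x * b⁻¹) * a⁻¹ by group, hcb]
      exact mul_mem (mul_mem ha hx) (inv_mem ha)
    rcases hpair (σ x) hx2 (hσ1 x hx) with h1 | h1
    · have h2 : x = 1 := by rw [← hnn x hxC, h1, map_one]
      exact hjne (by rw [← hxj, h2, one_mul])
    · have h2 : x = j := by rw [← hnn x hxC, h1, hσj]
      exact hjne (by rw [← hxj, h2, hjj])
  -- involutions of `C`
  have hinv : ∀ w ∈ C, w * w = 1 → w ∈ L₁ ⊔ L₂ := by
    intro w hw hww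
    by_contra hwL
    have hdv : (⟨n, hn⟩ : C)⁻¹ * ⟨w, hw⟩ ∈ (L₁ ⊔ L₂).subgroupOf C := by
      rw [mul_mem_iff_of_index_two hi, inv_mem_iff]
      simp [mem_subgroupOf, hnotLn, hwL]
    obtain ⟨a, ha, b, hb, hab⟩ := hdec _ (mem_subgroupOf.mp hdv)
    have hab' : a * b = n⁻¹ * w := hab
    have haC : a ∈ C := hle (mem_sup_left ha)
    have hbC : b ∈ C := hle (mem_sup_right hb)
    have hwe : w = n * (a * b) := by rw [hab', mul_inv_cancel_left]
    have hP : σ b * a ∈ L₁ := mul_mem (hσ2 b hb) ha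
    have hQ : σ a * b ∈ L₂ := mul_mem (hσ1 a ha) hb
    have hn' : ∀ v ∈ C, n⁻¹ * v * n = σ v := by
      intro v hv
      have h := hnn v hv
      rw [hσ] at h
      calc n⁻¹ * v * n = n⁻¹ * (n * σ v * n⁻¹) * n := by rw [h]
        _ = σ v := by group
    have hprod : j * ((σ b * a) * (σ a * b)) = 1 := by
      rw [← hww, hwe]
      symm
      calc n * (a * b) * (n * (a * b)) = n ^ 2 * (n⁻¹ * (a * b) * n) * (a * b) := by
            rw [pow_two]; group
        _ = j * σ (a * b) * (a * b) := by rw [hn2, hn' _ (mul_mem haC hbC)]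
        _ = j * ((σ b * a) * (σ a * b)) := by
            rw [map_mul, show j * (σ a * σ b) * (a * b) = j * ((σ a * (σ b * a)) * b) by group,
              ← hc (σ b * a) hP (σ a) (hσ1 a ha)]
            group
    have hPQ : (σ b * a) * (σ a * b) = j := by
      rw [eq_inv_of_mul_eq_one_right hprod, inv_eq_of_mul_eq_one_right hjj]
    have hP2 : σ b * a ∈ L₂ := by
      rw [eq_mul_inv_of_mul_eq hPQ]; exact mul_mem hj1.2 (inv_mem hQ)
    have hσP : σ (σ b * a) = σ b * a := by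
      rcases hpair _ hP hP2 with h | h <;> rw [h]
      · exact map_one σ
      · exact hσj
    have hQP : σ a * b = σ b * a := by
      have h1 : σ (σ b * a) = b * σ a := by rw [map_mul, hnn b hbC]
      have hcen : ∀ v, v = 1 ∨ v = j → ∀ c ∈ C, c⁻¹ * v * c = v := by
        rintro v (rfl | rfl) c hcC
        · simp
        · rw [mul_assoc, ← (hjC c hcC).eq, inv_mul_cancel_left]
      calc σ a * b = b⁻¹ * (b * σ a) * b := by group
        _ = b⁻¹ * (σ b * a) * b := by rw [← h1, hσP]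
        _ = σ b * a := hcen _ (hpair _ hP hP2) b hbC
    rw [hQP] at hPQ
    rcases hpair _ hP hP2 with h | h <;> rw [h] at hPQ
    · exact hjne (by rw [← hPQ, one_mul])
    · exact hjne (hPQ.symm.trans hjj)
  have hinv' : ∀ w ∈ C, w * w = 1 → w ≠ 1 → w ≠ j →
      ∃ a ∈ L₁, ∃ b ∈ L₂, a * b = w ∧ a * a = j ∧ b * b = j := by
    intro w hw hww hw1 hwj
    obtain ⟨a, ha, b, hb, hab⟩ := hdec w (hinv w hw hww)
    have h : (a * a) * (b * b) = 1 := by
      rw [← hww, ← hab]
      calc (a * a) * (b * b) = a * (a * b) * b := by group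
        _ = a * (b * a) * b := by rw [hc a ha b hb]
        _ = (a * b) * (a * b) := by group
    have hmem : a * a ∈ L₂ := by
      rw [eq_inv_of_mul_eq_one_left h]; exact inv_mem (mul_mem hb hb)
    rcases hpair _ (mul_mem ha ha) hmem with h' | h'
    · exfalso
      rw [h', one_mul] at h
      rcases uniq₁ a ha h' with rfl | rfl <;> rcases uniq₂ b hb h with rfl | rfl <;>
        simp_all
    · refine ⟨a, ha, b, hb, hab, h', ?_⟩
      rw [h'] at h
      rw [eq_inv_of_mul_eq_one_right h, inv_eq_of_mul_eq_one_right hjj]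
  set s := x * σ x with hsdef
  have hsC : s ∈ C := hle (mul_mem_sup hx (hσ1 x hx))
  have hσxj : σ x * σ x = j := by rw [← map_mul, hxj, hσj]
  have hconjs : ∀ w ∈ C, w * w = 1 → w ≠ 1 → w ≠ j → IsConj s w := by
    intro w hw hww hw1 hwj
    obtain ⟨a, ha, b, hb, hab, haj, hbj⟩ := hinv' w hw hww hw1 hwj
    obtain ⟨g1, hg1, eg1⟩ := conj₁ x hx a ha hxj haj
    obtain ⟨g2, hg2, eg2⟩ := conj₂ (σ x) (hσ1 x hx) b hb hσxj hbj
    refine isConj_iff.mpr ⟨g1 * g2, ?_⟩
    have q1 : g2 * x * g2⁻¹ = x := by rw [← hc x hx g2 hg2, mul_inv_cancel_right]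
    have q2 : g1 * b * g1⁻¹ = b := by rw [hc g1 hg1 b hb, mul_inv_cancel_right]
    calc g1 * g2 * (x * σ x) * (g1 * g2)⁻¹
        = g1 * (g2 * x * g2⁻¹ * (g2 * σ x * g2⁻¹)) * g1⁻¹ := by group
      _ = (g1 * x * g1⁻¹) * (g1 * b * g1⁻¹) := by rw [q1, eg2]; group
      _ = a * b := by rw [eg1, q2]
      _ = w := hab
  -- a Sylow 2-subgroup of `C` and of `G`
  let T₀ : Sylow 2 C := Classical.arbitrary _
  set T := (T₀ : Subgroup C).map C.subtype with hT
  have hTC : T ≤ C := map_subtype_le _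
  have hTcard : Nat.card T = Nat.card (T₀ : Subgroup C) :=
    (Nat.card_congr ((T₀ : Subgroup C).equivMapOfInjective _ C.subtype_injective).toEquiv).symm
  have hT2 : IsPGroup 2 T := T₀.2.map _
  have hjT : j ∈ T := by
    have hjm : (⟨j, mem_centralizer_singleton_iff.mpr rfl⟩ : C) ∈ center C :=
      mem_center_iff.mpr fun w => Subtype.ext (hjC w w.2).eq
    set jC : C := ⟨j, mem_centralizer_singleton_iff.mpr rfl⟩
    have hn' : (zpowers jC).Normal := ⟨fun v hv g => by
      have : v ∈ center C := (zpowers_le.mpr hjm) hv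
      rw [mem_center_iff.mp this g, mul_inv_cancel_right]; exact hv⟩
    have hp : IsPGroup 2 (zpowers jC) :=
      IsPGroup.of_card (n := 1) (by rw [Nat.card_zpowers, ← Subgroup.orderOf_coe, hj, pow_one])
    exact ⟨jC, ((Thompson.le_pCore hn' hp).trans (Thompson.pCore_le_sylow T₀)) (mem_zpowers jC), rfl⟩
  -- no further involution is central in a Sylow 2-subgroup of `C`
  have hnocent : ∀ (R : Subgroup G), R ≤ C → IsPGroup 2 R → Nat.card T ≤ Nat.card R →
      ∀ w ∈ C, w * w = 1 → w ≠ 1 → (∀ r ∈ R, Commute w r) → w = j := by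
    intro R hRC hR2 hRcard w hw hww hw1 hwR
    by_contra hwj
    set H8 := zpowers x ⊔ zpowers u
    have hH8C : H8 ≤ C :=
      sup_le (zpowers_le.mpr hxC) (zpowers_le.mpr (hle (mem_sup_left hu)))
    have h8 : IsPGroup 2 H8 := by
      have hx4 : IsPGroup 2 (zpowers x) := by
        obtain ⟨i, -, hi⟩ := (Nat.dvd_prime_pow Nat.prime_two (m := 2)).mp
          (orderOf_dvd_of_pow_eq_one (x := x) (n := 2 ^ 2)
            (by rw [show (2:ℕ) ^ 2 = 2 * 2 by norm_num, pow_mul, pow_two x, hxj, pow_two, hjj]))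
        exact IsPGroup.of_card (n := i) (by rw [Nat.card_zpowers, hi])
      have hu4 : IsPGroup 2 (zpowers u) := by
        obtain ⟨i, -, hi⟩ := (Nat.dvd_prime_pow Nat.prime_two (m := 2)).mp
          (orderOf_dvd_of_pow_eq_one (x := u) (n := 2 ^ 2)
            (by rw [show (2:ℕ) ^ 2 = 2 * 2 by norm_num, pow_mul, pow_two u, huj, pow_two, hjj]))
        exact IsPGroup.of_card (n := i) (by rw [Nat.card_zpowers, hi])
      rw [show H8 = zpowers u ⊔ zpowers x from sup_comm _ _]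
      refine hu4.to_sup_of_normal_right' hx4 (zpowers_le.mpr (mem_normalizer_fintype ?_))
      intro v hv
      obtain ⟨k, rfl⟩ := mem_zpowers_iff.mp hv
      rw [← conj_zpow, hux]
      exact zpow_mem (inv_mem (mem_zpowers x)) k
    have hRc : IsPGroup 2 (R.subgroupOf C) := hR2.comap_subtype
    obtain ⟨Q₁, hQ₁⟩ := hRc.exists_le_sylow
    have hQ₁R : (Q₁ : Subgroup C) = R.subgroupOf C := by
      refine (eq_of_le_of_card_ge hQ₁ ?_).symm
      rw [Nat.card_congr (subgroupOfEquivOfLe hRC).toEquiv,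
        Q₁.card_eq_multiplicity, ← T₀.card_eq_multiplicity, ← hTcard]
      exact hRcard
    have h8c : IsPGroup 2 (H8.subgroupOf C) := h8.comap_subtype
    obtain ⟨Q₂, hQ₂⟩ := h8c.exists_le_sylow
    obtain ⟨d, hd⟩ := MulAction.exists_smul_eq C Q₂ Q₁
    have hmove : ∀ v ∈ H8, Commute ((d : G)⁻¹ * w * d) v := by
      intro v hv
      have hv' : (⟨v, hH8C hv⟩ : C) ∈ (Q₂ : Subgroup C) := hQ₂ (mem_subgroupOf.mpr hv)
      have h1 : d * ⟨v, hH8C hv⟩ * d⁻¹ ∈ (Q₁ : Subgroup C) := by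
        rw [← hd, Sylow.coe_subgroup_smul, mem_pointwise_smul_iff_inv_smul_mem]
        simpa [MulAut.smul_def, mul_assoc] using hv'
      rw [hQ₁R, mem_subgroupOf] at h1
      have h2 := (hwR _ h1).eq
      simp only [Subgroup.coe_mul, Subgroup.coe_inv] at h2
      show (d : G)⁻¹ * w * d * v = v * ((d : G)⁻¹ * w * d)
      calc (d : G)⁻¹ * w * d * v = (d : G)⁻¹ * (w * ((d : G) * v * (d : G)⁻¹)) * d := by group
        _ = (d : G)⁻¹ * ((d : G) * v * (d : G)⁻¹ * w) * d := by rw [h2]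
        _ = v * ((d : G)⁻¹ * w * d) := by group
    set w' := (d : G)⁻¹ * w * d with hw'
    have hw'C : w' ∈ C := mul_mem (mul_mem (inv_mem d.2) hw) d.2
    have hww' : w' * w' = 1 := by
      rw [hw', show (d : G)⁻¹ * w * d * ((d : G)⁻¹ * w * d) = (d : G)⁻¹ * (w * w) * d by group, hww]
      group
    have hw'1 : w' ≠ 1 := fun h => hw1 (by
      rw [show w = (d : G) * w' * (d : G)⁻¹ by rw [hw']; group, h]; group)
    have hw'j : w' ≠ j := fun h => hwj (by
      rw [show w = (d : G) * w' * (d : G)⁻¹ by rw [hw']; group, h, (hjC d d.2).eq,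
        mul_inv_cancel_right])
    obtain ⟨a, ha, b, hb, hab, haj, -⟩ := hinv' w' hw'C hww' hw'1 hw'j
    have hcomm : ∀ v ∈ L₁, Commute w' v → Commute a v := by
      intro v hv h
      have hae : a = w' * b⁻¹ := by rw [← hab, mul_inv_cancel_right]
      rw [hae]
      exact h.mul_left (Commute.inv_left (hc v hv b hb).symm)
    have hxu := comm₁ a x u ha hx hu haj
      (hcomm x hx (hmove x (mem_sup_left (mem_zpowers x))))
      (hcomm u hu (hmove u (mem_sup_right (mem_zpowers u))))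
    rw [← hxu.eq, mul_inv_cancel_right] at hux
    exact hxne hux.symm
  -- `T` is a Sylow 2-subgroup of `G`
  obtain ⟨P, hP⟩ := hT2.exists_le_sylow
  have hmax : ∀ R : Subgroup G, R ≤ C → IsPGroup 2 R → Nat.card R ≤ Nat.card T := by
    intro R hRC hR2
    have hRc : IsPGroup 2 (R.subgroupOf C) := hR2.comap_subtype
    obtain ⟨Q, hQ⟩ := hRc.exists_le_sylow
    rw [hTcard, T₀.card_eq_multiplicity, ← Q.card_eq_multiplicity]
    refine le_trans ?_ (card_le_of_le hQ)
    rw [Nat.card_congr (subgroupOfEquivOfLe hRC).toEquiv]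
  have hPC : (P : Subgroup G) ≤ C := by
    have : Nontrivial (P : Subgroup G) := ⟨⟨⟨j, hP hjT⟩, 1, fun h => hjne (congrArg Subtype.val h)⟩⟩
    have hnt := P.2.center_nontrivial
    obtain ⟨k, hk⟩ := IsPGroup.iff_card.mp (P.2.to_subgroup (center (P : Subgroup G)))
    have h2 : 2 ∣ Nat.card (center (P : Subgroup G)) := by
      have h1 : 1 < Nat.card (center (P : Subgroup G)) := Finite.one_lt_card
      rw [hk] at h1 ⊢
      rcases Nat.eq_zero_or_pos k with rfl | h
      · simp at h1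
      · exact dvd_pow_self 2 h.ne'
    obtain ⟨z, hz⟩ := exists_prime_orderOf_dvd_card' 2 h2
    set w : G := ((z : (P : Subgroup G)) : G)
    have hwo : orderOf w = 2 := by rw [Subgroup.orderOf_coe, Subgroup.orderOf_coe, hz]
    have hwc : ∀ r ∈ (P : Subgroup G), Commute w r := fun r hr =>
      (congrArg Subtype.val (mem_center_iff.mp z.2 ⟨r, hr⟩)).symm
    have hwC : w ∈ C := mem_centralizer_singleton_iff.mpr (hwc j (hP hjT)).eq
    have hwj : w = j := hnocent T hTC hT2 le_rfl w hwC (Involution.mul_self_of_orderOf hwo)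
      (Involution.ne_one_of_orderOf hwo) fun r hr => hwc r (hP hr)
    intro r hr
    exact mem_centralizer_singleton_iff.mpr (hwj ▸ hwc r hr).eq.symm
  have hPT : Nat.card (P : Subgroup G) = Nat.card T :=
    le_antisymm (hmax _ hPC P.2) (card_le_of_le hP)
  -- `j` is not conjugate to `s`
  have hns : ¬ IsConj j s := by
    intro hjs
    obtain ⟨g, hg⟩ := isConj_iff.mp hjs
    -- a 2-element of maximal order commuting with `x`
    have : Fintype G := Fintype.ofFinite G
    obtain ⟨a₁, ha₁, hmaxa⟩ := Finset.exists_max_image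
      (Finset.univ.filter fun a : G => a ∈ L₁ ∧ Commute a x ∧ ∃ i, orderOf a = 2 ^ i) orderOf
      ⟨x, by
        simp only [Finset.mem_filter, Finset.mem_univ, true_and]
        refine ⟨hx, Commute.refl x, 2, orderOf_eq_prime_pow (p := 2) (n := 1) ?_ ?_⟩
        · rw [pow_one, pow_two, hxj]; exact hjne
        · rw [show (2 : ℕ) ^ (1 + 1) = 2 * 2 by norm_num, pow_mul, pow_two x, hxj, pow_two, hjj]⟩
    simp only [Finset.mem_filter, Finset.mem_univ, true_and] at ha₁ hmaxa
    obtain ⟨ha₁L, ha₁x, k, hk⟩ := ha₁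
    have hx4 : orderOf x = 4 :=
      orderOf_eq_prime_pow (p := 2) (n := 1) (by rw [pow_one, pow_two, hxj]; exact hjne)
        (by rw [show (2 : ℕ) ^ (1 + 1) = 2 * 2 by norm_num, pow_mul, pow_two x, hxj, pow_two, hjj])
    have hk2 : 2 ≤ k := by
      have h := hmaxa x ⟨hx, Commute.refl x, 2, hx4⟩
      rw [hx4, hk] at h
      by_contra hlt
      interval_cases k <;> simp_all
    have hall : ∀ a ∈ L₁, Commute a x → (∃ i, a ^ 2 ^ i = 1) → a ^ 2 ^ k = 1 := by
      rintro a ha hax ⟨i, hi⟩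
      obtain ⟨i', -, hi'⟩ := (Nat.dvd_prime_pow Nat.prime_two).mp (orderOf_dvd_of_pow_eq_one hi)
      have h := hmaxa a ⟨ha, hax, i', hi'⟩
      rw [hi', hk] at h
      apply orderOf_dvd_iff_pow_eq_one.mp
      rw [hi']
      exact Nat.pow_dvd_pow 2 ((Nat.pow_le_pow_iff_right (by norm_num)).mp h)
    have ha₁j : a₁ ^ 2 ^ (k - 1) = j := by
      have h1 : a₁ ^ 2 ^ (k - 1) * a₁ ^ 2 ^ (k - 1) = 1 := by
        rw [← pow_add, ← two_mul, ← pow_succ', show k - 1 + 1 = k by omega, ← hk, pow_orderOf_eq_one]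
      rcases uniq₁ _ (pow_mem ha₁L _) h1 with h | h
      · exfalso
        have := Nat.le_of_dvd (by positivity) (orderOf_dvd_of_pow_eq_one h)
        rw [hk] at this
        exact absurd this (not_le.mpr (Nat.pow_lt_pow_right (by norm_num) (by omega)))
      · exact h
    -- `u` inverts `a₁`
    have hua : u * a₁ * u⁻¹ = a₁⁻¹ := by
      have h1 : u * a₁ * x * (u * a₁)⁻¹ = x⁻¹ := by
        rw [show u * a₁ * x * (u * a₁)⁻¹ = u * (a₁ * x * a₁⁻¹) * u⁻¹ by group, ha₁x.eq,
          mul_inv_cancel_right, hux]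
      have h2 := inv₁ x (u * a₁) hx (mul_mem hu ha₁L) hxj h1
      have h3 : a₁ * u * a₁ = u := by
        have := congrArg (fun v => u⁻¹ * v) (h2.trans huj.symm)
        simpa [mul_assoc] using this
      rw [mul_inv_eq_iff_eq_mul]
      calc u * a₁ = a₁⁻¹ * (a₁ * u * a₁) := by group
        _ = a₁⁻¹ * u := by rw [h3]
    set τ := u * σ u with hτ
    have hτconj : ∀ a ∈ L₁, τ * a * τ⁻¹ = u * a * u⁻¹ := by
      intro a ha
      rw [hτ, show u * σ u * a * (u * σ u)⁻¹ = u * (σ u * a * (σ u)⁻¹) * u⁻¹ by group,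
        ← hc a ha (σ u) (hσ1 u hu), mul_inv_cancel_right]
    have hττ : τ * τ = 1 := by
      calc u * σ u * (u * σ u) = u * (σ u * u) * σ u := by group
        _ = u * (u * σ u) * σ u := by rw [← hc u hu (σ u) (hσ1 u hu)]
        _ = (u * u) * σ (u * u) := by rw [map_mul]; group
        _ = 1 := by rw [huj, hσj, hjj]
    have hτs : Commute τ s := by
      show τ * s = s * τ
      rw [← mul_inv_eq_iff_eq_mul]
      have hy : τ * σ x * τ⁻¹ = (σ x)⁻¹ := by
        rw [hτ, show u * σ u * σ x * (u * σ u)⁻¹ = u * (σ (u * x * u⁻¹)) * u⁻¹ by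
          rw [map_mul, map_mul, map_inv]; group, hux, map_inv,
          hc u hu _ (inv_mem (hσ1 x hx)), mul_inv_cancel_right]
      rw [show τ * s * τ⁻¹ = (τ * x * τ⁻¹) * (τ * σ x * τ⁻¹) by rw [hsdef]; group, hτconj x hx, hux, hy]
      have hss : x⁻¹ * (σ x)⁻¹ = s := by
        have hxi : x⁻¹ = x * j := inv_eq_of_mul_eq_one_right (by rw [← mul_assoc, hxj, hjj])
        have hyi : (σ x)⁻¹ = j * σ x :=
          inv_eq_of_mul_eq_one_left (by rw [mul_assoc, hσxj, hjj])
        rw [hxi, hyi, hsdef, mul_assoc, ← mul_assoc j j, hjj, one_mul]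
      exact hss
    have hτC : τ ∈ C := hle (mul_mem_sup hu (hσ1 u hu))
    set R₀ := zpowers τ ⊔ zpowers a₁
    have hR₀C : R₀ ≤ C ⊓ centralizer ({s} : Set G) := by
      refine sup_le (zpowers_le.mpr (mem_inf.mpr ⟨hτC, mem_centralizer_singleton_iff.mpr hτs.eq⟩))
        (zpowers_le.mpr (mem_inf.mpr ⟨hle (mem_sup_left ha₁L), mem_centralizer_singleton_iff.mpr ?_⟩))
      rw [hsdef, ← mul_assoc, ha₁x.eq, mul_assoc, hc a₁ ha₁L _ (hσ1 x hx), ← mul_assoc]
    have hR₀2 : IsPGroup 2 R₀ := by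
      refine (IsPGroup.of_card (n := 1) ?_).to_sup_of_normal_right'
        (IsPGroup.of_card (n := k) (by rw [Nat.card_zpowers, hk]))
        (zpowers_le.mpr (mem_normalizer_fintype fun v hv => ?_))
      · rw [Nat.card_zpowers, pow_one]
        refine orderOf_eq_prime (by rw [pow_two, hττ]) fun h => hxne ?_
        rw [← hux, ← hτconj x hx, h]; group
      · obtain ⟨i, rfl⟩ := mem_zpowers_iff.mp hv
        rw [← conj_zpow, hτconj a₁ ha₁L, hua]
        exact zpow_mem (inv_mem (mem_zpowers a₁)) i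
    obtain ⟨R', hR'⟩ := (hR₀2.comap_subtype :
      IsPGroup 2 (R₀.subgroupOf (C ⊓ centralizer ({s} : Set G)))).exists_le_sylow
    set R := (R' : Subgroup ↥(C ⊓ centralizer ({s} : Set G))).map
      (C ⊓ centralizer ({s} : Set G)).subtype with hR
    have hRle : R ≤ C ⊓ centralizer ({s} : Set G) := map_subtype_le _
    have hR2 : IsPGroup 2 R := R'.2.map _
    have hR₀R : R₀ ≤ R := fun v hv => ⟨⟨v, hR₀C hv⟩, hR' (mem_subgroupOf.mpr hv), rfl⟩
    have hRmax : ∀ R'' : Subgroup G, R'' ≤ C ⊓ centralizer ({s} : Set G) → IsPGroup 2 R'' → R ≤ R'' →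
        R'' = R := by
      intro R'' hle'' h2'' hsub
      have h := R'.is_maximal' (h2''.comap_subtype : IsPGroup 2 (R''.subgroupOf _))
        (fun v hv => mem_subgroupOf.mpr (hsub ⟨v, hv, rfl⟩))
      rw [hR, ← h]
      exact (map_comap_eq_self (by rw [range_subtype]; exact hle'')).symm
    -- intrinsic description of `j`
    have hvals : ∀ w ∈ R, ∀ w' ∈ R, w * w = 1 → w' * w' = 1 →
        ⁅w, w'⁆ ^ 2 ^ (k - 2) = 1 ∨ ⁅w, w'⁆ ^ 2 ^ (k - 2) = j := by
      intro w hw w' hw' hww hww'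
      set v := w * w' with hv
      have hcm : ⁅w, w'⁆ = v ^ 2 := by
        rw [commutatorElement_def, inv_eq_of_mul_eq_one_right hww,
          inv_eq_of_mul_eq_one_right hww', pow_two, hv]
        group
      have hvL : v ∈ L₁ ⊔ L₂ := mul_mem (hinv w (mem_inf.mp (hRle hw)).1 hww)
        (hinv w' (mem_inf.mp (hRle hw')).1 hww')
      obtain ⟨a, ha, b, hb, hab⟩ := hdec v hvL
      obtain ⟨M, hM⟩ := hR2 ⟨v, mul_mem hw hw'⟩
      have hM' : v ^ 2 ^ M = 1 := congrArg Subtype.val hM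
      have hvs : v * s = s * v :=
        mem_centralizer_singleton_iff.mp (mem_inf.mp (hRle (mul_mem hw hw'))).2
      have hcab : Commute a b := hc a ha b hb
      set y := σ x with hy
      have hyL : y ∈ L₂ := hσ1 x hx
      have heq : x⁻¹ * (a * x * a⁻¹) = y * (b * y * b⁻¹)⁻¹ := by
        have h1 : a * x * a⁻¹ * (b * y * b⁻¹) = x * y := by
          have hb1 : b * x * b⁻¹ = x := by rw [← hc x hx b hb, mul_inv_cancel_right]
          calc a * x * a⁻¹ * (b * y * b⁻¹) = a * (b * x * b⁻¹) * a⁻¹ * (b * y * b⁻¹) := by rw [hb1]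
            _ = (a * b) * (x * (b⁻¹ * (a⁻¹ * b)) * y) * b⁻¹ := by group
            _ = (a * b) * (x * (a⁻¹ * y)) * b⁻¹ := by
                rw [show b⁻¹ * (a⁻¹ * b) = a⁻¹ by
                  rw [(hcab.inv_left).eq, inv_mul_cancel_left]]
                group
            _ = (a * b) * (x * y) * (a * b)⁻¹ := by
                rw [hc a⁻¹ (inv_mem ha) y hyL, mul_inv_rev a b, ← hcab.inv_inv.eq]; group
            _ = x * y := by
                rw [hab, ← hsdef, hvs, mul_inv_cancel_right]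
        rw [eq_mul_inv_iff_mul_eq, mul_assoc, inv_mul_eq_iff_eq_mul, h1]
      have hl : x⁻¹ * (a * x * a⁻¹) ∈ L₁ := mul_mem (inv_mem hx) (mul_mem (mul_mem ha hx) (inv_mem ha))
      have hl2 : x⁻¹ * (a * x * a⁻¹) ∈ L₂ := by
        rw [heq]; exact mul_mem hyL (inv_mem (mul_mem (mul_mem hb hyL) (inv_mem hb)))
      have habM : a ^ 2 ^ M * b ^ 2 ^ M = 1 := by rw [← hcab.mul_pow, hab, hM']
      rcases hpair _ hl hl2 with h | h
      · -- both centralise
        have hax : Commute a x := by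
          rw [inv_mul_eq_one] at h
          exact mul_inv_eq_iff_eq_mul.mp h.symm
        have hby : Commute b y := by
          rw [h] at heq
          exact mul_inv_eq_iff_eq_mul.mp (mul_inv_eq_one.mp heq.symm).symm
        have haM : a ^ 2 ^ (M + 1) = 1 := by
          have hmem : a ^ 2 ^ M ∈ L₂ := by
            rw [eq_inv_of_mul_eq_one_left habM]; exact inv_mem (pow_mem hb _)
          rw [pow_succ, pow_mul]
          rcases hpair _ (pow_mem ha _) hmem with h' | h' <;> rw [h', pow_two]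
          · exact one_mul 1
          · exact hjj
        have hbM : b ^ 2 ^ (M + 1) = 1 := by
          have h' : v ^ 2 ^ (M + 1) = 1 := by rw [pow_succ, pow_mul, hM', one_pow]
          rwa [← hab, hcab.mul_pow, haM, one_mul] at h'
        have hak := hall a ha hax ⟨_, haM⟩
        have hσb : Commute (σ b) x := by
          have h' := hby.map σ
          rwa [hy, hnn x hxC] at h'
        have hbk : b ^ 2 ^ k = 1 := by
          have h' := hall (σ b) (hσ2 b hb) hσb ⟨M + 1, by rw [← map_pow, hbM, map_one]⟩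
          rw [← map_pow] at h'
          rw [← hnn (b ^ 2 ^ k) (hle (mem_sup_right (pow_mem hb _))), h', map_one]
        have hpow : ⁅w, w'⁆ ^ 2 ^ (k - 2) = a ^ 2 ^ (k - 1) * b ^ 2 ^ (k - 1) := by
          rw [hcm, ← pow_mul, ← pow_succ', show k - 2 + 1 = k - 1 by omega, ← hab, hcab.mul_pow]
        have hk1 : 2 ^ (k - 1) + 2 ^ (k - 1) = 2 ^ k := by
          rw [← two_mul, ← pow_succ', show k - 1 + 1 = k by omega]
        rw [hpow]
        rcases uniq₁ _ (pow_mem ha _) (by rw [← pow_add, hk1, hak]) with h1 | h1 <;>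
          rcases uniq₂ _ (pow_mem hb _) (by rw [← pow_add, hk1, hbk]) with h2 | h2 <;>
          simp [h1, h2, hjj]
      · -- both invert
        left
        have hinvx : a * x * a⁻¹ = x⁻¹ := by
          have h1 : a * x * a⁻¹ = x * j := by rw [← h, mul_inv_cancel_left]
          rw [h1]
          exact (inv_eq_of_mul_eq_one_right (by
            rw [← mul_assoc, hxj, hjj])).symm
        have ha2 : a * a = j := inv₁ x a hx ha hxj hinvx
        have hbinv : b * y * b⁻¹ = y⁻¹ := by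
          rw [h, eq_mul_inv_iff_mul_eq] at heq
          have h1 : b * y * b⁻¹ = j * y := by
            have h2 := congrArg (fun v => j * v) heq
            simpa [← mul_assoc, hjj] using h2
          rw [h1]
          exact (inv_eq_of_mul_eq_one_left (by rw [mul_assoc, hy, hσxj, hjj])).symm
        have hσbinv : σ b * x * (σ b)⁻¹ = x⁻¹ := by
          have h' := congrArg σ hbinv
          rwa [map_mul, map_mul, map_inv, map_inv, hy, hnn x hxC] at h'
        have hb2 : b * b = j := by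
          have h' := inv₁ x (σ b) hx (hσ2 b hb) hxj hσbinv
          rw [← map_mul] at h'
          rw [← hnn (b * b) (hle (mem_sup_right (mul_mem hb hb))), h', hσj]
        rw [hcm, ← hab, hcab.mul_pow, pow_two, pow_two, ha2, hb2, hjj, one_pow]
    have hval1 : ⁅τ, a₁ * τ⁆ ^ 2 ^ (k - 2) = j := by
      have hinv' : τ * a₁ * τ⁻¹ = a₁⁻¹ := by rw [hτconj a₁ ha₁L, hua]
      have h1 : ⁅τ, a₁ * τ⁆ = (a₁ ^ 2)⁻¹ := by
        rw [commutatorElement_def]
        calc τ * (a₁ * τ) * τ⁻¹ * (a₁ * τ)⁻¹ = (τ * a₁ * τ⁻¹) * a₁⁻¹ := by group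
          _ = (a₁ ^ 2)⁻¹ := by rw [hinv', pow_two, mul_inv_rev]
      rw [h1, inv_pow, ← pow_mul, ← pow_succ', show k - 2 + 1 = k - 1 by omega, ha₁j,
        inv_eq_of_mul_eq_one_right hjj]
    -- a Sylow 2-subgroup of `C(s)` containing `R`
    set Cs := centralizer ({s} : Set G) with hCs
    have hCmap : C.map (MulAut.conj g).toMonoidHom ≤ Cs := by
      rintro _ ⟨c, hcC, rfl⟩
      rw [hCs, mem_centralizer_singleton_iff, ← hg]
      have e1 : (MulAut.conj g).toMonoidHom c * (g * j * g⁻¹) = g * (c * j) * g⁻¹ := by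
        show g * c * g⁻¹ * (g * j * g⁻¹) = _; group
      rw [e1, (hjC c hcC).eq]
      show g * (j * c) * g⁻¹ = g * j * g⁻¹ * (g * c * g⁻¹)
      group
    obtain ⟨S', hS'⟩ := ((hR2.comap_subtype) : IsPGroup 2 (R.subgroupOf Cs)).exists_le_sylow
    set S := (S' : Subgroup Cs).map Cs.subtype with hS
    have hScard : Nat.card T ≤ Nat.card S := by
      have hp : IsPGroup 2 ((T.map (MulAut.conj g).toMonoidHom).subgroupOf Cs) :=
        (hT2.map _).comap_subtype
      obtain ⟨S'', hS''⟩ := hp.exists_le_sylow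
      rw [hS, ← Nat.card_congr ((S' : Subgroup Cs).equivMapOfInjective _ Cs.subtype_injective).toEquiv,
        S'.card_eq_multiplicity, ← S''.card_eq_multiplicity]
      refine le_trans (le_of_eq ?_) (card_le_of_le hS'')
      rw [Nat.card_congr (subgroupOfEquivOfLe ((Subgroup.map_mono hTC).trans hCmap)).toEquiv,
        card_map_of_injective (f := (MulAut.conj g).toMonoidHom) (MulAut.conj g).injective]
    have hRS : R ≤ S := fun v hv => ⟨⟨v, (mem_inf.mp (hRle hv)).2⟩, hS' (mem_subgroupOf.mpr hv), rfl⟩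
    have hS2 : IsPGroup 2 S := S'.2.map _
    have hlt : R.subgroupOf S ≠ ⊤ := by
      intro htop
      have hSR : S ≤ R := subgroupOf_eq_top.mp htop
      have hsne : s ≠ 1 := fun h => hjne (by
        rw [h] at hg
        rw [show j = g⁻¹ * (g * j * g⁻¹) * g by group, hg]; group)
      have hss : s * s = 1 := by
        rw [← hg, show g * j * g⁻¹ * (g * j * g⁻¹) = g * (j * j) * g⁻¹ by group, hjj]; group
      have hsj : s = j := hnocent R (fun v hv => (mem_inf.mp (hRle hv)).1) hR2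
        (hScard.trans (card_le_of_le hSR)) s hsC hss hsne
        (fun r hr => (mem_centralizer_singleton_iff.mp (mem_inf.mp (hRle hr)).2).symm)
      have hx2 : σ x = x⁻¹ * j := by rw [← hsj, hsdef, inv_mul_cancel_left]
      rcases hpair (σ x) (by rw [hx2]; exact mul_mem (inv_mem hx) hj1.1) (hσ1 x hx) with h1 | h1
      · exact hjne (by rw [← hσxj, h1, one_mul])
      · exact hjne (by rw [← hσxj, h1, hjj])
    have : Group.IsNilpotent S := hS2.isNilpotent
    have hgrow := (Group.normalizerCondition_of_isNilpotent (G := S)) (R.subgroupOf S) (lt_top_iff_ne_top.mpr hlt)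
    obtain ⟨r, hr, hrR⟩ := SetLike.exists_of_lt hgrow
    rw [mem_subgroupOf] at hrR
    have hrn : ∀ v ∈ R, (r : G) * v * (r : G)⁻¹ ∈ R := fun v hv =>
      mem_subgroupOf.mp ((mem_normalizer_iff.mp hr ⟨v, hRS hv⟩).mp (mem_subgroupOf.mpr hv))
    have hτR : τ ∈ R := hR₀R (mem_sup_left (mem_zpowers τ))
    have ha1R : a₁ * τ ∈ R := mul_mem (hR₀R (mem_sup_right (mem_zpowers a₁))) hτR
    have hat : (a₁ * τ) * (a₁ * τ) = 1 := by
      have h1 : τ * a₁ * τ⁻¹ = a₁⁻¹ := by rw [hτconj a₁ ha₁L, hua]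
      calc (a₁ * τ) * (a₁ * τ) = a₁ * (τ * a₁ * τ⁻¹) * (τ * τ) := by group
        _ = 1 := by rw [h1, hττ]; group
    have hrj : (r : G) * j * (r : G)⁻¹ = j := by
      have hmap : (r : G) * (⁅τ, a₁ * τ⁆ ^ 2 ^ (k - 2)) * (r : G)⁻¹ =
          ⁅(r : G) * τ * (r : G)⁻¹, (r : G) * (a₁ * τ) * (r : G)⁻¹⁆ ^ 2 ^ (k - 2) := by
        show (MulAut.conj (r : G)) (⁅τ, a₁ * τ⁆ ^ 2 ^ (k - 2)) = _
        rw [map_pow, map_commutatorElement]
        rfl
      rcases hvals _ (hrn τ hτR) _ (hrn _ ha1R)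
        (by rw [show (r : G) * τ * (r : G)⁻¹ * ((r : G) * τ * (r : G)⁻¹) =
          (r : G) * (τ * τ) * (r : G)⁻¹ by group, hττ]; group)
        (by rw [show (r : G) * (a₁ * τ) * (r : G)⁻¹ * ((r : G) * (a₁ * τ) * (r : G)⁻¹) =
          (r : G) * ((a₁ * τ) * (a₁ * τ)) * (r : G)⁻¹ by group, hat]; group) with h | h
      · exfalso
        apply hjne
        rw [← hval1]
        rw [← hmap] at h
        exact conj_eq_one_iff.mp h
      · rw [← hmap, hval1] at h; exact h
    have hrC : (r : G) ∈ C := mem_centralizer_singleton_iff.mpr (mul_inv_eq_iff_eq_mul.mp hrj)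
    have hrCs : (r : G) ∈ Cs := (map_subtype_le _) r.2
    have hbig := hRmax (R ⊔ zpowers (r : G))
      (sup_le hRle (zpowers_le.mpr (mem_inf.mpr ⟨hrC, hrCs⟩)))
      (hS2.to_le (sup_le hRS (zpowers_le.mpr r.2))) le_sup_left
    exact hrR (hbig ▸ mem_sup_right (mem_zpowers (r : G)))
  refine sup_oddCore_eq_top P j hj (hP hjT) fun g hg => ?_
  by_contra hne
  have hw1 : g * j * g⁻¹ ≠ 1 := fun h => hjne (conj_eq_one_iff.mp h)
  have hww : g * j * g⁻¹ * (g * j * g⁻¹) = 1 := by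
    rw [show g * j * g⁻¹ * (g * j * g⁻¹) = g * (j * j) * g⁻¹ by group, hjj]; group
  exact hns ((isConj_iff.mpr ⟨g, rfl⟩).trans (hconjs _ (hPC hg) hww hw1 hne).symm)

end Cfsg.Agent.InvChar68
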